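import Groth.Agent.TateGlob.K828.BigCoh
import Groth.Agent.TateGlob.K828.Cech

/-!
# Cohomology over the base and over the terminal object of the big site

`absE : BigSite.H K S F n ≃+ (bigCoh K S).H F n (Over.mk (𝟙 S))`, compatible with restriction to the objects of the
big site: `res_absE`.
-/

set_option autoImplicit false

universe u

open CategoryTheory CategoryTheory.Limits AlgebraicGeometry Opposite
open K828 K828.Kit K828.BigCoh

namespace K827.Abs

variable {K : Precoverage Scheme.{u}} {S : Scheme.{u}}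

theorem res_del {A : ShortComplex (BigSite.Ab K S)} (hA : A.ShortExact) (n : ℕ) (T : Over S)
    (x : BigSite.H K S A.X₃ n) :
    HRes.res K A.X₁ (n + 1) T (del hA n x) = delHU hA n T (HRes.res K A.X₃ n T x) :=
  pull_del T.hom hA n x

theorem eq_zero_of_injective' (I : BigSite.Ab K S) [Injective I] {n : ℕ} (x : BigSite.H K S I (n + 1)) : x = 0 :=
  Abelian.Ext.eq_zero_of_injective x

theorem resHU_res (n : ℕ) : ∀ (F : BigSite.Ab K S) {T T' : Over S} (g : T' ⟶ T) (x : BigSite.H K S F n),
    HRes.resHU K F n g (HRes.res K F n T x) = HRes.res K F n T' x := by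
  induction n with
  | zero =>
    intro F T T' g x
    apply (K827.Deg0.hu0 K F T').injective
    rw [K827.Deg0b.hu0_resHU, K827.Deg0b.hu0_res, K827.Deg0b.hu0_res]
    generalize K827.Deg0.h0 K F x = y
    refine K827.Deg0b.map2 F.obj _ _ _ ?_ y
    ext1
    exact Over.w g
  | succ n ih =>
    intro F T T' g x
    obtain ⟨A, hA, rfl, hI⟩ := CohT.exists_injective_embedding F
    obtain ⟨y, rfl⟩ := exact₁ hA n x (eq_zero_of_injective' A.X₂ _)
    rw [res_del hA n T y, res_del hA n T' y, resHU_del hA n g _, ih A.X₃ g y]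

theorem res_map {F G : BigSite.Ab K S} (φ : F ⟶ G) (n : ℕ) (T : Over S) (x : BigSite.H K S F n) :
    mapHU φ n T (HRes.res K F n T x) = HRes.res K G n T (Sheaf.H.map φ n x) :=
  (HRes.pull_map K T.hom φ n x).symm

theorem res_id_bijective (n : ℕ) : ∀ (F : BigSite.Ab K S),
    Function.Bijective (HRes.res K F n (Over.mk (𝟙 S))) := by
  induction n with
  | zero =>
    intro F
    have h : ∀ x, K827.Deg0.hu0 K F (Over.mk (𝟙 S)) (HRes.res K F 0 (Over.mk (𝟙 S)) x) = K827.Deg0.h0 K F x := by
      intro x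
      rw [K827.Deg0b.hu0_res]
      have e : (Over.homMk (Over.mk (𝟙 S)).hom : Over.mk (𝟙 S) ⟶ Over.mk (𝟙 S)) = 𝟙 _ := by ext1; rfl
      rw [e]
      exact K828.Cech.res_id F.obj _
    constructor
    · intro x x' hx
      apply (K827.Deg0.h0 K F).injective
      rw [← h, ← h, hx]
    · intro y
      refine ⟨(K827.Deg0.h0 K F).symm (K827.Deg0.hu0 K F (Over.mk (𝟙 S)) y), ?_⟩
      apply (K827.Deg0.hu0 K F (Over.mk (𝟙 S))).injective
      rw [h, AddEquiv.apply_symm_apply]
  | succ n ih =>
    intro F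
    obtain ⟨A, hA, rfl, hI⟩ := CohT.exists_injective_embedding F
    constructor
    · rw [injective_iff_map_eq_zero]
      intro x hx
      obtain ⟨y, rfl⟩ := exact₁ hA n x (eq_zero_of_injective' A.X₂ _)
      rw [res_del hA n _ y] at hx
      obtain ⟨z, hz⟩ := exactHU₃ hA n _ hx
      obtain ⟨z', rfl⟩ := (ih A.X₂).2 z
      rw [res_map] at hz
      have := (ih A.X₃).1 hz
      rw [← this, del_map]
    · intro x
      obtain ⟨y, rfl⟩ := exactHU₁ hA n x (eq_zero_of_injective A.X₂ _)
      obtain ⟨y', rfl⟩ := (ih A.X₃).2 y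
      exact ⟨del hA n y', res_del hA n _ y'⟩

/-- Cohomology over the base is cohomology over the terminal object. -/
noncomputable def absE (F : BigSite.Ab K S) (n : ℕ) : BigSite.H K S F n ≃+ (bigCoh K S).H F n (Over.mk (𝟙 S)) :=
  AddEquiv.ofBijective (HRes.res K F n (Over.mk (𝟙 S))) (res_id_bijective n F)

theorem res_absE (F : BigSite.Ab K S) (n : ℕ) (T : Over S) (x : BigSite.H K S F n) :
    (bigCoh K S).res (Over.homMk T.hom : T ⟶ Over.mk (𝟙 S)) (absE F n x) = HRes.res K F n T x :=
  resHU_res n F _ x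

theorem res_absE' (F : BigSite.Ab K S) (n : ℕ) {T : Over S} (t : T ⟶ Over.mk (𝟙 S)) (x : BigSite.H K S F n) :
    (bigCoh K S).res t (absE F n x) = HRes.res K F n T x :=
  resHU_res n F _ x

end K827.Abs
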