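import Groth.Agent.TateGlob.K827.Deg0

set_option autoImplicit false
universe u v w

open CategoryTheory CategoryTheory.Limits AlgebraicGeometry Opposite

namespace K827.Deg0b

open K827.Deg0

theorem map2 {C : Type v} [Category.{w} C] (P : Cᵒᵖ ⥤ AddCommGrpCat.{u}) {X Y Z : C} (a : X ⟶ Y) (b : Y ⟶ Z)
    (c : X ⟶ Z) (h : a ≫ b = c) (y : P.obj (op Z)) :
    P.map a.op (P.map b.op y) = P.map c.op y := by
  rw [← h, op_comp, P.map_comp]; rfl

theorem map2' {C : Type v} [Category.{w} C] (P : Cᵒᵖ ⥤ AddCommGrpCat.{u}) {X Y Z : C} (a : X ⟶ Y) (b : Y ⟶ Z)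
    (c : X ⟶ Z) (h : a ≫ b = c) :
    P.map b.op ≫ P.map a.op = P.map c.op := by
  rw [← h, op_comp, P.map_comp]

variable (K : Precoverage Scheme.{u}) {S T : Scheme.{u}}

/-- The comparison of objects behind `HRes.pullIso`. -/
noncomputable def eC {T T' : Over S} (g : T' ⟶ T) (U : Over T'.left) :
    (Over.map T'.hom).obj U ⟶ (Over.map T.hom).obj ((Over.map g.left).obj U) :=
  Over.homMk (𝟙 U.left) (by simp)

theorem pullIso_hom_app (F : BigSite.Ab K S) {T T' : Over S} (g : T' ⟶ T) (U : Over T'.left) :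
    (HRes.pullIso K F g).hom.hom.app (op U) = F.obj.map (eC g U).op := by
  unfold HRes.pullIso
  simp only [Iso.trans_hom, Iso.app_hom, ObjectProperty.FullSubcategory.comp_hom, NatTrans.comp_app,
    GrothendieckTopology.overMapPullbackComp_hom_app_hom_app,
    GrothendieckTopology.overMapPullbackCongr_hom_app_hom_app]
  refine map2' F.obj _ _ _ ?_
  ext1
  simp [eC]

theorem hu0_resHU (F : BigSite.Ab K S) {T T' : Over S} (g : T' ⟶ T) (x : BigSite.HU K F 0 T) :
    hu0 K F T' (HRes.resHU K F 0 g x) = F.obj.map g.op (hu0 K F T x) := by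
  rw [hu0_apply, hu0_apply]
  change F.obj.map (eT T').hom.op (h0 K _ (Sheaf.H.map (HRes.pullIso K F g).hom 0
    (HRes.pull K g.left ((BigSite.pullBig K T.hom AddCommGrpCat.{u + 1}).obj F) 0 x))) = _
  rw [h0_map, h0_pull, pullIso_hom_app]
  generalize h0 K ((BigSite.pullBig K T.hom AddCommGrpCat.{u + 1}).obj F) x = y
  have h1 := map2 F.obj (eC g (Over.mk (𝟙 T'.left)))
    ((Over.map T.hom).map (Over.homMk g.left : (Over.map g.left).obj (Over.mk (𝟙 T'.left)) ⟶
      Over.mk (𝟙 T.left))) _ rfl y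
  refine (congrArg (F.obj.map (eT T').hom.op) h1).trans ?_
  refine (map2 F.obj _ _ _ rfl y).trans ?_
  refine Eq.trans ?_ (map2 F.obj _ _ _ rfl y).symm
  congr 4

theorem hu0_res (F : BigSite.Ab K S) (T : Over S) (x : BigSite.H K S F 0) :
    hu0 K F T (HRes.res K F 0 T x) = F.obj.map (Over.homMk T.hom : T ⟶ Over.mk (𝟙 S)).op (h0 K F x) := by
  rw [hu0_apply, h0_pull]
  generalize h0 K F x = y
  refine map2 F.obj _ _ _ ?_ y
  ext1
  simp [eT]

theorem hu0_map {F G : BigSite.Ab K S} (φ : F ⟶ G) (T : Over S) (x : BigSite.HU K F 0 T) :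
    hu0 K G T (Sheaf.H.map ((BigSite.pullBig K T.hom AddCommGrpCat.{u + 1}).map φ) 0 x) =
      φ.hom.app (op T) (hu0 K F T x) := by
  rw [hu0_apply, hu0_apply, h0_map]
  generalize h0 K ((BigSite.pullBig K T.hom AddCommGrpCat.{u + 1}).obj F) x = y
  exact (ConcreteCategory.congr_hom (φ.hom.naturality (eT T).hom.op) y).symm

end K827.Deg0b
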