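import Groth.Agent.TateGlob.K827.Chase

/-!
# Degree one classes of a direct image (helper827)

For `f : S' ⟶ S` and a sheaf `F'` on the big site of `S'`, a class `x ∈ H¹(T, f_* F')` has an associated class
`y ∈ H¹(T ×_S S', F')` such that `x` dies on `T₁ ⟶ T` if and only if `y` dies on `T₁ ×_S S'`.
-/

set_option autoImplicit false

universe u

open CategoryTheory CategoryTheory.Limits AlgebraicGeometry Opposite

namespace K827.Leray

open K828 K827.Chase

variable {K : Precoverage Scheme.{u}} {S S' : Scheme.{u}} (f : S' ⟶ S)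

instance injective_pushBig (I : BigSite.Ab K S') [Injective I] :
    Injective ((BigSite.pushBig K f AddCommGrpCat.{u + 1}).obj I) := by
  have : (BigSite.pullBig K f AddCommGrpCat.{u + 1}).PreservesMonomorphisms := by
    have := (BigSite.shriekAbAdj K f).isRightAdjoint
    infer_instance
  exact Injective.injective_of_adjoint (BigSite.bigAdj K f AddCommGrpCat.{u + 1}) I

theorem exists_class (𝓗 : CohT K S) (𝓗' : CohT K S') (F' : BigSite.Ab K S') {T : Over S}
    (x : 𝓗.H ((BigSite.pushBig K f AddCommGrpCat.{u + 1}).obj F') 1 T) :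
    ∃ y : 𝓗'.H F' 1 ((Over.pullback f).obj T), ∀ {T₁ : Over S} (t : T₁ ⟶ T),
      𝓗.res t x = 0 ↔ 𝓗'.res ((Over.pullback f).map t) y = 0 := by
  obtain ⟨A', hA', rfl, hI⟩ := CohT.exists_injective_embedding F'
  let P := BigSite.pushBig K f AddCommGrpCat.{u + 1}
  have hP : PreservesLimits P := (BigSite.bigAdj K f AddCommGrpCat.{u + 1}).rightAdjoint_preservesLimits
  have hm : Mono A'.f := hA'.mono_f
  have hmP : Mono (P.map A'.f) := inferInstance
  have hex : (A'.map P).Exact := hA'.exact.map_of_mono_of_preservesKernel P hm inferInstance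
  have hw : Mono (cokernel.desc (P.map A'.f) (P.map A'.g) (by rw [← P.map_comp, A'.zero, P.map_zero])) :=
    hex.mono_cokernelDesc
  let A : ShortComplex (BigSite.Ab K S) :=
    ShortComplex.mk (P.map A'.f) (cokernel.π (P.map A'.f)) (cokernel.condition _)
  have hA : A.ShortExact :=
    { exact := ShortComplex.exact_cokernel _
      mono_f := hmP
      epi_g := inferInstanceAs (Epi (cokernel.π (P.map A'.f))) }
  let w : A.X₃ ⟶ P.obj A'.X₃ :=
    cokernel.desc (P.map A'.f) (P.map A'.g) (by rw [← P.map_comp, A'.zero, P.map_zero])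
  have hgw : A.g ≫ w = P.map A'.g := cokernel.π_desc _ _ _
  have hwm : Mono w := hw
  have hwi : ∀ T : Over S, Function.Injective (w.hom.app (op T)) := fun T => by
    have h3 : Mono w.hom := inferInstanceAs (Mono ((sheafToPresheaf _ _).map w))
    have h4 : Mono (w.hom.app (op T)) := inferInstance
    exact (AddCommGrpCat.mono_iff_injective _).1 h4
  have hIP : Injective A.X₂ := injective_pushBig f A'.X₂
  obtain ⟨z', hz'⟩ := 𝓗.exists_del hA x
  obtain ⟨z, rfl⟩ : ∃ z, z' = 𝓗.sec.symm z := ⟨𝓗.sec z', (AddEquiv.symm_apply_apply _ _).symm⟩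
  subst hz'
  let c : A'.X₃.obj.obj (op ((Over.pullback f).obj T)) := w.hom.app (op T) z
  refine ⟨𝓗'.del hA' (𝓗'.sec.symm c), fun {T₁} t => ?_⟩
  have key1 : 𝓗.res t (𝓗.del hA (𝓗.sec.symm z)) = 0 ↔
      ∃ i : A.X₂.obj.obj (op T₁), A.g.hom.app (op T₁) i = A.X₃.obj.map t.op z := by
    rw [← 𝓗.del_res]
    constructor
    · intro h
      obtain ⟨y, hy⟩ := 𝓗.exact₃ hA _ h
      refine ⟨𝓗.sec y, ?_⟩
      rw [← 𝓗.sec_map, hy, 𝓗.sec_res, AddEquiv.apply_symm_apply]
    · rintro ⟨i, hi⟩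
      rw [show 𝓗.res t (𝓗.sec.symm z) = 𝓗.map A.g (𝓗.sec.symm i) from ?_, 𝓗.del_map]
      apply 𝓗.sec.injective
      rw [𝓗.sec_res, 𝓗.sec_map, AddEquiv.apply_symm_apply, AddEquiv.apply_symm_apply, hi]
  have key2 : 𝓗'.res ((Over.pullback f).map t) (𝓗'.del hA' (𝓗'.sec.symm c)) = 0 ↔
      ∃ i : A'.X₂.obj.obj (op ((Over.pullback f).obj T₁)), A'.g.hom.app (op ((Over.pullback f).obj T₁)) i =
        A'.X₃.obj.map ((Over.pullback f).map t).op c := by
    rw [← 𝓗'.del_res]
    constructor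
    · intro h
      obtain ⟨y, hy⟩ := 𝓗'.exact₃ hA' _ h
      refine ⟨𝓗'.sec y, ?_⟩
      rw [← 𝓗'.sec_map, hy, 𝓗'.sec_res, AddEquiv.apply_symm_apply]
    · rintro ⟨i, hi⟩
      rw [show 𝓗'.res ((Over.pullback f).map t) (𝓗'.sec.symm c) = 𝓗'.map A'.g (𝓗'.sec.symm i) from ?_, 𝓗'.del_map]
      apply 𝓗'.sec.injective
      rw [𝓗'.sec_res, 𝓗'.sec_map, AddEquiv.apply_symm_apply, AddEquiv.apply_symm_apply, hi]
  rw [key1, key2]
  have hnat : w.hom.app (op T₁) (A.X₃.obj.map t.op z) = A'.X₃.obj.map ((Over.pullback f).map t).op c := by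
    rw [← ConcreteCategory.comp_apply]
    exact congr($(w.hom.naturality t.op) z)
  have hgw' : ∀ i : A.X₂.obj.obj (op T₁), w.hom.app (op T₁) (A.g.hom.app (op T₁) i) =
      A'.g.hom.app (op ((Over.pullback f).obj T₁)) i := fun i => by
    rw [← ConcreteCategory.comp_apply]
    exact congr(($hgw).hom.app (op T₁) i)
  constructor
  · rintro ⟨i, hi⟩
    exact ⟨i, by rw [← hgw', hi, hnat]⟩
  · rintro ⟨i, hi⟩
    refine ⟨i, hwi T₁ ?_⟩
    rw [hgw', hnat]
    exact hi

end K827.Leray
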