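import Groth.Prelude.Def_HRes

set_option autoImplicit false
universe u

open CategoryTheory CategoryTheory.Limits AlgebraicGeometry Opposite

namespace K827.Deg0

variable (K : Precoverage Scheme.{u}) {S T : Scheme.{u}}

/-- Degree-zero big-site cohomology is the group of sections over the base. -/
noncomputable def h0 (F : BigSite.Ab K S) :
    BigSite.H K S F 0 ≃+ F.obj.obj (op (Over.mk (𝟙 S))) :=
  Sheaf.H.equiv₀ F Over.mkIdTerminal

/-- The unit element of the constant sheaf `ℤ` over an object of the site. -/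
noncomputable def one (U : Over S) :
    ((constantSheaf (QuotSh.J K S) AddCommGrpCat.{u + 1}).obj
      (AddCommGrpCat.of (ULift.{u + 1} ℤ))).obj.obj (op U) :=
  ((toSheafify (QuotSh.J K S) ((Functor.const _).obj (AddCommGrpCat.of (ULift.{u+1} ℤ)))).app
        (op U)) (ULift.up 1)

theorem map_one {U V : Over S} (g : V ⟶ U) :
    ((constantSheaf (QuotSh.J K S) AddCommGrpCat.{u + 1}).obj
      (AddCommGrpCat.of (ULift.{u + 1} ℤ))).obj.map g.op (one K U) = one K V := by
  have := (toSheafify (QuotSh.J K S) ((Functor.const _).obj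
    (AddCommGrpCat.of (ULift.{u+1} ℤ)))).naturality g.op
  exact (ConcreteCategory.congr_hom this (ULift.up 1)).symm

theorem h0_mk₀ (F : BigSite.Ab K S) (φ : (constantSheaf (QuotSh.J K S) AddCommGrpCat.{u + 1}).obj
      (AddCommGrpCat.of (ULift.{u + 1} ℤ)) ⟶ F) :
    h0 K F (Abelian.Ext.mk₀ φ) = (φ.hom.app (op (Over.mk (𝟙 S)))) (one K _) := by
  have h1 : Abelian.Ext.addEquiv₀ (Abelian.Ext.mk₀ φ) = φ :=
    Abelian.Ext.addEquiv₀.apply_symm_apply φ
  simp only [h0, Sheaf.H.equiv₀, AddEquiv.trans_apply, h1]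
  rw [Adjunction.homAddEquiv_apply, AddCommGrpCat.uliftZMultiplesAddEquiv_apply]
  rw [Adjunction.homEquiv_unit]
  simp only [constantSheafAdj, Adjunction.comp_unit_app, constantPresheafAdj_unit_app]
  rw [Category.id_comp]
  rfl

/-- The section attached to a degree-zero class. -/
theorem h0_eq (F : BigSite.Ab K S) (x : BigSite.H K S F 0) :
    h0 K F x = ((Abelian.Ext.addEquiv₀ x).hom.app (op (Over.mk (𝟙 S)))) (one K _) := by
  obtain ⟨φ, rfl⟩ := (Abelian.Ext.mk₀_bijective _ F).2 x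
  rw [h0_mk₀]
  have h1 : Abelian.Ext.addEquiv₀ (Abelian.Ext.mk₀ φ) = φ :=
    Abelian.Ext.addEquiv₀.apply_symm_apply φ
  rw [h1]

theorem h0_map {F G : BigSite.Ab K S} (φ : F ⟶ G) (x : BigSite.H K S F 0) :
    h0 K G (Sheaf.H.map φ 0 x) = φ.hom.app (op (Over.mk (𝟙 S))) (h0 K F x) :=
  (Sheaf.H.equiv₀_naturality Over.mkIdTerminal φ x).symm

theorem pullConst_inv_one (f : T ⟶ S) (U : Over T) :
    ((HRes.pullConst K f (AddCommGrpCat.of (ULift.{u + 1} ℤ))).inv.hom.app (op U)) (one K U) =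
      one K ((Over.map f).obj U) := by
  have h := (Over.map f).toSheafify_pullbackSheafificationCompatibility AddCommGrpCat.{u + 1}
      (QuotSh.J K T) (QuotSh.J K S) ((Functor.const _).obj (AddCommGrpCat.of (ULift.{u + 1} ℤ)))
  have h2 := congr_app h (op U)
  rw [NatTrans.comp_app] at h2
  have h3 := ConcreteCategory.congr_hom h2 (ULift.up 1)
  rw [ConcreteCategory.comp_apply] at h3
  exact h3

/-- Restriction of degree-zero classes along `f : T ⟶ S` is restriction of sections. -/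
theorem h0_pull (f : T ⟶ S) (F : BigSite.Ab K S) (x : BigSite.H K S F 0) :
    h0 K ((BigSite.pullBig K f AddCommGrpCat.{u + 1}).obj F) (HRes.pull K f F 0 x) =
      F.obj.map (Over.homMk f : (Over.map f).obj (Over.mk (𝟙 T)) ⟶ Over.mk (𝟙 S)).op (h0 K F x) := by
  obtain ⟨φ, rfl⟩ := (Abelian.Ext.mk₀_bijective _ F).2 x
  rw [HRes.pull_apply, Abelian.Ext.mapExactFunctor_mk₀, Abelian.Ext.mk₀_comp_mk₀, h0_mk₀, h0_mk₀]
  have h1 := pullConst_inv_one K f (Over.mk (𝟙 T))
  change ((BigSite.pullBig K f AddCommGrpCat.{u + 1}).map φ).hom.app (op (Over.mk (𝟙 T)))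
    (((HRes.pullConst K f (AddCommGrpCat.of (ULift.{u + 1} ℤ))).inv.hom.app
      (op (Over.mk (𝟙 T)))) (one K (Over.mk (𝟙 T)))) = _
  rw [h1]
  rw [← map_one K (Over.homMk f : (Over.map f).obj (Over.mk (𝟙 T)) ⟶ Over.mk (𝟙 S))]
  exact ConcreteCategory.congr_hom (φ.hom.naturality
    (Over.homMk f : (Over.map f).obj (Over.mk (𝟙 T)) ⟶ Over.mk (𝟙 S)).op) (one K (Over.mk (𝟙 S)))

/-- The comparison between an object `T` of the big site and `T.left` seen over `T`. -/
noncomputable def eT (T : Over S) : T ≅ (Over.map T.hom).obj (Over.mk (𝟙 T.left)) :=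
  Over.isoMk (Iso.refl _) (by simp)

/-- Degree-zero cohomology over an object `T` of the big site is the group of sections over `T`. -/
noncomputable def hu0 (F : BigSite.Ab K S) (T : Over S) :
    BigSite.HU K F 0 T ≃+ F.obj.obj (op T) :=
  (h0 K ((BigSite.pullBig K T.hom AddCommGrpCat.{u + 1}).obj F)).trans
    (F.obj.mapIso (eT T).op).addCommGroupIsoToAddEquiv

theorem hu0_apply (F : BigSite.Ab K S) (T : Over S) (x : BigSite.HU K F 0 T) :
    hu0 K F T x = F.obj.map (eT T).hom.op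
      (h0 K ((BigSite.pullBig K T.hom AddCommGrpCat.{u + 1}).obj F) x) := rfl

end K827.Deg0
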