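import Groth.Agent.AbVar.K520.Noeth

/-!
# Noetherian induction on closed subgroups (helper827)
-/

set_option autoImplicit false

universe u

open CategoryTheory CategoryTheory.Limits AlgebraicGeometry MonoidalCategory CartesianMonoidalCategory MonObj

namespace K827.SubInd

variable {S : Scheme.{u}}

/-- Noetherian induction on closed subgroups. -/
theorem induct {G : Over S} [GrpObj G] [IsNoetherian G.left] (P : ∀ (N : Over S), GrpObj N → Prop)
    (step : ∀ (N : Over S) (gN : GrpObj N) (i : N ⟶ G) [IsMonHom i] [IsClosedImmersion i.left],
      (∀ (N' : Over S) (gN' : GrpObj N') (i' : N' ⟶ N) [IsMonHom i'] [IsClosedImmersion i'.left],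
        ¬ IsIso i' → P N' gN') → P N gN) : P G inferInstance := by
  have hwf : WellFoundedGT G.left.IdealSheafData := K520.Noeth.wellFoundedGT G.left
  have key : ∀ (I : G.left.IdealSheafData) (N : Over S) (gN : GrpObj N) (i : N ⟶ G) (_ : IsMonHom i)
      (_ : IsClosedImmersion i.left), i.left.ker = I → P N gN := by
    intro I
    induction I using WellFoundedGT.induction with
    | ind I ih =>
      intro N gN i hi hc hI
      refine step N gN i fun N' gN' i' hi' hc' hn => ?_
      have hc2 : IsClosedImmersion (i' ≫ i).left := by
        rw [Over.comp_left]; infer_instance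
      refine ih (i' ≫ i).left.ker ?_ N' gN' (i' ≫ i) inferInstance hc2 rfl
      have hle : I ≤ (i' ≫ i).left.ker := by
        rw [← hI, Over.comp_left]
        exact Scheme.Hom.le_ker_comp _ _
      refine lt_of_le_of_ne hle fun h => hn ?_
      have h1 : IsIso i'.left := IsClosedImmersion.isIso_of_ker_eq (i' ≫ i).left i.left i'.left
        (Over.comp_left _ _ _ _ _).symm (by rw [← h, hI])
      have : IsIso ((Over.forget S).map i') := h1
      exact isIso_of_reflects_iso i' (Over.forget S)
  exact key _ G inferInstance (𝟙 G) inferInstance (by rw [Over.id_left]; infer_instance) rfl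

end K827.SubInd
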