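import Groth.Agent.TateGlob.K827.FrobRed
import Groth.Agent.TateLoc.K114.FrobHom
import Groth.Agent.Variety.K430.Frob
import Groth.Agent.SGA3x.K11.QuotOrbit
import Groth.Agent.Grpsch.KerMul
import Groth.Agent.Sga3.H830.CommAux
import Groth.Agent.S3030
import Groth.Agent.S5353
import Groth.Agent.S7520
import Groth.Agent.S0114
import Groth.Agent.S3036
import Groth.Agent.S6084
import Groth.Agent.Desc.LQF

/-!
# Homomorphisms from a Frobenius twist to a finite group (helper827)

A commutative group scheme `G` of finite type over a field of characteristic `p` which is not smooth and connected has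
a nontrivial homomorphism from its Frobenius twist to a finite group (`main`).
-/

set_option autoImplicit false

universe u

open CategoryTheory CategoryTheory.Limits AlgebraicGeometry MonoidalCategory CartesianMonoidalCategory MonObj GrpObj

namespace K827.ThmB

open Groth.Agent

variable {K : Type u} [Field K]

/-- Quotients of commutative groups by closed subgroups. -/
theorem exists_quot {Q H : Over (Spec (CommRingCat.of K))} [GrpObj Q] [GrpObj H] [IsCommMonObj H]
    [LocallyOfFiniteType H.hom] (m : Q ⟶ H) [IsMonHom m] (hm : IsClosedImmersion m.left) :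
    ∃ (J : Over (Spec (CommRingCat.of K))) (_ : GrpObj J) (_ : IsCommMonObj J) (β : H ⟶ J) (_ : IsMonHom β),
      Flat β.left ∧ Surjective β.left ∧ LocallyOfFinitePresentation β.left ∧ AlgGrp.IsKernel m β ∧
      LocallyOfFiniteType J.hom ∧ IsSeparated J.hom := by
  have hmono : Mono m := Over.mono_of_mono_left m
  have hQf : LocallyOfFiniteType Q.hom := by rw [← Over.w m]; infer_instance
  obtain ⟨J, gJ, β, hβ, h1, h2, h3, h4, h5, h6, -⟩ := Groth.Agent.S3030.result K Q H m
    (fun T g n => ⟨n, by rw [_root_.mul_comm g, mul_inv_cancel_right]⟩)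
  have e1 : Epi (β ⊗ₘ β) := by
    have f2 : Flat (β ⊗ₘ β).left := Sga3C.QuotProps.tensorHom_left_of (@Flat) β β ‹_› ‹_›
    have s2 : Surjective (β ⊗ₘ β).left := Sga3C.QuotProps.tensorHom_left_of (@Surjective) β β ‹_› ‹_›
    exact Sga3C.QuotProps.epi_of_flat_surjective _
  have hc : IsCommMonObj J := Sga3.H830.CommAux.isCommMonObj_of_epi β
  have hH : LocallyOfFinitePresentation H.hom := LocallyOfFinitePresentation.iff_locallyOfFiniteType.mpr inferInstance
  have h7 : LocallyOfFinitePresentation (β.left ≫ J.hom) := by rw [Over.w]; exact hH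
  have h8 : LocallyOfFinitePresentation J.hom := Groth.Agent.S0114.result β.left J.hom
  exact ⟨J, gJ, hc, β, hβ, h1, h2, h3, h4, inferInstance, h5⟩

theorem isIso_of_kernel_one {S : Scheme.{u}} {Q H J : Over S} [GrpObj J] (m : Q ⟶ H) (β : H ⟶ J)
    (hk : AlgGrp.IsKernel m β) (h : β = 1) : IsIso m := by
  have hk' : IsPullback m (toUnit Q) β η[J] := hk
  have hw : 𝟙 H ≫ β = toUnit H ≫ η[J] := by rw [Category.id_comp, h]; rfl
  refine ⟨hk'.lift (𝟙 H) (toUnit H) hw, hk'.hom_ext ?_ (toUnit_unique _ _), hk'.lift_fst _ _ _⟩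
  rw [Category.assoc, hk'.lift_fst, Category.comp_id, Category.id_comp]

variable (p : ℕ) [Fact p.Prime] [CharP K p]

/-- The absolute Frobenius of the base. -/
noncomputable abbrev Fr (K : Type u) [Field K] (p : ℕ) [Fact p.Prime] [CharP K p] :
    Spec (CommRingCat.of K) ⟶ Spec (CommRingCat.of K) :=
  FrobSch.frob (Spec (CommRingCat.of K)) p

/-- The case of non-smooth groups. -/
theorem nonsmooth (G : Over (Spec (CommRingCat.of K))) [GrpObj G] [IsCommMonObj G] [LocallyOfFiniteType G.hom]
    (hG : ¬ Smooth G.hom) :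
    ∃ (J : Over (Spec (CommRingCat.of K))) (_ : GrpObj J) (_ : IsCommMonObj J) (_ : IsFinite J.hom)
      (β : Red.bc (Fr K p) G ⟶ J), IsMonHom β ∧ β ≠ 1 := by
  have : FrobSch.IsCharP G.left p := FrobSch.IsCharP.of_hom G.hom p
  let H : Over (Spec (CommRingCat.of K)) := Red.bc (Fr K p) G
  let u : G ⟶ H := K114.FrobHom.rel p G
  have hH : LocallyOfFiniteType H.hom := inferInstanceAs (LocallyOfFiniteType (pullback.snd G.hom (Fr K p)))
  have huf : IsFinite u.left := K430.Frob.relFrob_isFinite p G.hom
  have hus : Surjective u.left := by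
    have h1 := ((Groth.Agent.FlatA.UnivHomeo.isUnivHomeo_iff _).mp (K430.Frob.relFrob_isUnivHomeo p G.hom))
    exact h1.2.2
  obtain ⟨N, gN, j, hj, hpb⟩ := Groth.Agent.Grpsch.KerMul.exists_kernel u
  have : LocallyOfFinitePresentation G.hom :=
    LocallyOfFinitePresentation.iff_locallyOfFiniteType.mpr inferInstance
  have hNf : Flat N.hom := inferInstance
  obtain ⟨Q, gQ, q, hq, m, hm, hqm, hs, hf, hlfp, hmono, hQ, -⟩ :=
    K11.QuotOrbit.exists_quotient_ker (Or.inl hH) u N j hpb
  have hqml : q.left ≫ m.left = u.left := by rw [← Over.comp_left, hqm]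
  have hml : Mono m.left := inferInstance
  have huc : UniversallyClosed m.left := by
    have : UniversallyClosed (q.left ≫ m.left) := by rw [hqml]; infer_instance
    exact UniversallyClosed.of_comp_surjective q.left m.left
  have hmft : LocallyOfFiniteType m.left := by
    have : LocallyOfFiniteType (m.left ≫ H.hom) := by rw [Over.w m]; infer_instance
    exact locallyOfFiniteType_of_comp m.left H.hom
  have hmp : IsProper m.left := { }
  have hmc : IsClosedImmersion m.left := (IsClosedImmersion.iff_isProper_and_mono m.left).mpr ⟨hmp, hml⟩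
  obtain ⟨J, gJ, cJ, β, hβ, h1, h2, h3, h4, h5, h6⟩ := exists_quot m hmc
  have hk' : IsPullback m (toUnit Q) β η[J] := h4
  have hms : Surjective m.left := by
    refine ⟨fun y => ?_⟩
    obtain ⟨x, hx⟩ := hus.surj y
    exact ⟨q.left x, by rw [← Scheme.Hom.comp_apply, hqml, hx]⟩
  have hsub : Subsingleton J.left := by
    have key : ∀ y : J.left, y = (η[J] : 𝟙_ _ ⟶ J).left (IsLocalRing.closedPoint K) := by
      intro y
      obtain ⟨x, rfl⟩ := h2.surj y
      obtain ⟨z, rfl⟩ := hms.surj x
      rw [← Scheme.Hom.comp_apply, ← Over.comp_left, hk'.w, Over.comp_left, Scheme.Hom.comp_apply]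
      congr 1
      exact Subsingleton.elim (α := ↥(Spec (CommRingCat.of K))) _ _
    exact ⟨fun a b => by rw [key a, key b]⟩
  have hJ : IsFinite J.hom := Groth.Agent.S6084.finite_of_subsingleton K J.left J.hom
  refine ⟨J, gJ, cJ, hJ, β, hβ, fun h => hG ?_⟩
  have hmi : IsIso m := isIso_of_kernel_one m β h4 h
  have hmi' : IsIso m.left := inferInstanceAs (IsIso ((Over.forget _).map m))
  have hfl : Flat u.left := by rw [← hqml]; infer_instance
  exact FrobRed.smooth_of_flat_relFrob p G hfl

/-- The case of non-connected groups. -/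
theorem nonconn (G : Over (Spec (CommRingCat.of K))) [GrpObj G] [IsCommMonObj G] [LocallyOfFiniteType G.hom]
    [QuasiCompact G.hom] (hG : ¬ ConnectedSpace G.left) :
    ∃ (J : Over (Spec (CommRingCat.of K))) (_ : GrpObj J) (_ : IsCommMonObj J) (_ : IsFinite J.hom)
      (β : Red.bc (Fr K p) G ⟶ J), IsMonHom β ∧ β ≠ 1 := by
  have : FrobSch.IsCharP G.left p := FrobSch.IsCharP.of_hom G.hom p
  let H : Over (Spec (CommRingCat.of K)) := Red.bc (Fr K p) G
  let u : G ⟶ H := K114.FrobHom.rel p G
  have hH : LocallyOfFiniteType H.hom := inferInstanceAs (LocallyOfFiniteType (pullback.snd G.hom (Fr K p)))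
  have hHq : QuasiCompact H.hom := inferInstanceAs (QuasiCompact (pullback.snd G.hom (Fr K p)))
  obtain ⟨H₀, gH₀, m, hm, hmc, hmf, hr, hirr, hcomp⟩ := Groth.Agent.S7520.result K H
  obtain ⟨J, gJ, cJ, β, hβ, h1, h2, h3, h4, h5, h6⟩ := exists_quot m hmc
  have : LocallyOfFinitePresentation H.hom :=
    LocallyOfFinitePresentation.iff_locallyOfFiniteType.mpr inferInstance
  have hH₀f : LocallyOfFiniteType H₀.hom := by rw [← Over.w m]; infer_instance
  have hH₀p : LocallyOfFinitePresentation H₀.hom :=
    LocallyOfFinitePresentation.iff_locallyOfFiniteType.mpr inferInstance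
  have hmlfp : LocallyOfFinitePresentation m.left := by
    have : IsLocallyNoetherian H.left := LocallyOfFiniteType.isLocallyNoetherian H.hom
    exact LocallyOfFinitePresentation.iff_locallyOfFiniteType.mpr inferInstance
  have hmo : IsOpenImmersion m.left := IsOpenImmersion.of_flat_of_mono m.left
  have het : Etale J.hom := Groth.Agent.S5353.result K H₀ H J m (IsLocalRing.closedPoint K) hr β h4
  have hJq : QuasiCompact J.hom := by
    have h1 : CompactSpace H.left := HasAffineProperty.iff_of_isAffine (P := @QuasiCompact).1 hHq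
    have h2 : CompactSpace J.left := by
      refine ⟨?_⟩
      have := isCompact_range β.left.continuous
      rwa [Set.range_eq_univ.2 h2.surj] at this
    exact HasAffineProperty.iff_of_isAffine (P := @QuasiCompact).2 h2
  have hJl : LocallyQuasiFinite J.hom := Groth.Agent.Desc.LQF.of_etale J.hom
  have hJ : IsFinite J.hom := IsFinite.of_locallyQuasiFinite J.hom
  refine ⟨J, gJ, cJ, hJ, β, hβ, fun h => hG ?_⟩
  have hmi : IsIso m := isIso_of_kernel_one m β h4 h
  have hmi' : IsIso m.left := inferInstanceAs (IsIso ((Over.forget _).map m))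
  have hsurj : Function.Surjective m.left := m.left.surjective
  have hr' : connectedComponent (η[H].left (IsLocalRing.closedPoint K)) = Set.univ := by
    rw [← Set.range_eq_univ.2 hsurj]
    exact hr.symm
  have hu := Groth.Agent.FlatA.UnivHomeo.isHomeomorph_of_isUnivHomeo (K430.Frob.relFrob_isUnivHomeo p G.hom)
  have hHc : ConnectedSpace H.left := connectedSpace_iff_connectedComponent.2 ⟨_, hr'⟩
  have hHc' : ConnectedSpace ↥(FrobSch.frobTwist G.hom p) := hHc
  exact (hu.homeomorph).symm.surjective.connectedSpace (hu.homeomorph).symm.continuous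

variable (K) in
theorem psi_eq : Spec.map (CommRingCat.ofHom (iterateFrobenius K p 1)) = Fr K p := by
  rw [Fr, K991.FrobUnr.frob_spec (CommRingCat.of K) p (CharP.cast_eq_zero K p), iterateFrobenius_one]
  rfl

/-- **Theorem B.** -/
theorem main (G : Over (Spec (CommRingCat.of K))) [GrpObj G] [IsCommMonObj G] [LocallyOfFiniteType G.hom]
    [QuasiCompact G.hom] (hG : ¬ (Smooth G.hom ∧ ConnectedSpace G.left)) :
    ∃ (J : Over (Spec (CommRingCat.of K))) (_ : GrpObj J) (_ : IsCommMonObj J) (_ : IsFinite J.hom)
      (β : Red.bc (Spec.map (CommRingCat.ofHom (iterateFrobenius K p 1))) G ⟶ J), IsMonHom β ∧ β ≠ 1 := by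
  rw [psi_eq]
  by_cases h : Smooth G.hom
  · exact nonconn p G fun h' => hG ⟨h, h'⟩
  · exact nonsmooth p G h

end K827.ThmB
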