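import Groth.Agent.TateGlob.K827.AsmFrob
import Groth.Agent.TateGlob.K827.ThmB
import Groth.Agent.TateGlob.K827.SubInd
import Groth.Agent.TateGlob.K828.OHatVan

/-!
# Injectivity of `H¹(O_v, 𝒢) → H¹(K_v, 𝒢)` for almost all `v` (helper827)

`PP_all`: for any commutative separated `G` of finite type over a global function field and any model of `G` over `O_S`.
`eventually_injective`: the same for any flat separated commutative group of finite type over `O_S`.
-/

set_option autoImplicit false

universe u

open CategoryTheory CategoryTheory.Limits AlgebraicGeometry MonoidalCategory CartesianMonoidalCategory MonObj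

namespace K827.Asm

open FunFld K620.GMod K620.Sys K827.GoodWeil K827.BaseCh K827.Chase K828.BigCoh K210.LimHom K827.FrobBase

variable (p : ℕ) [Fact p.Prime] {k L : Type u} [Field k] [Finite k] [Field L] [Algebra (RatFunc k) L]
  [FunctionField k L] [Algebra k L] [IsScalarTower k (RatFunc k) L] [CharP L p]

omit [CharP L p] [Fact p.Prime] in
/-- The base case: smooth connected generic fibre. -/
theorem PP_smooth (G : Over (Spec (CommRingCat.of L))) [GrpObj G] (hsm : Smooth G.hom) (hc : ConnectedSpace G.left) :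
    PP k L G := by
  intro S hS hne M
  have hfp : FinPoles k L := finPoles k L
  have : AdFn.HasFinitePoles k L := ⟨hfp.fin⟩
  have hi : IsIso M.e.hom.left := inferInstanceAs (IsIso ((Over.forget _).map M.e.hom))
  have h1 : Smooth (Red.bc (gen S) M.X).hom := by
    rw [← Over.w M.e.hom]
    infer_instance
  have h2 : ConnectedSpace (Red.bc (gen S) M.X).left := by
    have e := Scheme.homeoOfIso (asIso M.e.hom.left)
    exact e.symm.surjective.connectedSpace e.symm.continuous
  obtain ⟨T₀, -, h⟩ := K828.OHatVan.exists_vanish (K829.FunBase.isGen k L) hS hne M.X h1 h2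
  have hfin : ∀ᶠ v in Filter.cofinite, v ∉ (↑T₀.1 : Set (Place k L)) := T₀.1.finite_toSet.compl_mem_cofinite
  filter_upwards [hfin] with v hv hvS
  intro x _
  have := h v hv 1 one_pos
  exact Subsingleton.elim (α := BigSite.HU Scheme.fppfPrecoverage (CGrpSh.pts Scheme.fppfPrecoverage M.X) 1
    (AdFn.specOf (AdFn.SInt.toOv S hvS))) x 0

/-- The main theorem. -/
theorem PP_all (hfr : (frobenius L p).Finite) (G : Over (Spec (CommRingCat.of L))) [GrpObj G] [IsCommMonObj G]
    [IsSeparated G.hom] [LocallyOfFiniteType G.hom] [QuasiCompact G.hom] : PP k L G := by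
  have hG : IsNoetherian G.left := by
    have : IsLocallyNoetherian G.left := LocallyOfFiniteType.isLocallyNoetherian G.hom
    have : CompactSpace G.left := QuasiCompact.compactSpace_of_compactSpace G.hom
    exact { }
  refine SubInd.induct (G := G) (fun N gN => @PP k L _ _ _ N gN) ?_
  intro N gN i hi hcl ih
  have hmono : Mono i := Over.mono_of_mono_left i
  have hNc : IsCommMonObj N := Groth.Agent.Sga3.H830.CommAux.isCommMonObj_of_mono i
  have hNf : LocallyOfFiniteType N.hom := by rw [← Over.w i]; infer_instance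
  have hNq : QuasiCompact N.hom := by rw [← Over.w i]; infer_instance
  have hNs : IsSeparated N.hom := by rw [← Over.w i]; infer_instance
  by_cases h : Smooth N.hom ∧ ConnectedSpace N.left
  · exact PP_smooth N h.1 h.2
  · obtain ⟨J, gJ, cJ, hJ, β, hβ, hβ1⟩ := ThmB.main p N h
    exact step_of_finite p 1 hfr N ⟨J, gJ, cJ, hJ, β, hβ, hβ1⟩ (fun N' gN' j _ _ hn => ih N' gN' j hn)

/-- The model of its generic fibre. -/
noncomputable def selfMdl {S : Set (Place k L)} (hS : S.Finite) (hne : S.Nonempty)
    (𝒢 : Over (Spec (CommRingCat.of (AdFn.SInt S)))) [GrpObj 𝒢] [IsCommMonObj 𝒢]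
    [Flat 𝒢.hom] [IsSeparated 𝒢.hom] [LocallyOfFiniteType 𝒢.hom] [QuasiCompact 𝒢.hom] :
    Mdl (gen S) (Red.bc (gen S) 𝒢) where
  X := 𝒢
  lfp := by
    have := (K829.SIntBase.isDedekind (K829.FunBase.isGen k L) hS hne).1
    exact LocallyOfFinitePresentation.iff_locallyOfFiniteType.mpr inferInstance
  e := Iso.refl _
  mon := inferInstanceAs (IsMonHom (𝟙 _))

variable (k L) in
/-- `H¹(O_v, 𝒢) → H¹(K_v, 𝒢)` is injective for almost all `v`. -/
theorem eventually_inj1 (S : Set (Place k L)) (hS : S.Finite) (hne : S.Nonempty)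
    (𝒢 : Over (Spec (CommRingCat.of (AdFn.SInt S)))) [GrpObj 𝒢] [IsCommMonObj 𝒢]
    [Flat 𝒢.hom] [IsSeparated 𝒢.hom] [LocallyOfFiniteType 𝒢.hom] [QuasiCompact 𝒢.hom] :
    ∀ᶠ v in Filter.cofinite, ∀ hv : v ∉ S, Function.Injective
      (AdFn.intRes Scheme.fppfPrecoverage S (CGrpSh.pts Scheme.fppfPrecoverage 𝒢) 1 hv) := by
  obtain ⟨p, hp⟩ := CharP.exists k
  have hpr : Fact p.Prime := ⟨CharP.char_is_prime k p⟩
  have hL : CharP L p := charP_of_injective_algebraMap (algebraMap k L).injective p
  have hperf : PerfectRing k p := inferInstance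
  have hG : LocallyOfFiniteType (Red.bc (gen S) 𝒢).hom :=
    inferInstanceAs (LocallyOfFiniteType (pullback.snd 𝒢.hom (gen S)))
  have hG' : QuasiCompact (Red.bc (gen S) 𝒢).hom := inferInstanceAs (QuasiCompact (pullback.snd 𝒢.hom (gen S)))
  have h := PP_all (k := k) p (FrobBase.frobenius_finite p k L) (Red.bc (gen S) 𝒢) S hS hne (selfMdl hS hne 𝒢)
  filter_upwards [h] with v hv hvS
  exact Inj1.injective _ (hv hvS)

end K827.Asm
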