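import Groth.Agent.TateGlob.K827.H1
import Groth.Agent.AlgSp.K595.EffRep
import Groth.Agent.AlgSp.K634.Desc
import Groth.Agent.Desc.LocalRep

/-!
# Torsors under affine commutative group schemes representing classes of degree one (fppf)

`IsTors 𝓗 π c x` : `π : P ⟶ T`, with the difference cocycle `c` on `P`, is the torsor of the class `x ∈ H^1(T, F)`.

* `exists_isTors`: for `F` the sheaf of points of an affine commutative group scheme `G` over `S`, `T` affine and
  `x ∈ H^1(T, G)` there is an affine `π : P ⟶ T` with `IsTors 𝓗 π c x`.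
* `IsTors.prop`: properties descending along fpqc coverings pass from `G` to `P`.
* `IsTors.res_eq_zero_iff`: `x` dies on `W` iff `W ⟶ T` lifts to `P`.
-/

set_option autoImplicit false
set_option backward.isDefEq.respectTransparency.types false

universe u

open CategoryTheory CategoryTheory.Limits AlgebraicGeometry Opposite
open Groth.Agent.Etrest.FppfCoch K828 K828.Cech K828.Cartan
open K594.Elem K594.Cover

namespace K827.Tor

open K827.H1

section general

variable {K : Precoverage Scheme.{u}} {S : Scheme.{u}}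

/-- `π : P ⟶ T` with the difference cocycle `c` is the torsor of the class `x`. -/
structure IsTors (𝓗 : CohT K S) {F : BigSite.Ab K S} {P T : Over S} (π : P ⟶ T) (c : Pr F P) (x : 𝓗.H F 1 T) :
    Prop where
  cls : IsCls 𝓗 π c x
  inj : ∀ {W : Over S} (a b : W ⟶ P), a ≫ π = b ≫ π → c W a b = 0 → a = b
  surj : ∀ {W : Over S} (a : W ⟶ P) (g : F.obj.obj (op W)), ∃ b : W ⟶ P, b ≫ π = a ≫ π ∧ c W a b = g
  ex : ∀ {W : Over S} (t : W ⟶ T), 𝓗.res t x = 0 → ∃ a : W ⟶ P, a ≫ π = t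

variable {𝓗 : CohT K S} {F : BigSite.Ab K S}

theorem IsCoc.self {T' T : Over S} {p : T' ⟶ T} {c : Pr F T'} (hc : IsCoc p c) {W : Over S} (a : W ⟶ T') :
    c W a a = 0 := by
  have := hc.add a a a rfl rfl
  rwa [add_eq_left] at this

theorem IsCls.eq_zero_of_section {T' T : Over S} {p : T' ⟶ T} {c : Pr F T'} {x : 𝓗.H F 1 T} (h : IsCls 𝓗 p c x)
    {W : Over S} (a : W ⟶ T') (t : W ⟶ T) (w : a ≫ p = t) : 𝓗.res t x = 0 := by
  subst w
  have h1 := h.res (p' := 𝟙 W) (a ≫ p) a (Category.id_comp _).symm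
  refine h1.eq_zero ?_ 0 ?_
  · refine (QuotSh.J K S).superset_covering (S := ⊤) ?_ ((QuotSh.J K S).top_mem _)
    intro Y f _
    exact ⟨_, f, 𝟙 W, ⟨⟩, Category.comp_id f⟩
  · intro V b b' hb
    have hb' : b = b' := by rwa [Category.comp_id, Category.comp_id] at hb
    subst hb'
    rw [rs_zero, sub_zero]
    exact IsCoc.self h.isCoc _

theorem IsTors.res_eq_zero_iff {P T : Over S} {π : P ⟶ T} {c : Pr F P} {x : 𝓗.H F 1 T} (h : IsTors 𝓗 π c x)
    {W : Over S} (t : W ⟶ T) : 𝓗.res t x = 0 ↔ ∃ a : W ⟶ P, a ≫ π = t :=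
  ⟨h.ex t, fun ⟨a, ha⟩ => IsCls.eq_zero_of_section h.cls a t ha⟩

/-- Base change of torsors. -/
theorem IsTors.baseChange {P T : Over S} {π : P ⟶ T} {c : Pr F P} {x : 𝓗.H F 1 T} (h : IsTors 𝓗 π c x)
    {P' T' : Over S} {π' : P' ⟶ T'} {g : T' ⟶ T} {g' : P' ⟶ P} (sq : IsPullback g' π' π g) :
    IsTors 𝓗 π' (fun W a b => c W (a ≫ g') (b ≫ g')) (𝓗.res g x) where
  cls := h.cls.res g g' sq.w
  inj {W} a b hab hc := by
    refine sq.hom_ext (h.inj _ _ ?_ hc) hab
    rw [Category.assoc, Category.assoc, sq.w, ← Category.assoc, ← Category.assoc, hab]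
  surj {W} a g₀ := by
    obtain ⟨b, hb1, hb2⟩ := h.surj (a ≫ g') g₀
    refine ⟨sq.lift b (a ≫ π') ?_, sq.lift_snd _ _ _, ?_⟩
    · rw [hb1, Category.assoc, Category.assoc, sq.w]
    · rw [sq.lift_fst, hb2]
  ex {W} t ht := by
    rw [← 𝓗.res_comp] at ht
    obtain ⟨a, ha⟩ := h.ex (t ≫ g) ht
    exact ⟨sq.lift a t ha, sq.lift_snd _ _ _⟩

end general

section fppf

variable {S : Scheme.{u}}

/-- The underlying sheaf of sets. -/
noncomputable abbrev ty (F : BigSite.Ab Scheme.fppfPrecoverage S) : AlgSp.Sp S :=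
  (sheafCompose (QuotSh.J Scheme.fppfPrecoverage S) (forget AddCommGrpCat.{u + 1})).obj F

/-- The underlying map of sheaves of sets. -/
noncomputable abbrev tyM {F G : BigSite.Ab Scheme.fppfPrecoverage S} (φ : F ⟶ G) : ty F ⟶ ty G :=
  (sheafCompose (QuotSh.J Scheme.fppfPrecoverage S) (forget AddCommGrpCat.{u + 1})).map φ

/-- A scheme representing the lifts of a section `q` is the torsor of the connecting image of `q`. -/
theorem isTors_of_isRep (𝓗 : CohT Scheme.fppfPrecoverage S) {A : ShortComplex (BigSite.Ab Scheme.fppfPrecoverage S)}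
    (hA : A.ShortExact) {T : Over S} (q : A.X₃.obj.obj (op T)) {P : Over S} {π : P ⟶ T} {ξ : A.X₂.obj.obj (op P)}
    (h : IsRep (tyM A.g) (U := T) q π ξ) :
    ∃ c : Pr A.X₁ P, LD A π c q ξ ∧ IsTors 𝓗 π c (𝓗.del hA (𝓗.sec.symm q)) := by
  classical
  have hw : A.g.hom.app (op P) ξ = rs A.X₃ π q := h.w
  have hlift : ∀ {W : Over S} (t : W ⟶ T) (s : A.X₂.obj.obj (op W)), A.g.hom.app (op W) s = rs A.X₃ t q →
      ∃ k : W ⟶ P, k ≫ π = t ∧ rs A.X₂ k ξ = s := fun t s hs => h.lift t s hs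
  have hinj : ∀ {W : Over S} (a b : W ⟶ P), a ≫ π = b ≫ π → rs A.X₂ a ξ = rs A.X₂ b ξ → a = b :=
    fun a b h1 h2 => h.inj a b h1 h2
  have hex : ∀ {W : Over S} (a a' : W ⟶ P), a ≫ π = a' ≫ π → ∃ t : A.X₁.obj.obj (op W),
      A.f.hom.app (op W) t = rs A.X₂ a' ξ - rs A.X₂ a ξ := by
    intro W a a' haa
    apply (le_of_shortExact hA).ex
    refine (map_sub _ _ _).trans ?_
    rw [sub_eq_zero]
    refine (rs_nat A.g a' ξ).trans (Eq.trans ?_ (rs_nat A.g a ξ).symm)
    rw [hw, rs_comp, rs_comp, haa]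
  let c : Pr A.X₁ P := fun W a a' => if h : a ≫ π = a' ≫ π then (hex a a' h).choose else 0
  have hc : ∀ {W : Over S} (a a' : W ⟶ P), a ≫ π = a' ≫ π →
      A.f.hom.app (op W) (c W a a') = rs A.X₂ a' ξ - rs A.X₂ a ξ := by
    intro W a a' haa
    dsimp only [c]
    rw [dif_pos haa]
    exact (hex a a' haa).choose_spec
  have hLD : LD A π c q ξ := ⟨hw, hc⟩
  refine ⟨c, hLD, isCls_of_seq 𝓗 hA hLD, ?_, ?_, ?_⟩
  · intro W a b hab h0
    apply hinj a b hab
    have := hc a b hab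
    rw [h0] at this
    have h1 : rs A.X₂ b ξ - rs A.X₂ a ξ = 0 := this.symm.trans (map_zero _)
    exact (sub_eq_zero.1 h1).symm
  · intro W a g
    obtain ⟨b, hb1, hb2⟩ := hlift (a ≫ π) (rs A.X₂ a ξ + A.f.hom.app (op W) g) (by
      refine (map_add _ _ _).trans ?_
      rw [(le_of_shortExact hA).comp]
      refine (add_zero _).trans ?_
      rw [rs_nat A.g a ξ, hw, rs_comp])
    refine ⟨b, hb1, ?_⟩
    apply (le_of_shortExact hA).inj'
    rw [hc a b hb1.symm, hb2]
    abel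
  · intro W t ht
    have h1 : 𝓗.res t (𝓗.sec.symm q) = 𝓗.sec.symm (rs A.X₃ t q) := by
      apply 𝓗.sec.injective
      rw [𝓗.sec_res, AddEquiv.apply_symm_apply, AddEquiv.apply_symm_apply]
    rw [← 𝓗.del_res, h1, del_sec_eq_zero_iff] at ht
    obtain ⟨s, hs⟩ := ht
    obtain ⟨k, hk, -⟩ := hlift t s hs
    exact ⟨k, hk⟩

/-- In the presence of a lift, the lifts of `q` are represented by `G ×_S T'`. -/
theorem exists_isRep_of_lift {A : ShortComplex (BigSite.Ab Scheme.fppfPrecoverage S)}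
    (hA : A.ShortExact) {G : Over S} [GrpObj G] [IsCommMonObj G] (e : CGrpSh.pts Scheme.fppfPrecoverage G ≅ A.X₁)
    {T : Over S} (q : A.X₃.obj.obj (op T)) (b : A.X₂.obj.obj (op T)) (hb : A.g.hom.app (op T) b = q)
    (W : MorphismProperty Scheme.{u}) [W.IsStableUnderBaseChange] (hW : W G.hom) :
    ∃ (V : Over S) (v : V ⟶ T) (ξ : A.X₂.obj.obj (op V)), IsRep (tyM A.g) (U := T) q v ξ ∧ W v.left := by
  let V : Over S := Over.mk (pullback.snd G.hom T.hom ≫ T.hom)
  let p₁ : V ⟶ G := Over.homMk (pullback.fst G.hom T.hom) pullback.condition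
  let p₂ : V ⟶ T := Over.homMk (pullback.snd G.hom T.hom) rfl
  let pt : ∀ {W : Over S}, (W ⟶ G) → A.X₁.obj.obj (op W) := fun {W} g => e.hom.hom.app (op W) (ULift.up (Additive.ofMul g))
  have hpt : ∀ {W W' : Over S} (f : W' ⟶ W) (g : W ⟶ G), pt (f ≫ g) = rs A.X₁ f (pt g) := by
    intro W W' f g
    exact (rs_nat e.hom f (ULift.up (Additive.ofMul g)))
  have hpts : ∀ {W : Over S} (y : A.X₁.obj.obj (op W)), ∃ g : W ⟶ G, pt g = y := by
    intro W y
    refine ⟨(e.inv.hom.app (op W) y).down.toMul, ?_⟩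
    have : (e.inv ≫ e.hom).hom.app (op W) y = y := by rw [e.inv_hom_id]; rfl
    exact this
  have hpti : ∀ {W : Over S} (g g' : W ⟶ G), pt g = pt g' → g = g' := by
    intro W g g' h
    have h1 : ∀ z, e.inv.hom.app (op W) (e.hom.hom.app (op W) z) = z := by
      intro z
      have : (e.hom ≫ e.inv).hom.app (op W) z = z := by rw [e.hom_inv_id]; rfl
      exact this
    have h2 := (h1 (ULift.up (Additive.ofMul g))).symm.trans
      ((congrArg (e.inv.hom.app (op W)) h).trans (h1 (ULift.up (Additive.ofMul g'))))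
    exact congrArg (fun z : ULift.{u + 1} (Additive (W ⟶ G)) => z.down.toMul) h2
  let ξ : A.X₂.obj.obj (op V) := A.f.hom.app (op V) (pt p₁) + rs A.X₂ p₂ b
  have hξ : ∀ {W : Over S} (a : W ⟶ V), rs A.X₂ a ξ = A.f.hom.app (op W) (pt (a ≫ p₁)) + rs A.X₂ (a ≫ p₂) b := by
    intro W a
    dsimp only [ξ]
    rw [rs_add, ← rs_nat, ← hpt, rs_comp]
  refine ⟨V, p₂, ξ, ⟨?_, ?_, ?_⟩, W.pullback_snd _ _ hW⟩
  · change A.g.hom.app (op V) (_ + _) = rs A.X₃ p₂ q
    refine (map_add _ _ _).trans ?_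
    rw [(le_of_shortExact hA).comp]
    refine (zero_add _).trans ?_
    rw [rs_nat, hb]
  · intro W a a' haa h
    have h' : rs A.X₂ a ξ = rs A.X₂ a' ξ := h
    rw [hξ, hξ, haa, add_left_inj] at h'
    have h2 := hpti _ _ ((le_of_shortExact hA).inj' h')
    ext1
    exact pullback.hom_ext (congrArg (fun z => z.left) h2) (congrArg (fun z => z.left) haa)
  · intro W t x hx
    let x' : A.X₂.obj.obj (op W) := x
    have hx' : A.g.hom.app (op W) x' = rs A.X₃ t q := hx
    obtain ⟨y, hy⟩ := (le_of_shortExact hA).ex W (x' - rs A.X₂ t b) (by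
      refine (map_sub _ _ _).trans ?_
      rw [sub_eq_zero]
      refine hx'.trans ?_
      rw [← hb, rs_nat])
    obtain ⟨g, rfl⟩ := hpts y
    have hw : g.left ≫ G.hom = t.left ≫ T.hom := (Over.w g).trans (Over.w t).symm
    let k : W ⟶ V := Over.homMk (pullback.lift g.left t.left hw) (by
      change pullback.lift g.left t.left hw ≫ pullback.snd G.hom T.hom ≫ T.hom = W.hom
      rw [pullback.lift_snd_assoc]
      exact Over.w t)
    have hk1 : k ≫ p₁ = g := by
      ext1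
      exact pullback.lift_fst _ _ _
    have hk2 : k ≫ p₂ = t := by
      ext1
      exact pullback.lift_snd _ _ _
    refine ⟨k, hk2, ?_⟩
    change rs A.X₂ k ξ = x'
    rw [hξ, hk1, hk2]
    have hy' : A.f.hom.app (op W) (pt g) = x' - rs A.X₂ t b := hy
    rw [hy', sub_add_cancel]

open Groth.Agent.Desc.SecPresheaf K594.FibSh in
/-- Descent of representability, affine case. -/
theorem exists_isRep_aff {F G : AlgSp.Sp S} {f : F ⟶ G} {U : Over S}
    {y : G.obj.obj (op U)} {U' V' : Over S} {t : U' ⟶ U}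
    (ht : Cov t) [QuasiCompact t.left] {v : V' ⟶ U'} {ξ : F.obj.obj (op V')} (h : IsRep f (G.obj.map t.op y) v ξ)
    (hv : IsAffineHom v.left) :
    ∃ (V : Over S) (v : V ⟶ U) (ξ : F.obj.obj (op V)), IsRep f y v ξ := by
  have := small_fib ht h
  obtain ⟨e⟩ := rep_restr t h
  have h1 := ht.flat
  have h2 := ht.lfp
  have h3 := ht.surj
  have hF := K595.EffRep.isPSheaf_sfib (f := f) y ht
  obtain ⟨E, ⟨r⟩, -⟩ := Groth.Agent.Desc.LocalRep.exists_rep_of_fpqc t.left hF (Over.mk v.left)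
    ⟨inferInstanceAs (QuasiCompact v.left), fun O hO => by
      have : IsAffine (v.left ⁻¹ᵁ O : Scheme.{u}) := hO.preimage v.left
      exact inferInstanceAs (Scheme.IsQuasiAffine (v.left ⁻¹ᵁ O : Scheme.{u}))⟩ e
  obtain ⟨ξ', hξ'⟩ := isRep_of_rep r
  exact ⟨_, _, ξ', hξ'⟩

/-- Properties of representing objects may be checked after an fppf base change. -/
theorem prop_of_isRep {F G : AlgSp.Sp S} {f : F ⟶ G} {U : Over S}
    {y : G.obj.obj (op U)} {U' V' V : Over S} {t : U' ⟶ U} (ht : Cov t) [QuasiCompact t.left]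
    {v' : V' ⟶ U'} {ξ' : F.obj.obj (op V')} (h' : IsRep f (G.obj.map t.op y) v' ξ')
    {v : V ⟶ U} {ξ : F.obj.obj (op V)} (h : IsRep f y v ξ)
    (P : MorphismProperty Scheme.{u}) [P.IsStableUnderBaseChange]
    [P.DescendsAlong (@Surjective ⊓ @Flat ⊓ @QuasiCompact)] (hP : P v'.left) : P v.left := by
  have : P.RespectsIso := MorphismProperty.IsStableUnderBaseChange.respectsIso
  have sq := IsPullback.of_hasPullback v t
  obtain ⟨e, he, -⟩ := (h.baseChange sq).exists_iso h'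
  have h4 : P (pullback.snd v t).left := by
    rw [← he, Over.comp_left]
    exact (P.cancel_left_of_respectsIso _ _).mpr hP
  have i1 := ht.flat
  have i3 := ht.surj
  have sq' : IsPullback (pullback.fst v t).left (pullback.snd v t).left v.left t.left :=
    sq.map (Over.forget S)
  exact MorphismProperty.of_isPullback_of_descendsAlong (Q := @Surjective ⊓ @Flat ⊓ @QuasiCompact) sq'.flip
    ⟨⟨i3, i1⟩, inferInstance⟩ h4

/-- An epimorphism of abelian sheaves is surjective on sections after an affine fppf covering of an affine object. -/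
theorem exists_cov_lift {A : ShortComplex (BigSite.Ab Scheme.fppfPrecoverage S)}
    (hA : A.ShortExact) {T : Over S} [IsAffine T.left] (q : A.X₃.obj.obj (op T)) :
    ∃ (T' : Over S) (t : T' ⟶ T) (b : A.X₂.obj.obj (op T')), Cov t ∧ IsAffine T'.left ∧
      A.g.hom.app (op T') b = rs A.X₃ t q := by
  have := hA.epi_g
  have h : Sheaf.IsLocallySurjective A.g := (Sheaf.isLocallySurjective_iff_epi' _ A.g).mpr inferInstance
  have h1 : Presheaf.imageSieve A.g.hom q ∈ QuotSh.J Scheme.fppfPrecoverage S T :=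
    Presheaf.imageSieve_mem (QuotSh.J Scheme.fppfPrecoverage S) A.g.hom q
  obtain ⟨ι, V, g, hg, hR⟩ := exists_fam_of_mem h1
  choose x hx using hR
  obtain ⟨s, hs, -⟩ := exists_sig V (ty A.X₂) x
  have hcov := hg.cov
  have i1 := hcov.flat
  have i2 := hcov.lfp
  have i3 := hcov.surj
  obtain ⟨W, w, hW, hwe, hws⟩ := K634.Desc.exists_affine_refinement (sigDesc g).left
    ((sigDesc g).left.isOpenMap)
  let T' : Over S := Over.mk (w ≫ (sig V).hom)
  let r : T' ⟶ sig V := Over.homMk w rfl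
  have hs' : A.g.hom.app (op (sig V)) s = rs A.X₃ (sigDesc g) q := by
    have key := (sig_fam V).ext (ty A.X₃) (a := A.g.hom.app (op (sig V)) s) (b := rs A.X₃ (sigDesc g) q)
    apply key
    intro i
    change rs A.X₃ (sigι V i) _ = rs A.X₃ (sigι V i) _
    rw [rs_comp, sigι_desc, ← rs_nat]
    refine Eq.trans ?_ (hx i)
    exact congrArg _ (hs i)
  refine ⟨T', r ≫ sigDesc g, rs A.X₂ r s, ⟨?_, ?_, ?_⟩, hW, ?_⟩
  · change Flat (w ≫ (sigDesc g).left)
    infer_instance
  · change LocallyOfFinitePresentation (w ≫ (sigDesc g).left)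
    infer_instance
  · exact hws
  · rw [rs_nat, hs', rs_comp]

/-- **Torsors of classes of degree one under affine group schemes are representable.** -/
theorem exists_isTors (𝓗 : CohT Scheme.fppfPrecoverage S) {F : BigSite.Ab Scheme.fppfPrecoverage S} {G : Over S}
    [GrpObj G] [IsCommMonObj G] (e : CGrpSh.pts Scheme.fppfPrecoverage G ≅ F) [IsAffineHom G.hom]
    {T : Over S} [IsAffine T.left] (x : 𝓗.H F 1 T) :
    ∃ (P : Over S) (π : P ⟶ T) (c : Pr F P), IsTors 𝓗 π c x ∧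
      (∀ (W : MorphismProperty Scheme.{u}) [W.IsStableUnderBaseChange]
        [W.DescendsAlong (@Surjective ⊓ @Flat ⊓ @QuasiCompact)], W G.hom → W π.left) ∧
      ∃ (T' : Over S) (t : T' ⟶ T), Cov t ∧ IsAffine T'.left ∧ 𝓗.res t x = 0 := by
  have hI : Injective (emb F).X₂ := inferInstanceAs (Injective (Injective.under F))
  obtain ⟨y, rfl⟩ := 𝓗.exists_del (emb_exact F) x
  obtain ⟨q, rfl⟩ : ∃ q, y = 𝓗.sec.symm q := ⟨𝓗.sec y, (AddEquiv.symm_apply_apply _ _).symm⟩
  obtain ⟨T', t, b, ht, hT', hb⟩ := exists_cov_lift (emb_exact F) q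
  have hqc : QuasiCompact t.left := by
    have : QuasiCompact (t.left ≫ terminal.from T.left) := by
      have : QuasiSeparated (terminal.from T.left) := inferInstance
      infer_instance
    infer_instance
  obtain ⟨V, v, ξ, h1, h2⟩ := exists_isRep_of_lift (emb_exact F) e (rs (emb F).X₃ t q) b hb @IsAffineHom inferInstance
  obtain ⟨P, π, ζ, h3⟩ := exists_isRep_aff (f := tyM (emb F).g) (U := T) (y := q) ht h1 h2
  obtain ⟨c, -, hc⟩ := isTors_of_isRep 𝓗 (emb_exact F) q h3
  refine ⟨P, π, c, hc, fun W _ _ hW => ?_, T', t, ht, hT', ?_⟩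
  · obtain ⟨V', v', ξ', h1', h2'⟩ := exists_isRep_of_lift (emb_exact F) e (rs (emb F).X₃ t q) b hb W hW
    exact prop_of_isRep (f := tyM (emb F).g) (U := T) (y := q) ht h1' h3 W h2'
  · have h1 : 𝓗.res t (𝓗.sec.symm q) = 𝓗.sec.symm (rs (emb F).X₃ t q) := by
      apply 𝓗.sec.injective
      rw [𝓗.sec_res, AddEquiv.apply_symm_apply, AddEquiv.apply_symm_apply]
    refine (𝓗.del_res (emb_exact F) t _).symm.trans ?_
    rw [h1, del_sec_eq_zero_iff]
    exact ⟨b, hb⟩

end fppf

end K827.Tor
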