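import Groth.Agent.TateGlob.K827.ProdFam
import Groth.Agent.TateGlob.K827.Tor
import Groth.Agent.AlgSp.K628.Props2
import Groth.Prelude.Def_AdFn

/-!
# Classes of degree one over a product of local rings, finite flat coefficients

`bijective_res`: for `G` finite flat commutative over `Spec O` with bounded rank and local `O`-algebras `R_i`:
`H^1(∏ R_i, G) → ∏ H^1(R_i, G)` is bijective.
-/

set_option autoImplicit false
set_option backward.isDefEq.respectTransparency.types false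

universe u

open CategoryTheory CategoryTheory.Limits MonoidalCategory CartesianMonoidalCategory MonObj AlgebraicGeometry Opposite
open K828 K594.Elem K594.Cover K827.H1 K827.Tor K827.ProdFam

namespace K827.ProdTor

section diff

variable {S : Scheme.{u}} {G : Over S} [GrpObj G] [IsCommMonObj G] {𝓗 : CohT Scheme.fppfPrecoverage S}
  {P T : Over S} {π : P ⟶ T} {c : Pr (CGrpSh.pts Scheme.fppfPrecoverage G) P}
  {x : 𝓗.H (CGrpSh.pts Scheme.fppfPrecoverage G) 1 T}

/-- The difference of two points as a point of `G`. -/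
def dG (c : Pr (CGrpSh.pts Scheme.fppfPrecoverage G) P) {W : Over S} (a b : W ⟶ P) : W ⟶ G := (c W a b).down.toMul

theorem dG_nat (hc : IsCoc π c) {W W' : Over S} (f : W' ⟶ W) (a b : W ⟶ P) (h : a ≫ π = b ≫ π) :
    dG c (f ≫ a) (f ≫ b) = f ≫ dG c a b := by
  unfold dG
  rw [hc.nat f a b h]
  rfl

theorem c_eq_of_dG {W : Over S} {a b a' b' : W ⟶ P} (h : dG c a b = dG c a' b') : c W a b = c W a' b' := by
  apply ULift.ext
  exact congrArg Additive.ofMul h

theorem eq_of_dG (h : IsTors 𝓗 π c x) {W : Over S} {a b b' : W ⟶ P} (hb : a ≫ π = b ≫ π) (hb' : a ≫ π = b' ≫ π)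
    (hd : dG c a b = dG c a b') : b = b' := by
  have hc := h.cls.isCoc
  apply h.inj b b' (hb.symm.trans hb')
  have h1 := hc.add a b b' hb (hb.symm.trans hb')
  rw [c_eq_of_dG hd, add_eq_left] at h1
  exact h1

theorem isPullback_dG (h : IsTors 𝓗 π c x) {PP : Over S} {a₀ b₀ : PP ⟶ P} (sq : IsPullback a₀ b₀ π π) :
    IsPullback (dG c a₀ b₀).left a₀.left G.hom P.hom := by
  have hc := h.cls.isCoc
  have key : ∀ {W : Over S} (g : W ⟶ G) (a : W ⟶ P), ∃ k : W ⟶ PP, k ≫ dG c a₀ b₀ = g ∧ k ≫ a₀ = a := by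
    intro W g a
    obtain ⟨b, hb1, hb2⟩ := h.surj a (ULift.up (Additive.ofMul g))
    refine ⟨sq.lift a b hb1.symm, ?_, sq.lift_fst _ _ _⟩
    rw [← dG_nat hc _ _ _ sq.w, sq.lift_fst, sq.lift_snd, dG, hb2]
    rfl
  have uni : ∀ {W : Over S} (k k' : W ⟶ PP), k ≫ dG c a₀ b₀ = k' ≫ dG c a₀ b₀ → k ≫ a₀ = k' ≫ a₀ → k = k' := by
    intro W k k' h1 h2
    apply sq.hom_ext h2
    rw [← dG_nat hc _ _ _ sq.w, ← dG_nat hc _ _ _ sq.w, ← h2] at h1
    refine eq_of_dG h ?_ ?_ h1
    · rw [Category.assoc, Category.assoc, sq.w]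
    · rw [h2, Category.assoc, Category.assoc, sq.w]
  refine ⟨⟨(Over.w _).trans (Over.w _).symm⟩, ⟨PullbackCone.IsLimit.mk _ (fun s => ?_) ?_ ?_ ?_⟩⟩
  · let W : Over S := Over.mk (s.snd ≫ P.hom)
    exact (key (W := W) (Over.homMk s.fst s.condition) (Over.homMk s.snd rfl)).choose.left
  · intro s
    let W : Over S := Over.mk (s.snd ≫ P.hom)
    exact congrArg (fun z => z.left) (key (W := W) (Over.homMk s.fst s.condition) (Over.homMk s.snd rfl)).choose_spec.1
  · intro s
    let W : Over S := Over.mk (s.snd ≫ P.hom)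
    exact congrArg (fun z => z.left) (key (W := W) (Over.homMk s.fst s.condition) (Over.homMk s.snd rfl)).choose_spec.2
  · intro s m h1 h2
    let W : Over S := Over.mk (s.snd ≫ P.hom)
    have hs := (key (W := W) (Over.homMk s.fst s.condition) (Over.homMk s.snd rfl)).choose_spec
    let m' : W ⟶ PP := Over.homMk m (by
      change m ≫ PP.hom = s.snd ≫ P.hom
      rw [← h2, Category.assoc, Over.w a₀])
    have : m' = (key (W := W) (Over.homMk s.fst s.condition) (Over.homMk s.snd rfl)).choose := by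
      apply uni
      · rw [hs.1]
        ext1
        exact h1
      · rw [hs.2]
        ext1
        exact h2
    exact congrArg (fun z => z.left) this

theorem finrank_eq (h : IsTors 𝓗 π c x) [IsFinite π.left] [Flat π.left] [IsFinite G.hom] [Flat G.hom] (p : P.left) :
    Scheme.Hom.finrank π.left (π.left p) = Scheme.Hom.finrank G.hom (P.hom p) := by
  have sq : IsPullback (pullback.fst π π) (pullback.snd π π) π π := IsPullback.of_hasPullback π π
  have sq' : IsPullback (pullback.fst π π).left (pullback.snd π π).left π.left π.left := sq.map (Over.forget S)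
  rw [← Scheme.Hom.finrank_of_isPullback _ _ _ _ sq'.flip p,
    ← Scheme.Hom.finrank_of_isPullback _ _ _ _ (isPullback_dG h sq) p]

theorem finrank_le_of_isDomain {O : Type u} [CommRing O] [IsDomain O] {X : Scheme.{u}}
    (f : X ⟶ Spec (CommRingCat.of O)) [IsFinite f] [Flat f] : ∃ n : ℕ, ∀ s, Scheme.Hom.finrank f s ≤ n := by
  have hX : IsAffine X := isAffine_of_isAffineHom f
  obtain ⟨φ, hφ⟩ := Spec.map_surjective (X.isoSpec.inv ≫ f)
  have h1 : IsFinite (Spec.map φ) := by rw [hφ]; infer_instance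
  have h2 : Flat (Spec.map φ) := by rw [hφ]; infer_instance
  rw [IsFinite.SpecMap_iff] at h1
  rw [Flat.SpecMap_iff] at h2
  letI : Algebra O Γ(X, ⊤) := φ.hom.toAlgebra
  have f1 : Module.Finite O Γ(X, ⊤) := h1
  have f2 : Module.Flat O Γ(X, ⊤) := h2
  refine ⟨Module.rankAtStalk (R := O) Γ(X, ⊤) ⟨⊥, Ideal.isPrime_bot⟩, fun s => ?_⟩
  have h3 : Scheme.Hom.finrank f s = Scheme.Hom.finrank (Spec.map φ) s := by
    rw [hφ, Scheme.Hom.finrank_comp_left_of_isIso]
  have h4 : Scheme.Hom.finrank (Spec.map φ) s = Module.rankAtStalk (R := O) Γ(X, ⊤) s :=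
    Scheme.Hom.finrank_SpecMap_algebraMap O Γ(X, ⊤) s
  rw [h3, h4]
  exact le_of_eq (Module.rankAtStalk_eq_of_le_of_finite_of_flat (M := Γ(X, ⊤)) (p := ⟨⊥, Ideal.isPrime_bot⟩) (q := s)
    (bot_le (a := s.asIdeal))).symm

end diff

/-- Finite flat surjective schemes over local rings of bounded rank. -/
theorem exists_alg {R : Type u} [CommRing R] [IsLocalRing R] {X : Scheme.{u}} (f : X ⟶ Spec (CommRingCat.of R))
    [IsFinite f] [Flat f] [Surjective f] (n : ℕ) (hn : ∀ s, Scheme.Hom.finrank f s ≤ n) :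
    ∃ (B : Type u) (_ : CommRing B) (_ : Algebra R B) (e : X ≅ Spec (CommRingCat.of B)),
      e.hom ≫ Spec.map (CommRingCat.ofHom (algebraMap R B)) = f ∧ Module.Projective R B ∧
      (∃ p : (Fin n → R) →ₗ[R] B, Function.Surjective p) ∧ Function.Injective (algebraMap R B) := by
  have hX : IsAffine X := isAffine_of_isAffineHom f
  obtain ⟨φ, hφ⟩ := Spec.map_surjective (X.isoSpec.inv ≫ f)
  have h1 : IsFinite (Spec.map φ) := by rw [hφ]; infer_instance
  have h2 : Flat (Spec.map φ) := by rw [hφ]; infer_instance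
  have h3 : Surjective (Spec.map φ) := by rw [hφ]; infer_instance
  rw [IsFinite.SpecMap_iff] at h1
  rw [Flat.SpecMap_iff] at h2
  letI : Algebra R Γ(X, ⊤) := φ.hom.toAlgebra
  have f1 : Module.Finite R Γ(X, ⊤) := h1
  have f2 : Module.Flat R Γ(X, ⊤) := h2
  have f3 : Module.Free R Γ(X, ⊤) := Module.free_of_flat_of_isLocalRing
  have f4 : ∀ s, Module.rankAtStalk (R := R) Γ(X, ⊤) s ≤ n := by
    intro s
    refine le_trans (le_of_eq ?_) (hn s)
    have h3 : Scheme.Hom.finrank f s = Scheme.Hom.finrank (Spec.map φ) s := by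
      rw [hφ, Scheme.Hom.finrank_comp_left_of_isIso]
    have h4 : Scheme.Hom.finrank (Spec.map φ) s = Module.rankAtStalk (R := R) Γ(X, ⊤) s :=
      Scheme.Hom.finrank_SpecMap_algebraMap R Γ(X, ⊤) s
    rw [h3, h4]
  have f5 : Module.finrank R Γ(X, ⊤) ≤ n := by
    have := f4 (IsLocalRing.closedPoint R)
    rwa [Module.rankAtStalk_eq_finrank_of_free] at this
  refine ⟨Γ(X, ⊤), inferInstance, inferInstance, X.isoSpec, ?_, inferInstance, ?_, ?_⟩
  · change X.isoSpec.hom ≫ Spec.map φ = f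
    rw [hφ, Iso.hom_inv_id_assoc]
  · let b := Module.finBasis R Γ(X, ⊤)
    refine ⟨(b.equivFun.symm : (Fin _ → R) →ₗ[R] Γ(X, ⊤)).comp (LinearMap.funLeft R R (Fin.castLE f5)), ?_⟩
    exact b.equivFun.symm.surjective.comp (LinearMap.funLeft_surjective_of_injective R R _ (Fin.castLE_injective f5))
  · have : Nontrivial Γ(X, ⊤) := by
      by_contra hcon
      rw [not_nontrivial_iff_subsingleton] at hcon
      obtain ⟨y, -⟩ := h3.surj (IsLocalRing.closedPoint R)
      exact PrimeSpectrum.isEmpty_iff_subsingleton.2 hcon |>.false y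
    exact FaithfulSMul.algebraMap_injective R Γ(X, ⊤)

theorem cov_mem {S : Scheme.{u}} {T' T : Over S} {p : T' ⟶ T} (hp : Cov p) :
    Sieve.generate (Presieve.singleton p) ∈ QuotSh.J Scheme.fppfPrecoverage S T := by
  have := hp.fam.mem
  rwa [Sieve.ofArrows, Presieve.ofArrows_pUnit] at this

section main

variable {O : Type u} [CommRing O] {I : Type u} (R : I → Type u) [∀ i, CommRing (R i)] (ψ : ∀ i, O →+* R i)

/-- The spectrum of the product. -/
noncomputable abbrev TP : Over (Spec (CommRingCat.of O)) := AdFn.specOf (RingHom.pi ψ)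

/-- The inclusion of a component. -/
noncomputable abbrev eP (i : I) : AdFn.specOf (ψ i) ⟶ TP R ψ :=
  AdFn.specOfHom (RingHom.pi ψ) (ψ i) (Pi.evalRingHom R i) rfl

theorem pf_eP : PF (fun i => (eP R ψ i).left) :=
  pf_spec (∀ i, R i) R (fun i => Pi.evalRingHom R i) Function.bijective_id

variable {G : Over (Spec (CommRingCat.of O))} [GrpObj G] [IsCommMonObj G]
  (𝓗 : CohT Scheme.fppfPrecoverage (Spec (CommRingCat.of O)))

theorem eq_zero_of_res [IsAffineHom G.hom] (x : 𝓗.H (CGrpSh.pts Scheme.fppfPrecoverage G) 1 (TP R ψ))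
    (hx : ∀ i, 𝓗.res (eP R ψ i) x = 0) : x = 0 := by
  have : IsAffine (TP R ψ).left := inferInstanceAs (IsAffine (Spec (CommRingCat.of (∀ i, R i))))
  obtain ⟨P, π, c, hT, hW, -⟩ := exists_isTors 𝓗 (Iso.refl _) x
  have := Groth.Agent.Desc.MorDescent.descendsAlong_isAffineHom.{u}
  have hπ : IsAffineHom π.left := hW @IsAffineHom inferInstance
  have hP : IsAffine P.left := isAffine_of_isAffineHom π.left
  have hs := fun i => (hT.res_eq_zero_iff (eP R ψ i)).1 (hx i)
  choose s hs using hs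
  obtain ⟨t, ht⟩ := (pf_eP R ψ).surj (fun i => (s i).left)
  have h1 : t ≫ P.hom = (TP R ψ).hom := by
    apply (pf_eP R ψ).inj
    intro i
    rw [← Category.assoc, ht]
    exact (Over.w (s i)).trans (Over.w (eP R ψ i)).symm
  let t' : TP R ψ ⟶ P := Over.homMk t h1
  have h2 : t' ≫ π = 𝟙 _ := by
    ext1
    apply (pf_eP R ψ).inj
    intro i
    change (eP R ψ i).left ≫ t ≫ π.left = (eP R ψ i).left ≫ 𝟙 _
    rw [← Category.assoc, ht, Category.comp_id]
    exact congrArg (fun z => z.left) (hs i)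
  have h3 := (hT.res_eq_zero_iff (𝟙 _)).2 ⟨t', h2⟩
  rwa [𝓗.res_id] at h3

theorem eq_of_res [IsAffineHom G.hom] (x y : 𝓗.H (CGrpSh.pts Scheme.fppfPrecoverage G) 1 (TP R ψ))
    (h : ∀ i, 𝓗.res (eP R ψ i) x = 𝓗.res (eP R ψ i) y) : x = y := by
  rw [← sub_eq_zero]
  refine eq_zero_of_res R ψ 𝓗 (x - y) fun i => ?_
  rw [map_sub, h, sub_self]

/-- Maps over an affine base from a product family. -/
theorem over_inj {S : Scheme.{u}} {Z : Over S} [IsAffine Z.left] {X : Over S} {Xi : I → Over S}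
    {h : ∀ i, Xi i ⟶ X} (H : PF (fun i => (h i).left)) (g g' : X ⟶ Z) (hg : ∀ i, h i ≫ g = h i ≫ g') : g = g' := by
  ext1
  apply H.inj
  intro i
  exact congrArg (fun z => z.left) (hg i)

theorem over_surj {S : Scheme.{u}} [IsAffine S] {Z : Over S} [IsAffine Z.left] {X : Over S} {Xi : I → Over S}
    {h : ∀ i, Xi i ⟶ X} (H : PF (fun i => (h i).left)) (g : ∀ i, Xi i ⟶ Z) : ∃ g' : X ⟶ Z, ∀ i, h i ≫ g' = g i := by
  obtain ⟨t, ht⟩ := H.surj (fun i => (g i).left)
  refine ⟨Over.homMk t ?_, fun i => ?_⟩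
  · apply H.inj
    intro i
    rw [← Category.assoc, ht]
    exact (Over.w (g i)).trans (Over.w (h i)).symm
  · ext1
    exact ht i

theorem isPullback_over {S : Scheme.{u}} {A B C D : Over S} {f : A ⟶ B} {g : A ⟶ C} {h : B ⟶ D} {k : C ⟶ D}
    (sq : IsPullback f.left g.left h.left k.left) : IsPullback f g h k := by
  refine ⟨⟨by ext1; exact sq.w⟩, ⟨PullbackCone.IsLimit.mk _ (fun s => ?_) ?_ ?_ ?_⟩⟩
  · refine Over.homMk (sq.lift s.fst.left s.snd.left (congrArg (fun z => z.left) s.condition)) ?_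
    rw [← Over.w f, ← Category.assoc, sq.lift_fst]
    exact Over.w s.fst
  · intro s
    ext1
    exact sq.lift_fst _ _ _
  · intro s
    ext1
    exact sq.lift_snd _ _ _
  · intro s m h1 h2
    ext1
    apply sq.hom_ext
    · exact (congrArg (fun z => z.left) h1).trans (sq.lift_fst _ _ _).symm
    · exact (congrArg (fun z => z.left) h2).trans (sq.lift_snd _ _ _).symm

/-- Local torsors. -/
theorem exists_tors_local {A : Type u} [CommRing A] [IsLocalRing A] (φ : O →+* A) [IsFinite G.hom] [Flat G.hom] (n : ℕ)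
    (hn : ∀ s, Scheme.Hom.finrank G.hom s ≤ n)
    (x : 𝓗.H (CGrpSh.pts Scheme.fppfPrecoverage G) 1 (AdFn.specOf φ)) :
    ∃ (P : Over (Spec (CommRingCat.of O))) (π : P ⟶ AdFn.specOf φ) (c : Pr (CGrpSh.pts Scheme.fppfPrecoverage G) P)
      (B : Type u) (_ : CommRing B) (_ : Algebra A B) (e : P.left ≅ Spec (CommRingCat.of B)),
      IsTors 𝓗 π c x ∧ e.hom ≫ Spec.map (CommRingCat.ofHom (algebraMap A B)) = π.left ∧ Module.Projective A B ∧
      (∃ p : (Fin n → A) →ₗ[A] B, Function.Surjective p) ∧ Function.Injective (algebraMap A B) ∧ Cov π := by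
  have : IsAffine (AdFn.specOf φ).left := inferInstanceAs (IsAffine (Spec (CommRingCat.of A)))
  obtain ⟨P, π, c, hT, hW, T', t, ht, hT', hres⟩ := exists_isTors 𝓗 (Iso.refl _) x
  have := Groth.Agent.Desc.MorDescent.descendsAlong_isFinite.{u}
  have := K628.Props.flat_descendsAlong.{u}
  have h1 : IsFinite π.left := hW @IsFinite inferInstance
  have h2 : Flat π.left := hW @Flat inferInstance
  have h3 : Surjective π.left := by
    obtain ⟨a, ha⟩ := (hT.res_eq_zero_iff t).1 hres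
    have : Surjective (a.left ≫ π.left) := by
      have e : a.left ≫ π.left = t.left := congrArg (fun z => z.left) ha
      rw [e]
      exact ht.surj
    exact Surjective.of_comp a.left π.left
  have h4 : ∀ s, Scheme.Hom.finrank π.left s ≤ n := by
    intro s
    obtain ⟨p, rfl⟩ := h3.surj s
    rw [finrank_eq hT p]
    exact hn _
  obtain ⟨B, i1, i2, e, he, hp, hg, hi⟩ := exists_alg (R := A) π.left n h4
  refine ⟨P, π, c, B, i1, i2, e, hT, he, hp, hg, hi, ⟨h2, ?_, h3⟩⟩
  obtain ⟨p, hps⟩ := hg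
  have : Module.Finite A B := Module.Finite.of_surjective p hps
  have : Module.FinitePresentation A B := Module.finitePresentation_of_projective _ _
  have h5 : LocallyOfFinitePresentation (Spec.map (CommRingCat.ofHom (algebraMap A B))) := by
    rw [LocallyOfFinitePresentation.SpecMap_iff]
    change (algebraMap A B).FinitePresentation
    rw [RingHom.finitePresentation_algebraMap]
    infer_instance
  rw [← he]
  infer_instance

theorem exists_of_res [∀ i, IsLocalRing (R i)] [IsFinite G.hom] [Flat G.hom] (n : ℕ)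
    (hn : ∀ s, Scheme.Hom.finrank G.hom s ≤ n)
    (y : ∀ i, 𝓗.H (CGrpSh.pts Scheme.fppfPrecoverage G) 1 (AdFn.specOf (ψ i))) :
    ∃ x : 𝓗.H (CGrpSh.pts Scheme.fppfPrecoverage G) 1 (TP R ψ), ∀ i, 𝓗.res (eP R ψ i) x = y i := by
  classical
  have key := fun i => exists_tors_local 𝓗 (ψ i) n hn (y i)
  choose P π c B i1 i2 e hT he hp hg hi hcov using key
  obtain ⟨q1, q2, q3, q4⟩ := prod_props R B n hp hg hi
  have hGa : IsAffine G.left := isAffine_of_isAffineHom G.hom
  let q : Spec (CommRingCat.of (PB B)) ⟶ (TP R ψ).left := Spec.map (CommRingCat.ofHom (prodMap R B))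
  have q1' : IsFinite q := q1
  have q2' : Flat q := q2
  have q3' : LocallyOfFinitePresentation q := q3
  have q4' : Surjective q := q4
  let P₀ : Over (Spec (CommRingCat.of O)) := Over.mk (q ≫ (TP R ψ).hom)
  let π₀ : P₀ ⟶ TP R ψ := Over.homMk q rfl
  have sq0 : ∀ i, IsPullback ((e i).hom ≫ Spec.map (CommRingCat.ofHom (evB B i))) (π i).left q (eP R ψ i).left :=
    fun i => (isPullback_prod R B i).of_iso (e i).symm (Iso.refl _) (Iso.refl _) (Iso.refl _) (by simp) (by
      rw [← he i]; simp) (by simp; rfl) (by simp; rfl)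
  let g : ∀ i, P i ⟶ P₀ := fun i => Over.homMk ((e i).hom ≫ Spec.map (CommRingCat.ofHom (evB B i))) (by
    change ((e i).hom ≫ Spec.map (CommRingCat.ofHom (evB B i))) ≫ q ≫ (TP R ψ).hom = (P i).hom
    rw [← Category.assoc, (sq0 i).w, Category.assoc]
    have h1 : (eP R ψ i).left ≫ (TP R ψ).hom = (AdFn.specOf (ψ i)).hom := Over.w (eP R ψ i)
    rw [h1]
    exact Over.w (π i))
  have sqP : ∀ i, IsPullback (g i) (π i) π₀ (eP R ψ i) := fun i => isPullback_over (sq0 i)
  -- general: finite locally free schemes over `T`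
  have hPF : ∀ (X : Over (Spec (CommRingCat.of O))) (r : X ⟶ TP R ψ), IsFinite r.left → Flat r.left →
      LocallyOfFinitePresentation r.left → PF (fun i => (pullback.fst r (eP R ψ i)).left) := by
    intro X r _ _ _
    exact pf_of_isPullback R r.left (fun i => (pullback.fst r (eP R ψ i)).left)
      (fun i => (pullback.snd r (eP R ψ i)).left)
      (fun i => (IsPullback.of_hasPullback r (eP R ψ i)).map (Over.forget _))
  have sqq := IsPullback.of_hasPullback π₀ π₀
  have sqq' := sqq.map (Over.forget _)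
  let PP := pullback π₀ π₀
  let p₁ : PP ⟶ P₀ := pullback.fst π₀ π₀
  let p₂ : PP ⟶ P₀ := pullback.snd π₀ π₀
  have u1 : IsFinite p₁.left := MorphismProperty.of_isPullback (P := @IsFinite) sqq'.flip q1'
  have u2 : Flat p₁.left := MorphismProperty.of_isPullback (P := @Flat) sqq'.flip q2'
  have u3 : LocallyOfFinitePresentation p₁.left :=
    MorphismProperty.of_isPullback (P := @LocallyOfFinitePresentation) sqq'.flip q3'
  have v1 : IsFinite (p₁ ≫ π₀).left := inferInstanceAs (IsFinite (p₁.left ≫ q))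
  have v2 : Flat (p₁ ≫ π₀).left := inferInstanceAs (Flat (p₁.left ≫ q))
  have v3 : LocallyOfFinitePresentation (p₁ ≫ π₀).left :=
    inferInstanceAs (LocallyOfFinitePresentation (p₁.left ≫ q))
  have pfPP := hPF PP (p₁ ≫ π₀) v1 v2 v3
  have hcoc : ∀ i, IsCoc (π i) (c i) := fun i => (hT i).cls.isCoc
  have hlift : ∀ {X : Over (Spec (CommRingCat.of O))} (i : I) (m : X ⟶ P₀) (r : X ⟶ AdFn.specOf (ψ i))
      (_ : m ≫ π₀ = r ≫ eP R ψ i), ∃ k : X ⟶ P i, k ≫ g i = m ∧ k ≫ π i = r := fun i m r w =>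
    ⟨(sqP i).lift m r w, (sqP i).lift_fst _ _ _, (sqP i).lift_snd _ _ _⟩
  have huniq : ∀ {X : Over (Spec (CommRingCat.of O))} (i : I) (k k' : X ⟶ P i), k ≫ g i = k' ≫ g i →
      k ≫ π i = k' ≫ π i → k = k' := fun i k k' h1 h2 => (sqP i).hom_ext h1 h2
  have hw : p₁ ≫ π₀ = p₂ ≫ π₀ := sqq.w
  have hX := fun i => (pullback.condition (f := p₁ ≫ π₀) (g := eP R ψ i))
  have ha := fun i => hlift i (pullback.fst (p₁ ≫ π₀) (eP R ψ i) ≫ p₁) (pullback.snd _ _)
    (by rw [Category.assoc]; exact hX i)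
  have hb := fun i => hlift i (pullback.fst (p₁ ≫ π₀) (eP R ψ i) ≫ p₂) (pullback.snd _ _)
    (by rw [Category.assoc, ← hw]; exact hX i)
  choose a ha1 ha2 using ha
  choose b hb1 hb2 using hb
  obtain ⟨c₀, hc₀⟩ := over_surj pfPP (fun i => dG (c i) (a i) (b i))
  let D : ∀ {W : Over (Spec (CommRingCat.of O))} (u v : W ⟶ P₀), W ⟶ G := fun {W} u v =>
    if h : u ≫ π₀ = v ≫ π₀ then pullback.lift u v h ≫ c₀ else 1
  have hD : ∀ {W : Over (Spec (CommRingCat.of O))} (l : W ⟶ PP), D (l ≫ p₁) (l ≫ p₂) = l ≫ c₀ := by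
    intro W l
    have h : (l ≫ p₁) ≫ π₀ = (l ≫ p₂) ≫ π₀ := by rw [Category.assoc, Category.assoc, hw]
    dsimp only [D]
    rw [dif_pos h]
    congr 1
    apply pullback.hom_ext
    · exact pullback.lift_fst _ _ _
    · exact pullback.lift_snd _ _ _
  have hex : ∀ {W : Over (Spec (CommRingCat.of O))} (u v : W ⟶ P₀), u ≫ π₀ = v ≫ π₀ →
      ∃ l : W ⟶ PP, l ≫ p₁ = u ∧ l ≫ p₂ = v := fun u v h =>
    ⟨pullback.lift u v h, pullback.lift_fst _ _ _, pullback.lift_snd _ _ _⟩
  have D_nat : ∀ {W W' : Over (Spec (CommRingCat.of O))} (f : W' ⟶ W) (u v : W ⟶ P₀), u ≫ π₀ = v ≫ π₀ →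
      D (f ≫ u) (f ≫ v) = f ≫ D u v := by
    intro W W' f u v h
    obtain ⟨l, rfl, rfl⟩ := hex u v h
    rw [hD, ← Category.assoc, ← Category.assoc, hD, Category.assoc]
  have claim1 : ∀ (i : I) {W : Over (Spec (CommRingCat.of O))} (u v : W ⟶ P i), u ≫ π i = v ≫ π i →
      D (u ≫ g i) (v ≫ g i) = dG (c i) u v := by
    intro i W u v huv
    have h1 : (u ≫ g i) ≫ π₀ = (v ≫ g i) ≫ π₀ := by
      rw [Category.assoc, Category.assoc, (sqP i).w, ← Category.assoc, ← Category.assoc, huv]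
    obtain ⟨l, hl1, hl2⟩ := hex _ _ h1
    have h2 : l ≫ p₁ ≫ π₀ = (u ≫ π i) ≫ eP R ψ i := by
      rw [← Category.assoc, hl1, Category.assoc, (sqP i).w, Category.assoc]
    let k : W ⟶ pullback (p₁ ≫ π₀) (eP R ψ i) := pullback.lift l (u ≫ π i) h2
    have hk1 : k ≫ pullback.fst (p₁ ≫ π₀) (eP R ψ i) = l := pullback.lift_fst _ _ _
    have hk2 : k ≫ pullback.snd (p₁ ≫ π₀) (eP R ψ i) = u ≫ π i := pullback.lift_snd _ _ _
    have hka : k ≫ a i = u := by
      apply huniq i
      · rw [Category.assoc, ha1, ← Category.assoc, hk1, hl1]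
      · rw [Category.assoc, ha2, hk2]
    have hkb : k ≫ b i = v := by
      apply huniq i
      · rw [Category.assoc, hb1, ← Category.assoc, hk1, hl2]
      · rw [Category.assoc, hb2, hk2, huv]
    rw [← hl1, ← hl2, hD, ← hk1, Category.assoc, hc₀, ← dG_nat (hcoc i) _ _ _ ((ha2 i).trans (hb2 i).symm), hka, hkb]
  have claim2 : ∀ {W : Over (Spec (CommRingCat.of O))} (u v w : W ⟶ P₀), u ≫ π₀ = v ≫ π₀ → v ≫ π₀ = w ≫ π₀ →
      D u v * D v w = D u w := by
    let PPP := pullback p₂ p₁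
    let s₁ : PPP ⟶ PP := pullback.fst p₂ p₁
    let s₂ : PPP ⟶ PP := pullback.snd p₂ p₁
    have hs : s₁ ≫ p₂ = s₂ ≫ p₁ := pullback.condition
    have sq3 := (IsPullback.of_hasPullback p₂ p₁).map (Over.forget _)
    have w1 : IsFinite s₁.left := MorphismProperty.of_isPullback (P := @IsFinite) sq3.flip u1
    have w2 : Flat s₁.left := MorphismProperty.of_isPullback (P := @Flat) sq3.flip u2
    have w3 : LocallyOfFinitePresentation s₁.left :=
      MorphismProperty.of_isPullback (P := @LocallyOfFinitePresentation) sq3.flip u3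
    have x1 : IsFinite (s₁ ≫ p₁ ≫ π₀).left := inferInstanceAs (IsFinite (s₁.left ≫ (p₁ ≫ π₀).left))
    have x2 : Flat (s₁ ≫ p₁ ≫ π₀).left := inferInstanceAs (Flat (s₁.left ≫ (p₁ ≫ π₀).left))
    have x3 : LocallyOfFinitePresentation (s₁ ≫ p₁ ≫ π₀).left :=
      inferInstanceAs (LocallyOfFinitePresentation (s₁.left ≫ (p₁ ≫ π₀).left))
    have pfPPP := hPF PPP (s₁ ≫ p₁ ≫ π₀) x1 x2 x3
    have e12 : (s₁ ≫ p₁) ≫ π₀ = (s₁ ≫ p₂) ≫ π₀ := by rw [Category.assoc, hw, Category.assoc]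
    have e23 : (s₁ ≫ p₂) ≫ π₀ = (s₂ ≫ p₂) ≫ π₀ := by rw [hs, Category.assoc, hw, Category.assoc]
    have univ : D (s₁ ≫ p₁) (s₁ ≫ p₂) * D (s₁ ≫ p₂) (s₂ ≫ p₂) = D (s₁ ≫ p₁) (s₂ ≫ p₂) := by
      apply over_inj pfPPP
      intro i
      have hY := (pullback.condition (f := s₁ ≫ p₁ ≫ π₀) (g := eP R ψ i))
      generalize pullback.fst (s₁ ≫ p₁ ≫ π₀) (eP R ψ i) = m at hY ⊢
      generalize pullback.snd (s₁ ≫ p₁ ≫ π₀) (eP R ψ i) = r at hY
      obtain ⟨n₁, hn1, hn1'⟩ := hlift i (m ≫ s₁ ≫ p₁) r (by rw [← hY, Category.assoc, Category.assoc])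
      obtain ⟨n₂, hn2, hn2'⟩ := hlift i (m ≫ s₁ ≫ p₂) r (by
        rw [← hY, Category.assoc, ← e12, Category.assoc])
      obtain ⟨n₃, hn3, hn3'⟩ := hlift i (m ≫ s₂ ≫ p₂) r (by
        rw [← hY, Category.assoc, ← e23, ← e12, Category.assoc])
      rw [MonObj.comp_mul, ← D_nat m _ _ e12, ← D_nat m _ _ e23, ← D_nat m _ _ (e12.trans e23), ← hn1, ← hn2, ← hn3,
        claim1 i _ _ (hn1'.trans hn2'.symm), claim1 i _ _ (hn2'.trans hn3'.symm),
        claim1 i _ _ (hn1'.trans hn3'.symm)]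
      have := (hcoc i).add n₁ n₂ n₃ (hn1'.trans hn2'.symm) (hn2'.trans hn3'.symm)
      exact congrArg (fun z : (CGrpSh.pts Scheme.fppfPrecoverage G).obj.obj (op _) => z.down.toMul) this
    intro W u v w huv hvw
    obtain ⟨l, hl1, hl2⟩ := hex u v huv
    obtain ⟨l', hl1', hl2'⟩ := hex v w hvw
    let k : W ⟶ PPP := pullback.lift l l' (hl2.trans hl1'.symm)
    have hk1 : k ≫ s₁ = l := pullback.lift_fst _ _ _
    have hk2 : k ≫ s₂ = l' := pullback.lift_snd _ _ _
    have t1 : k ≫ s₁ ≫ p₁ = u := by rw [← Category.assoc, hk1, hl1]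
    have t2 : k ≫ s₁ ≫ p₂ = v := by rw [← Category.assoc, hk1, hl2]
    have t3 : k ≫ s₂ ≫ p₂ = w := by rw [← Category.assoc, hk2, hl2']
    rw [← t1, ← t2, ← t3, D_nat k _ _ e12, D_nat k _ _ e23, D_nat k _ _ (e12.trans e23), ← MonObj.comp_mul, univ]
  let c' : Pr (CGrpSh.pts Scheme.fppfPrecoverage G) P₀ := fun W u v => ULift.up (Additive.ofMul (D u v))
  have hc' : IsCoc π₀ c' := by
    constructor
    · intro W W' f u v huv
      apply ULift.ext
      exact congrArg Additive.ofMul (D_nat f u v huv)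
    · intro W u v w huv hvw
      apply ULift.ext
      exact congrArg Additive.ofMul (claim2 u v w huv hvw)
  obtain ⟨x, hx⟩ := exists_isCls 𝓗 (cov_mem ⟨q2', q3', q4'⟩) hc'
  refine ⟨x, fun i => ?_⟩
  have h1 : IsCls 𝓗 (π i) (fun W u v => c' W (u ≫ g i) (v ≫ g i)) (𝓗.res (eP R ψ i) x) :=
    hx.res (eP R ψ i) (g i) (sqP i).w
  have h2 : IsCls 𝓗 (π i) (c i) (𝓗.res (eP R ψ i) x) := h1.congr (fun {W} u v huv => by
    apply ULift.ext
    exact (congrArg Additive.ofMul (claim1 i u v huv)).symm)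
  exact h2.unique (cov_mem (hcov i)) (hT i).cls

end main

end K827.ProdTor
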