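import Groth.Prelude.Def_CGrpSh
import Groth.Agent.TateGlob.K827.Deg0b

set_option autoImplicit false
universe u

open CategoryTheory CategoryTheory.Limits AlgebraicGeometry Opposite MonObj MonoidalCategory CartesianMonoidalCategory

namespace K827.PtsH0

variable (P : Precoverage Scheme.{u}) {S : Scheme.{u}} [(QuotSh.J P S).Subcanonical]
  (G : Over S) [GrpObj G] [IsCommMonObj G]

/-- Degree-zero cohomology of the sheaf of points of `G` over `T` is the group of points `G(T)`. -/
noncomputable def pt (T : Over S) : BigSite.HU P (CGrpSh.pts P G) 0 T ≃+ Additive (T ⟶ G) :=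
  (K827.Deg0.hu0 P (CGrpSh.pts P G) T).trans (CGrpSh.sectEquiv P G T)

/-- The point attached to a degree-zero class (a plain function). -/
noncomputable def ptMap (T : Over S) (x : BigSite.HU P (CGrpSh.pts P G) 0 T) : T ⟶ G :=
  (pt P G T x).toMul

theorem ptMap_bijective (T : Over S) : Function.Bijective (ptMap P G T) :=
  Additive.toMul.bijective.comp (pt P G T).bijective

/-- Restriction of degree-zero classes is restriction of points. -/
theorem ptMap_resHU {T T' : Over S} (g : T' ⟶ T) (x : BigSite.HU P (CGrpSh.pts P G) 0 T) :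
    ptMap P G T' (HRes.resHU P (CGrpSh.pts P G) 0 g x) = g ≫ ptMap P G T x := by
  have h := K827.Deg0b.hu0_resHU P (CGrpSh.pts P G) g x
  change (CGrpSh.sectEquiv P G T' (K827.Deg0.hu0 P (CGrpSh.pts P G) T' _)).toMul = _
  rw [h]
  rfl

end K827.PtsH0
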