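import Groth.Agent.TateGlob.K827.Pts
import Groth.Prelude.Def_AdFn

/-!
Points of a scheme over the ring of `S`-integers with values in the adele ring: the restricted product.
-/

set_option autoImplicit false
universe u

open CategoryTheory CategoryTheory.Limits AlgebraicGeometry Opposite

namespace K827.PtsRP

variable {Fq : Type u} [Field Fq] {K : Type u} [Field K] [Algebra Fq K] [AdFn.HasFinitePoles Fq K]
  (S : Set (FunFld.Place Fq K))
  (X : Over (Spec (CommRingCat.of (AdFn.SInt S))))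

theorem adelic_ext [IsSeparated X.hom] (x y : AdFn.specOf (AdFn.SInt.toAd S) ⟶ X)
    (h : ∀ v, AdFn.adProjSHom S v ≫ x = AdFn.adProjSHom S v ≫ y) : x = y := by
  refine Pts.ext_of_jointly_injective X (AdFn.SInt.toAd S) (fun v : FunFld.Place Fq K => AdFn.Kv v)
    (fun v => AdFn.SInt.toKv S v) (fun v => AdFn.AdeleRing.proj v) (fun v => rfl) ?_ _ _ h
  intro a ha
  exact Subtype.ext (funext fun v => ha v)

theorem adelic_integral [LocallyOfFiniteType X.hom] (hS : S.Finite)
    (x : AdFn.specOf (AdFn.SInt.toAd S) ⟶ X) :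
    ∀ᶠ v in Filter.cofinite, ∃ (hv : v ∉ S) (z : AdFn.specOf (AdFn.SInt.toOv S hv) ⟶ X),
      AdFn.intResHom S hv ≫ z = AdFn.adProjSHom S v ≫ x := by
  have hloc : ∀ v : FunFld.Place Fq K, IsLocalRing (AdFn.Ov v).toSubring :=
    fun v => inferInstanceAs (IsLocalRing (AdFn.Ov v))
  have h1 := Pts.eventually_integral X (AdFn.SInt.toAd S) (fun v : FunFld.Place Fq K => AdFn.Kv v)
    (fun v => (AdFn.Ov v).toSubring) (fun v => AdFn.AdeleRing.proj v) (fun a => a.2) x
  have h2 : ∀ᶠ v in Filter.cofinite, v ∉ S := by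
    rw [Filter.eventually_cofinite]
    simpa using hS
  filter_upwards [h1, h2] with v hv1 hv2
  obtain ⟨z, hz⟩ := hv1 (AdFn.SInt.toOv S hv2) (RingHom.ext fun _ => rfl)
  exact ⟨hv2, z, hz⟩

open scoped Classical in
/-- The ring `K_v` for `v ∈ T` and `O_v` for `v ∉ T`. -/
noncomputable def R (T : Set (FunFld.Place Fq K)) (v : FunFld.Place Fq K) : Subring (AdFn.Kv v) :=
  if v ∈ T then ⊤ else (AdFn.Ov v).toSubring

omit [AdFn.HasFinitePoles Fq K] in
theorem mem_R (T : Set (FunFld.Place Fq K)) (v : FunFld.Place Fq K) (x : AdFn.Kv v) :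
    x ∈ R T v ↔ (v ∉ T → x ∈ AdFn.Ov v) := by
  unfold R
  split_ifs with h
  · simp [h]
  · simp only [h, not_false_eq_true, forall_const]; rfl

theorem adelic_exists [QuasiCompact X.hom] (T : Set (FunFld.Place Fq K)) (hST : S ⊆ T) (hT : T.Finite)
    (x : ∀ v, AdFn.specOf (AdFn.SInt.toKv S v) ⟶ X)
    (hx : ∀ v (hv : v ∉ S), v ∉ T → ∃ z : AdFn.specOf (AdFn.SInt.toOv S hv) ⟶ X,
      AdFn.intResHom S hv ≫ z = x v) :
    ∃ y : AdFn.specOf (AdFn.SInt.toAd S) ⟶ X, ∀ v, AdFn.adProjSHom S v ≫ y = x v := by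
  classical
  -- the map from `O_S` to `R T v`
  let ψ : ∀ v, AdFn.SInt S →+* R T v := fun v => (AdFn.SInt.toKv S v).codRestrict (R T v) (fun a =>
    (mem_R T v _).2 fun hv => (AdFn.toKv_mem_Ov v a.1).2 (a.2 v fun h => hv (hST h)))
  have hloc : ∀ v, IsLocalRing (R T v) := by
    intro v
    by_cases hv : v ∈ T
    · have e : R T v = ⊤ := by unfold R; rw [if_pos hv]
      rw [e]
      exact IsLocalRing.of_surjective' (Subring.topEquiv (R := AdFn.Kv v)).symm.toRingHom
        (Subring.topEquiv (R := AdFn.Kv v)).symm.surjective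
    · have e : R T v = (AdFn.Ov v).toSubring := by unfold R; rw [if_neg hv]
      rw [e]
      exact inferInstanceAs (IsLocalRing (AdFn.Ov v))
  -- the points over `R T v`
  have hz : ∀ v, ∃ z : AdFn.specOf (ψ v) ⟶ X,
      AdFn.specOfHom (ψ v) (AdFn.SInt.toKv S v) (R T v).subtype rfl ≫ z = x v := by
    intro v
    by_cases hv : v ∈ T
    · let χ : AdFn.Kv v →+* R T v := (RingHom.id _).codRestrict (R T v) (fun a => (mem_R T v _).2
        fun h => absurd hv h)
      refine ⟨AdFn.specOfHom (AdFn.SInt.toKv S v) (ψ v) χ rfl ≫ x v, ?_⟩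
      rw [← Category.assoc]
      have : AdFn.specOfHom (ψ v) (AdFn.SInt.toKv S v) (R T v).subtype rfl ≫
          AdFn.specOfHom (AdFn.SInt.toKv S v) (ψ v) χ rfl = 𝟙 _ := by
        ext1
        change Spec.map (CommRingCat.ofHom (R T v).subtype) ≫ Spec.map (CommRingCat.ofHom χ) = 𝟙 _
        rw [← Spec.map_comp, ← CommRingCat.ofHom_comp]
        exact Spec.map_id _
      rw [this, Category.id_comp]
    · obtain ⟨z, hz⟩ := hx v (fun h => hv (hST h)) hv
      let χ : AdFn.Ov v →+* R T v := (AdFn.Ov v).subtype.codRestrict (R T v) (fun a => (mem_R T v _).2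
        fun h => a.2)
      refine ⟨AdFn.specOfHom (AdFn.SInt.toOv S (fun h => hv (hST h))) (ψ v) χ rfl ≫ z, ?_⟩
      rw [← hz, ← Category.assoc]
      congr 1
      ext1
      change Spec.map (CommRingCat.ofHom (R T v).subtype) ≫ Spec.map (CommRingCat.ofHom χ) =
        Spec.map (CommRingCat.ofHom (AdFn.Ov v).subtype)
      rw [← Spec.map_comp, ← CommRingCat.ofHom_comp]
      rfl
  choose z hz using hz
  obtain ⟨y, hy⟩ := Pts.exists_point_pi X (fun v => R T v) ψ z
  -- the map from the product to the adele ring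
  let ι : (∀ v, R T v) →+* AdFn.AdeleRing Fq K :=
    { toFun := fun a => ⟨fun v => (a v : AdFn.Kv v), by
        have : ∀ᶠ v in Filter.cofinite, v ∉ T := by
          rw [Filter.eventually_cofinite]; simpa using hT
        filter_upwards [this] with v hv
        exact (mem_R T v _).1 (a v).2 hv⟩
      map_one' := rfl
      map_mul' := fun _ _ => rfl
      map_zero' := rfl
      map_add' := fun _ _ => rfl }
  refine ⟨AdFn.specOfHom (RingHom.pi ψ) (AdFn.SInt.toAd S) ι rfl ≫ y, fun v => ?_⟩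
  rw [← hz v, ← hy v, ← Category.assoc, ← Category.assoc]
  congr 1
  ext1
  change Spec.map (CommRingCat.ofHom (AdFn.AdeleRing.proj v)) ≫ Spec.map (CommRingCat.ofHom ι) =
    Spec.map (CommRingCat.ofHom (R T v).subtype) ≫
      Spec.map (CommRingCat.ofHom (Pi.evalRingHom (fun v => R T v) v))
  rw [← Spec.map_comp, ← CommRingCat.ofHom_comp, ← Spec.map_comp, ← CommRingCat.ofHom_comp]
  rfl

end K827.PtsRP
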