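import Groth.Agent.TateGlob.K827.IntBC
import Groth.Agent.TateGlob.K829.Compl
import Groth.Agent.FrobAlg.K675.FFinite

/-!
# The iterated Frobenius of a ring of `S`-integers is finite free (helper827)

`frS p n S : O_S → O_S`, `x ↦ x ^ (p ^ n)`. `exists_basis`: there are a finite set of places `S₁` and finitely many
elements `bᵢ` of `K`, in `O_S` for all `S ⊇ S₁`, forming a basis of `O_S` over `O_S` through `frS`; and for `v ∉ S` the
map `Spec K_v ×_{O_S} O_S ⟶ Spec O_v ×_{O_S} O_S` has the extension property `SecExt`.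
-/

set_option autoImplicit false

universe u

open TensorProduct CategoryTheory CategoryTheory.Limits AlgebraicGeometry FunFld

namespace K827.FrobBase

open K829.FunBase K829.Compl K827.IntBC K827.FinInj

variable (p : ℕ) [Fact p.Prime] (n : ℕ)

/-- A copy of `K`, as a `K`-algebra through the `n`-th power of Frobenius. -/
def FK (_p _n : ℕ) (K : Type u) : Type u := K

instance (K : Type u) [Field K] : Field (FK p n K) := inferInstanceAs (Field K)

noncomputable instance (K : Type u) [Field K] [CharP K p] : Algebra K (FK p n K) :=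
  (iterateFrobenius K p n : K →+* K).toAlgebra

theorem algebraMap_FK (K : Type u) [Field K] [CharP K p] (x : K) :
    algebraMap K (FK p n K) x = (x ^ p ^ n : K) := rfl

section fin

/-- Frobenius of a function field over a finite (perfect) field is finite. -/
theorem frobenius_finite (k K : Type u) [Field k] [Field K] [Algebra (RatFunc k) K] [FunctionField k K] [PerfectRing k p]
    [CharP k p] [CharP K p] : (frobenius K p).Finite := by
  have h0 : (frobenius k p).Finite := by
    refine RingHom.Finite.of_surjective _ (PerfectRing.bijective_frobenius (R := k) (p := p)).2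
  have h1 : (frobenius (Polynomial k) p).Finite := K675.FFinite.finite_polynomial p k h0
  have : CharP (RatFunc k) p := charP_of_injective_algebraMap (algebraMap k (RatFunc k)).injective p
  have h2 : (frobenius (RatFunc k) p).Finite :=
    K675.FFinite.finite_localization p (Polynomial k) h1 (nonZeroDivisors (Polynomial k)) (RatFunc k)
  have h3 : (algebraMap (RatFunc k) K).Finite :=
    RingHom.finite_algebraMap.2 (inferInstanceAs (FiniteDimensional (RatFunc k) K))
  have h4 : ((algebraMap (RatFunc k) K).comp (frobenius (RatFunc k) p)).Finite := h3.comp h2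
  have h5 : (algebraMap (RatFunc k) K).comp (frobenius (RatFunc k) p) =
      (frobenius K p).comp (algebraMap (RatFunc k) K) := by
    ext x
    simp [frobenius_def]
  rw [h5] at h4
  exact RingHom.Finite.of_comp_finite h4

theorem iterateFrobenius_finite (K : Type u) [Field K] [CharP K p] (h : (frobenius K p).Finite) (n : ℕ) :
    (iterateFrobenius K p n).Finite := by
  induction n with
  | zero =>
    rw [iterateFrobenius_zero]
    exact RingHom.Finite.id K
  | succ n ih =>
    have h1 : iterateFrobenius K p (n + 1) = (frobenius K p).comp (iterateFrobenius K p n) := by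
      ext x
      rw [RingHom.comp_apply, frobenius_def, iterateFrobenius_def, iterateFrobenius_def, pow_succ, pow_mul]
    rw [h1]
    exact h.comp ih

end fin

section frS

variable {k K : Type u} [Field k] [Field K] [Algebra k K] [CharP K p] (S : Set (Place k K))

/-- `x ↦ x ^ (p ^ n)` on the ring of `S`-integers. -/
noncomputable def frS : AdFn.SInt S →+* AdFn.SInt S where
  toFun x := x ^ p ^ n
  map_one' := one_pow _
  map_zero' := zero_pow (pow_ne_zero _ (Fact.out : p.Prime).ne_zero)
  map_mul' x y := mul_pow x y _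
  map_add' x y := Subtype.ext (by
    have h := (iterateFrobenius K p n).map_add (x : K) y
    rw [iterateFrobenius_def, iterateFrobenius_def, iterateFrobenius_def] at h
    exact h)

theorem frS_val (x : AdFn.SInt S) : ((frS p n S x : AdFn.SInt S) : K) = (x : K) ^ p ^ n := rfl

theorem toK_frS : (AdFn.SInt.toK S).comp (frS p n S) = (iterateFrobenius K p n).comp (AdFn.SInt.toK S) := by
  ext x
  rfl

end frS

section main

variable {k K : Type u} [Field k] [Field K] [Algebra (RatFunc k) K] [FunctionField k K]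
  [Algebra k K] [IsScalarTower k (RatFunc k) K] [CharP K p]

/-- The finitely many bad places, and the basis. -/
theorem exists_basis (hfr : (frobenius K p).Finite) :
    ∃ (m : ℕ) (b : Fin m → K), IsBas (iterateFrobenius K p n) b ∧ ∃ S₁ : Set (Place k K), S₁.Finite ∧
      (∀ P ∉ S₁, (∀ i, P.1 (b i) ≤ 1) ∧ ∀ c : Fin m → K, P.1 (∑ i, c i ^ p ^ n * b i) ≤ 1 → ∀ i, P.1 (c i) ≤ 1) ∧
      ∀ P ∉ S₁, ∀ z : Fin m → AdFn.Kv P,
        ((algebraMap (AdFn.Kv P) (AdFn.Kv P ⊗[K] FK p n K)).comp (AdFn.Ov P).subtype).IsIntegralElem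
          (∑ i, z i ⊗ₜ[K] (b i : FK p n K)) → ∀ i, z i ∈ AdFn.Ov P := by
  classical
  have hfin : Module.Finite K (FK p n K) := iterateFrobenius_finite p K hfr n
  let B : Module.Basis (Fin (Module.finrank K (FK p n K))) K (FK p n K) := Module.finBasis K (FK p n K)
  let b : Fin (Module.finrank K (FK p n K)) → K := fun i => B i
  have hsmul : ∀ (c x : K), (c • (show FK p n K from x) : FK p n K) = (c ^ p ^ n * x : K) := fun c x => rfl
  have hsum : ∀ c : Fin (Module.finrank K (FK p n K)) → K, (∑ i, c i ^ p ^ n * b i : K) = (∑ i, c i • B i : FK p n K) :=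
    fun c => Finset.sum_congr rfl fun i _ => rfl
  have hbas : IsBas (iterateFrobenius K p n) b := by
    intro x
    refine ⟨fun i => B.repr (x : FK p n K) i, ?_, fun c hc => ?_⟩
    · have h := B.sum_repr (x : FK p n K)
      refine h.symm.trans ?_
      exact Finset.sum_congr rfl fun i _ => hsmul _ _
    · have h : (x : FK p n K) = ∑ i, c i • B i := by
        refine Eq.trans hc ?_
        exact Finset.sum_congr rfl fun i _ => (hsmul _ _).symm
      funext i
      rw [h, map_sum, Finset.sum_apply']
      simp [Finsupp.single_apply]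
  have e1 := eventually_repr_le (k := k) (K := K) (L := FK p n K) B
  have e2 : ∀ᶠ P : Place k K in Filter.cofinite, ∀ i, P.1 (b i) ≤ 1 := by
    rw [Filter.eventually_all]
    exact fun i => eventually_le_one k K _
  have e3 := e1.and e2
  have hint : ∀ (P : Place k K) (w : K), P.1 w ≤ 1 → IntAt (L := FK p n K) P w := by
    intro P w hw
    refine ⟨Polynomial.X ^ p ^ n - Polynomial.C (⟨w, hw⟩ : P.O),
      Polynomial.monic_X_pow_sub_C _ (pow_ne_zero _ (Fact.out : p.Prime).ne_zero), ?_⟩
    rw [Polynomial.eval₂_sub, Polynomial.eval₂_pow, Polynomial.eval₂_X, Polynomial.eval₂_C]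
    exact sub_self (w ^ p ^ n : K)
  refine ⟨_, b, hbas, {P | ¬ ((∀ z : FK p n K, IntAt P z → ∀ i, P.1 (B.repr z i) ≤ 1) ∧
    ∀ i, P.1 (b i) ≤ 1)}, e3, fun P hP => ?_, fun P hP z hz i => ?_⟩
  · have hP' : (∀ z : FK p n K, IntAt P z → ∀ i, P.1 (B.repr z i) ≤ 1) ∧ ∀ i, P.1 (b i) ≤ 1 := by
      by_contra h
      exact hP h
    refine ⟨hP'.2, fun c hc i => ?_⟩
    have h0 : IntAt (L := FK p n K) P (∑ i, c i • B i : FK p n K) := by
      rw [← hsum]
      exact hint P _ hc
    have h1 := hP'.1 _ h0 i
    rw [map_sum, Finset.sum_apply'] at h1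
    simpa [Finsupp.single_apply] using h1
  · have hP' : (∀ z : FK p n K, IntAt P z → ∀ i, P.1 (B.repr z i) ≤ 1) ∧ ∀ i, P.1 (b i) ≤ 1 := by
      by_contra h
      exact hP h
    have h1 := repr_mem (b := B) (fun j => hint P _ (hP'.2 j)) hP'.1 _ hz i
    rw [map_sum, Finset.sum_apply'] at h1
    have h3 : ∀ j, (Algebra.TensorProduct.basis (AdFn.Kv P) B).repr (z j ⊗ₜ[K] (B j)) i =
        if j = i then z j else 0 := by
      intro j
      rw [basis_repr_tmul_pow, B.repr_self, Finsupp.single_apply]
      split_ifs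
      · rw [map_one, mul_one]
      · rw [map_zero, mul_zero]
    have h4 : ∑ j, (Algebra.TensorProduct.basis (AdFn.Kv P) B).repr (z j ⊗ₜ[K] (B j)) i = z i := by
      rw [Finset.sum_congr rfl fun j _ => h3 j, Finset.sum_ite_eq' Finset.univ i]
      simp
    rw [← h4]
    exact h1

variable (k) in
/-- For `S` large, `O_S` is finite free over itself through the `n`-th power of Frobenius, and
`K_v ×_{O_S} O_S ⟶ O_v ×_{O_S} O_S` has the extension property. -/
theorem exists_good (hfr : (frobenius K p).Finite) :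
    ∃ S₁ : Set (Place k K), S₁.Finite ∧ ∀ S : Set (Place k K), S₁ ⊆ S →
      (∃ (m : ℕ) (b : Fin m → AdFn.SInt S), IsBas (frS p n S) b) ∧
      ∀ (v : Place k K) (hv : v ∉ S),
        SecExt ((Over.pullback (Spec.map (CommRingCat.ofHom (frS p n S)))).map (AdFn.intResHom S hv)).left := by
  obtain ⟨m, b, hb, S₁, hS₁, h1, h2⟩ := exists_basis (k := k) p n hfr
  refine ⟨S₁, hS₁, fun S hS => ?_⟩
  let b' : Fin m → AdFn.SInt S := fun i => ⟨b i, fun v hv => (h1 v fun h => hv (hS h)).1 i⟩
  have hb' : IsBas (frS p n S) b' := by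
    intro x
    obtain ⟨c, hc, hu⟩ := hb (x : K)
    refine ⟨fun i => ⟨c i, fun v hv => (h1 v fun h => hv (hS h)).2 c ?_ i⟩, ?_, fun c' hc' => ?_⟩
    · have h3 : (∑ i, c i ^ p ^ n * b i : K) = x := hc.symm
      rw [h3]
      exact x.2 v hv
    · apply Subtype.ext
      change (x : K) = ((∑ i, frS p n S ⟨c i, _⟩ * b' i : AdFn.SInt S) : K)
      rw [AddSubmonoidClass.coe_finsetSum]
      exact hc
    · have h4 : (fun i => (c' i : K)) = c := by
        apply hu
        have h5 := congrArg (fun y : AdFn.SInt S => (y : K)) hc'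
        rw [AddSubmonoidClass.coe_finsetSum] at h5
        exact h5
      funext i
      exact Subtype.ext (congrFun h4 i)
  refine ⟨⟨m, b', hb'⟩, fun v hv => ?_⟩
  let β : AdFn.SInt S →+* AdFn.Kv v ⊗[K] FK p n K :=
    (Algebra.TensorProduct.includeRight : FK p n K →ₐ[K] AdFn.Kv v ⊗[K] FK p n K).toRingHom.comp
      (show K →+* FK p n K from RingHom.id K) |>.comp (AdFn.SInt.toK S)
  refine secExt_bc (frS p n S) b' hb' (AdFn.SInt.toOv S hv) (AdFn.Ov v).subtype (AdFn.SInt.toKv S v) _
    Subtype.val_injective (algebraMap (AdFn.Kv v) (AdFn.Kv v ⊗[K] FK p n K)) β ?_ ?_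
  · ext x
    change (AdFn.toKv v (x : K)) ⊗ₜ[K] (1 : FK p n K) = (1 : AdFn.Kv v) ⊗ₜ[K] (show FK p n K from ((x : K) ^ p ^ n : K))
    have h6 : (show FK p n K from ((x : K) ^ p ^ n : K)) = (x : K) • (1 : FK p n K) := by
      rw [Algebra.smul_def, mul_one]
      rfl
    rw [h6, ← TensorProduct.smul_tmul, Algebra.smul_def, mul_one]
  · intro z hz i
    have h7 : ∑ i, algebraMap (AdFn.Kv v) (AdFn.Kv v ⊗[K] FK p n K) (z i) * β (b' i) =
        ∑ i, z i ⊗ₜ[K] (show FK p n K from b i) := by
      refine Finset.sum_congr rfl fun j _ => ?_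
      change (z j ⊗ₜ[K] (1 : FK p n K)) * ((1 : AdFn.Kv v) ⊗ₜ[K] (show FK p n K from b j)) = _
      rw [Algebra.TensorProduct.tmul_mul_tmul, mul_one, one_mul]
    rw [h7] at hz
    exact ⟨⟨z i, h2 v (fun h => hv (hS h)) z hz i⟩, rfl⟩

end main

end K827.FrobBase
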