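import Groth.Agent.TateGlob.K620.MdlLim

/-!
# Spreading out a homomorphism from a twist (helper827)
-/

set_option autoImplicit false
set_option backward.isDefEq.respectTransparency false
set_option backward.defeqAttrib.useBackward true
universe u
open CategoryTheory CategoryTheory.Limits MonoidalCategory CartesianMonoidalCategory MonObj GrpObj
  AlgebraicGeometry

namespace K827.AsmGen

open K620.GMod K210.LimHom Groth.Agent.Ega43.LimitDescend Groth.Agent.Sga3.H515 GrpModel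

/-- The twist of a model. -/
noncomputable def tw {N B : Scheme.{u}} {t : N ⟶ B} (φ : B ⟶ B) (ψ : N ⟶ N) (h : t ≫ φ = ψ ≫ t) {G : Over N}
    [GrpObj G] (M : Mdl t G) : Mdl t (Red.bc ψ G) where
  X := Red.bc φ M.X
  flat := flat_bc φ M.X
  lfp := lfp_bc φ M.X
  qc := qc_bc φ M.X
  e := ActBC.bcCompIso t φ M.X h ≪≫ (ActBC.bcCompIso ψ t M.X rfl).symm ≪≫ (Over.pullback ψ).mapIso M.e
  mon := by
    rw [Iso.trans_hom, Iso.trans_hom, Iso.symm_hom, Functor.mapIso_hom]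
    infer_instance

variable {I : Type u} [SmallCategory I] {D : I ⥤ Scheme.{u}} {c : Cone D}
  [IsCofiltered I] (hc : IsLimit c) [∀ (i i' : I) (f : i ⟶ i'), IsAffineHom (D.map f)]
    [∀ i, CompactSpace (D.obj i)] [∀ i, QuasiSeparatedSpace (D.obj i)]
    [∀ i, IsSchemeTheoreticallyDominant (c.π.app i)] [∀ i, QuasiCompact (c.π.app i)]

include hc

theorem exists_beta (φ : ∀ i, D.obj i ⟶ D.obj i) (ψ : c.pt ⟶ c.pt)
    (h1 : ∀ {i j : I} (f : j ⟶ i), φ j ≫ D.map f = D.map f ≫ φ i) (h2 : ∀ i, c.π.app i ≫ φ i = ψ ≫ c.π.app i)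
    {G J : Over c.pt} [GrpObj G] [GrpObj J] {i : I} (M : Mdl (c.π.app i) G) (MJ : Mdl (c.π.app i) J)
    (β : Red.bc ψ G ⟶ J) [IsMonHom β] (hβ : β ≠ 1) :
    ∃ (j : I) (f : j ⟶ i) (β' : Red.bc (φ j) (M.mv f).X ⟶ (MJ.mv f).X), IsMonHom β' ∧ β' ≠ 1 := by
  obtain ⟨j, f, u', hu'⟩ := exists_lift hc (tw (φ i) ψ (h2 i) M) MJ β
  have hm : IsMonHom u' := hu'.isMonHom
  let θ : Red.bc (φ j) (M.mv f).X ≅ ((tw (φ i) ψ (h2 i) M).mv f).X :=
    ActBC.bcCompIso (φ j) (D.map f) M.X rfl ≪≫ (ActBC.bcCompIso (D.map f) (φ i) M.X (h1 f).symm).symm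
  have hθ : IsMonHom θ.hom := by
    change IsMonHom ((ActBC.bcCompIso (φ j) (D.map f) M.X rfl).hom ≫
      (ActBC.bcCompIso (D.map f) (φ i) M.X (h1 f).symm).inv)
    infer_instance
  refine ⟨j, f, θ.hom ≫ u', inferInstance, fun h => hβ ?_⟩
  have hu1 : u' = 1 := by
    have : u' = θ.inv ≫ θ.hom ≫ u' := (θ.inv_hom_id_assoc u').symm
    rw [this, h, comp_one]
  have h3 : (Over.pullback (c.π.app j)).map u' = ((tw (φ i) ψ (h2 i) M).mv f).e.hom ≫ β ≫ (MJ.mv f).e.inv :=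
    hu'.map_eq
  rw [hu1, Functor.map_one] at h3
  have h4 : β = ((tw (φ i) ψ (h2 i) M).mv f).e.inv ≫ (((tw (φ i) ψ (h2 i) M).mv f).e.hom ≫ β ≫ (MJ.mv f).e.inv) ≫
      (MJ.mv f).e.hom := by simp
  rw [h4, ← h3]
  have h5 : IsMonHom (MJ.mv f).e.hom := (MJ.mv f).mon
  rw [one_comp, comp_one]

end K827.AsmGen
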