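import Groth.Agent.TateGlob.K827.ClosedQuot
import Groth.Agent.TateLoc.K809.SeqExact

/-!
# Injectivity on `H¹` for a group with a homomorphism to a good group (helper827)

`u : G ⟶ H` factors as `G ⟶ Q ⟶ H` with `G ⟶ Q` an fppf covering with kernel `N` and `Q ⟶ H` a closed immersion. If
restriction along `g` (scheme-theoretically dominant) is injective on `H¹` of `N` and `H` and surjective on sections of
`H`, then it is injective on `H¹` of `G`.
-/

set_option autoImplicit false

universe u

open CategoryTheory CategoryTheory.Limits CartesianMonoidalCategory MonoidalCategory AlgebraicGeometry Opposite MonObj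

namespace K827.LemU

open K828 K827.H1 K827.Tor K594.Elem K594.Cover K827.Chase

variable {S : Scheme.{u}}

theorem inj1_closed (𝓗 : CohT Scheme.fppfPrecoverage S) {Q H : Over S} [GrpObj Q]
    [IsCommMonObj Q] [GrpObj H] [IsCommMonObj H] (i : Q ⟶ H) [IsMonHom i] [IsClosedImmersion i.left]
    {T T' : Over S} [IsAffine T.left] (g : T' ⟶ T) [IsSchemeTheoreticallyDominant g.left] [QuasiCompact g.left]
    (h1 : Inj1 𝓗 (CGrpSh.pts Scheme.fppfPrecoverage H) g) (h0 : Surj0 (CGrpSh.pts Scheme.fppfPrecoverage H) g) :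
    Inj1 𝓗 (CGrpSh.pts Scheme.fppfPrecoverage Q) g ∧ Surj0 (CGrpSh.pts Scheme.fppfPrecoverage Q) g := by
  have hmi : Mono i := by
    have : Mono i.left := inferInstance
    exact (Over.forget S).mono_of_mono_map ‹_›
  have hm : Mono (CGrpSh.ptsMap Scheme.fppfPrecoverage i) := by
    apply K731.Basic.mono_of_injective
    intro T x y hxy
    apply ULift.ext
    have := congrArg ULift.down hxy
    exact (cancel_mono i).1 this
  let A : ShortComplex (BigSite.Ab Scheme.fppfPrecoverage S) :=
    ShortComplex.mk (CGrpSh.ptsMap Scheme.fppfPrecoverage i) (cokernel.π (CGrpSh.ptsMap Scheme.fppfPrecoverage i))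
      (cokernel.condition _)
  have hA : A.ShortExact :=
    { exact := ShortComplex.exact_cokernel _
      mono_f := hm
      epi_g := inferInstanceAs (Epi (cokernel.π (CGrpSh.ptsMap Scheme.fppfPrecoverage i))) }
  have hi := ClosedQuot.inj0 𝓗 hA i (Iso.refl _) (Iso.refl _) (by
    rw [Iso.refl_hom, Iso.refl_hom, Category.comp_id, Category.id_comp]) g
  exact ⟨inj1_first 𝓗 hA g h1 h0 hi, surj0_first 𝓗 hA g h0 hi⟩

theorem main (𝓗 : CohT Scheme.fppfPrecoverage S) {N G Q H : Over S} [GrpObj N] [IsCommMonObj N] [GrpObj G]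
    [IsCommMonObj G] [GrpObj Q] [IsCommMonObj Q] [GrpObj H] [IsCommMonObj H] (j : N ⟶ G) (p : G ⟶ Q) (i : Q ⟶ H)
    [IsMonHom j] [IsMonHom p] [IsMonHom i] [IsClosedImmersion i.left] [Flat p.left] [Surjective p.left]
    [LocallyOfFinitePresentation p.left] (hk : AlgGrp.IsKernel j p)
    {T T' : Over S} [IsAffine T.left] (g : T' ⟶ T) [IsSchemeTheoreticallyDominant g.left] [QuasiCompact g.left]
    (h1 : Inj1 𝓗 (CGrpSh.pts Scheme.fppfPrecoverage H) g) (h0 : Surj0 (CGrpSh.pts Scheme.fppfPrecoverage H) g)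
    (hN : Inj1 𝓗 (CGrpSh.pts Scheme.fppfPrecoverage N) g) : Inj1 𝓗 (CGrpSh.pts Scheme.fppfPrecoverage G) g := by
  have hw : j ≫ p = 1 := by
    have h : IsPullback j (toUnit N) p η[Q] := hk
    rw [h.w, Hom.one_def]
  have hse := K809.SeqExact.shortExact j p hw hk
  obtain ⟨h2, h3⟩ := inj1_closed 𝓗 i g h1 h0
  exact inj1_middle 𝓗 hse g hN h2 h3

end K827.LemU
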