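import Groth.Agent.TateGlob.K827.BaseCh
import Groth.Agent.TateGlob.K827.LemU
import Groth.Agent.SGA3.K210.LimHom2

/-!
# The property to prove for the generic fibre (helper827)

`PP k L G`: for every model of `G` over `O_S`, `H¹(O_v, ·) → H¹(L_v, ·)` is injective for almost all `v`.
-/

set_option autoImplicit false

universe u

open CategoryTheory CategoryTheory.Limits AlgebraicGeometry MonoidalCategory CartesianMonoidalCategory MonObj

namespace K827.Asm

open FunFld K620.GMod K620.Sys K827.GoodWeil K827.BaseCh K827.Chase K828.BigCoh K210.LimHom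

variable (k L : Type u) [Field k] [Field L] [Algebra k L]

/-- For every model of `G` over some `O_S`, the restriction on `H¹` is injective at almost all places. -/
def PP (G : Over (Spec (CommRingCat.of L))) [GrpObj G] : Prop :=
  ∀ (S : Set (Place k L)), S.Finite → S.Nonempty → ∀ (M : Mdl (gen S) G),
    ∀ᶠ v in Filter.cofinite, ∀ hv : v ∉ S, MGood M hv

variable {k L}

theorem PP_of_exists [FinPoles k L] {G : Over (cone k L).pt} [GrpObj G] (i : (Idx k L)ᵒᵖ)
    (M : Mdl ((cone k L).π.app i) G)
    (h : ∀ᶠ v in Filter.cofinite, ∀ hv : v ∉ i.unop.1, MGood (S := i.unop.1) M hv) : PP k L G := by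
  intro S hS hne M'
  let j : (Idx k L)ᵒᵖ := Opposite.op ⟨S, hS, hne⟩
  obtain ⟨l, f, g, he⟩ := exists_eqv (isLimit k L) M (j := j) (show Mdl ((cone k L).π.app j) G from M')
  have hfin : ∀ᶠ v in Filter.cofinite, v ∉ l.unop.1 := l.unop.2.1.compl_mem_cofinite
  filter_upwards [h, hfin] with v hv hl hvS
  have h1 := (mgood_mv_iff f hl).2 (hv fun hS => hl (leOfHom f.unop hS))
  have h2 := MGood.of_eqv (inferInstanceAs (IsSchemeTheoreticallyDominant ((cone k L).π.app l))) he h1
  exact (mgood_mv_iff (j := l) (i := j) g hl).1 h2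

end K827.Asm
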