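import Groth.Prelude.Def_WeilRes
import Groth.Agent.SGA3.K210.LimHom

/-!
# Homomorphisms into Weil restrictions (helper827)
-/

set_option autoImplicit false

universe u

open CategoryTheory CategoryTheory.Limits AlgebraicGeometry MonoidalCategory CartesianMonoidalCategory MonObj

namespace K827.WeilHom

open K210.LimHom

variable {S S' : Scheme.{u}} (f : S' ⟶ S) {G' : Over S'} {R : Over S} [GrpObj G'] [GrpObj R]

theorem mul_comp_fst_snd {X R : Over S} [GrpObj X] [GrpObj R] (α : X ⟶ R) :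
    (α ⊗ₘ α) ≫ μ[R] = (fst X X ≫ α) * (snd X X ≫ α) := by
  rw [Hom.mul_def]
  congr 1

theorem mu_eq {X : Over S} [GrpObj X] : μ[X] = fst X X * snd X X := by
  rw [Hom.mul_def, lift_fst_snd, Category.id_comp]

/-- The morphism attached to a homomorphism by the universal property of the Weil restriction is a homomorphism. -/
theorem isMonHom_lift (q : Red.bc f R ⟶ G') [IsMonHom q] (h : WeilRes.IsWeilRes f G' R q) {X : Over S} [GrpObj X]
    (g : Red.bc f X ⟶ G') [IsMonHom g] : IsMonHom (h.lift X g) := by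
  refine isMonHom_of_mul _ ?_
  apply (h (X ⊗ X)).1
  rw [WeilRes.restr_comp, h.restr_lift, mul_comp_fst_snd, WeilRes.restr_mul, WeilRes.restr_comp,
    WeilRes.restr_comp, h.restr_lift, ← MonObj.mul_comp, ← Functor.map_mul, ← mu_eq]

theorem lift_ne_one (q : Red.bc f R ⟶ G') [IsMonHom q] (h : WeilRes.IsWeilRes f G' R q) {X : Over S} [GrpObj X]
    (g : Red.bc f X ⟶ G') (hg : g ≠ 1) : h.lift X g ≠ 1 := by
  intro h1
  apply hg
  rw [← h.restr_lift X g, h1, WeilRes.restr_one]

theorem exists_lift (q : Red.bc f R ⟶ G') (hq : IsMonHom q) (h : WeilRes.IsWeilRes f G' R q) {X : Over S}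
    [GrpObj X] (g : Red.bc f X ⟶ G') (hg : IsMonHom g) (hg1 : g ≠ 1) : ∃ α : X ⟶ R, IsMonHom α ∧ α ≠ 1 :=
  ⟨h.lift X g, isMonHom_lift f q h g, lift_ne_one f q h g hg1⟩

end K827.WeilHom
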