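import Groth.Agent.TateGlob.K827.AsmStep
import Groth.Agent.TateGlob.K827.AsmBeta
import Groth.Agent.TateGlob.K827.WeilHom

/-!
# The inductive step, for a homomorphism from a Frobenius twist to a finite group (helper827)
-/

set_option autoImplicit false

universe u

open CategoryTheory CategoryTheory.Limits AlgebraicGeometry MonoidalCategory CartesianMonoidalCategory MonObj

namespace K827.Asm

open FunFld K620.GMod K620.Sys K827.GoodWeil K827.BaseCh K827.Chase K828.BigCoh K210.LimHom K827.FrobBase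

section Def

variable (p n : ℕ) [Fact p.Prime] {k L : Type u} [Field k] [Field L] [Algebra k L] [CharP L p]

/-- The Frobenius of a stage. -/
noncomputable def phi (i : (Idx k L)ᵒᵖ) : (D k L).obj i ⟶ (D k L).obj i :=
  Spec.map (CommRingCat.ofHom (frS p n i.unop.1))

variable (L) in
/-- The Frobenius of the generic point. -/
noncomputable def psi : Spec (CommRingCat.of L) ⟶ Spec (CommRingCat.of L) :=
  Spec.map (CommRingCat.ofHom (iterateFrobenius L p n))

theorem phi_comm {i j : (Idx k L)ᵒᵖ} (f : j ⟶ i) : phi p n j ≫ (D k L).map f = (D k L).map f ≫ phi p n i := by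
  change Spec.map (CommRingCat.ofHom (frS p n j.unop.1)) ≫
    Spec.map (CommRingCat.ofHom (incl (leOfHom f.unop)).toRingHom) =
    Spec.map (CommRingCat.ofHom (incl (leOfHom f.unop)).toRingHom) ≫
      Spec.map (CommRingCat.ofHom (frS p n i.unop.1))
  rw [← Spec.map_comp, ← Spec.map_comp]
  rfl

theorem psi_comm (i : (Idx k L)ᵒᵖ) : (cone k L).π.app i ≫ phi p n i = psi p n L ≫ (cone k L).π.app i := by
  change Spec.map (CommRingCat.ofHom (AdFn.SInt.toK i.unop.1)) ≫ Spec.map (CommRingCat.ofHom (frS p n i.unop.1)) =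
    Spec.map (CommRingCat.ofHom (iterateFrobenius L p n)) ≫ Spec.map (CommRingCat.ofHom (AdFn.SInt.toK i.unop.1))
  rw [← Spec.map_comp, ← Spec.map_comp]
  rfl

end Def

variable (p n : ℕ) [Fact p.Prime] {k L : Type u} [Field k] [Field L] [Algebra (RatFunc k) L] [FunctionField k L]
  [Algebra k L] [IsScalarTower k (RatFunc k) L] [CharP L p]

theorem isAffine_left_of {S : Scheme.{u}} [IsAffine S] {X : Over S} (h : IsAffine X.left) : IsAffineHom X.hom :=
  inferInstance

/-- The good affine group and the homomorphism to it. -/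
theorem exists_alpha (hfr : (frobenius L p).Finite) [FinPoles k L] (G : Over (cone k L).pt) [GrpObj G]
    [IsCommMonObj G] [IsSeparated G.hom] [LocallyOfFinitePresentation G.hom] [QuasiCompact G.hom]
    (J : Over (cone k L).pt) [GrpObj J] [IsCommMonObj J] [IsFinite J.hom] [LocallyOfFinitePresentation J.hom]
    (β : Red.bc (psi p n L) G ⟶ J) [IsMonHom β] (hβ : β ≠ 1) :
    ∃ (i : (Idx k L)ᵒᵖ) (M : Mdl ((cone k L).π.app i) G) (H : AsmGen.AGrp (D k L) i) (α : M.X ⟶ H.X),
      AllGood i H.X ∧ IsMonHom α ∧ α ≠ 1 := by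
  obtain ⟨S₁, hS₁, hW⟩ := GoodWeil.exists_weil p n (k := k) hfr
  obtain ⟨S₀⟩ : Nonempty (Idx k L) := inferInstance
  let i₀ : (Idx k L)ᵒᵖ := Opposite.op ⟨S₁ ∪ S₀.1, hS₁.union S₀.2.1, S₀.2.2.mono Set.subset_union_right⟩
  obtain ⟨i₁, f₁, ⟨M₁⟩⟩ := exists_mdl (isLimit k L) G i₀
  obtain ⟨i₂, f₂, ⟨MJ⟩⟩ := exists_mdl (isLimit k L) J i₁
  obtain ⟨i₃, f₃, hfin⟩ := exists_prop_hom (isLimit k L) K286.Desc.descendsLim_isFinite MJ ‹IsFinite J.hom›
  obtain ⟨j, f, β', hβ'm, hβ'⟩ := AsmGen.exists_beta (isLimit k L) (fun i => phi p n i) (psi p n L)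
    (fun f => phi_comm p n f) (fun i => psi_comm p n i) (M₁.mv (f₃ ≫ f₂)) (MJ.mv f₃) β hβ
  have hfin' : IsFinite ((MJ.mv f₃).mv f).X.hom :=
    MorphismProperty.pullback_snd (P := @IsFinite) (MJ.mv f₃).X.hom ((D k L).map f) hfin
  have hle : S₁ ⊆ j.unop.1 := Set.subset_union_left.trans (leOfHom (f ≫ f₃ ≫ f₂ ≫ f₁).unop)
  obtain ⟨H, gH, cH, q, hq, hWR, hHa, hHf, hgood⟩ :=
    @hW j.unop.1 hle j.unop.2.1 j.unop.2.2 ((MJ.mv f₃).mv f).X ((MJ.mv f₃).mv f).grp ((MJ.mv f₃).mv f).comm hfin'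
  obtain ⟨α, hαm, hα1⟩ := @WeilHom.exists_lift _ _ _ _ _ ((MJ.mv f₃).mv f).grp gH q hq hWR
    ((M₁.mv (f₃ ≫ f₂)).mv f).X ((M₁.mv (f₃ ≫ f₂)).mv f).grp β' hβ'm hβ'
  obtain ⟨hD, -⟩ := K829.SIntBase.isDedekind (K829.FunBase.isGen k L) j.unop.2.1 j.unop.2.2
  have hN : IsNoetherianRing (AdFn.SInt j.unop.1) := inferInstance
  have hHl : LocallyOfFinitePresentation H.hom := LocallyOfFinitePresentation.iff_locallyOfFiniteType.mpr hHf
  have hHaa : IsAffineHom H.hom := isAffine_left_of hHa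
  exact ⟨j, (M₁.mv (f₃ ≫ f₂)).mv f, { X := H, grp := gH, comm := cH, aff := hHaa, lfp := hHl }, α, hgood, hαm, hα1⟩

/-- The inductive step, given a nontrivial homomorphism of a Frobenius twist of `G` to a finite group. -/
theorem step_of_finite (hfr : (frobenius L p).Finite) (G : Over (Spec (CommRingCat.of L))) [GrpObj G]
    [IsCommMonObj G] [IsSeparated G.hom] [LocallyOfFiniteType G.hom] [QuasiCompact G.hom]
    (h : ∃ (J : Over (Spec (CommRingCat.of L))) (_ : GrpObj J) (_ : IsCommMonObj J) (_ : IsFinite J.hom)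
      (β : Red.bc (psi p n L) G ⟶ J), IsMonHom β ∧ β ≠ 1)
    (ih : ∀ (N : Over (Spec (CommRingCat.of L))) (gN : GrpObj N) (j : N ⟶ G) [IsMonHom j] [IsClosedImmersion j.left],
      ¬ IsIso j → PP k L N) : PP k L G := by
  have : FinPoles k L := finPoles k L
  obtain ⟨J, gJ, cJ, hJ, β, hβ, hβ1⟩ := h
  have hG : LocallyOfFinitePresentation G.hom := LocallyOfFinitePresentation.iff_locallyOfFiniteType.mpr inferInstance
  have hJl : LocallyOfFinitePresentation J.hom := LocallyOfFinitePresentation.iff_locallyOfFiniteType.mpr inferInstance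
  obtain ⟨i, M, H, α, hH, hα, hα1⟩ := exists_alpha p n (k := k) hfr G J β hβ1
  exact step_of_hom i M H hH α hα1 ih

end K827.Asm
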