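import Groth.Agent.TateGlob.K620.MdlLim
import Groth.Agent.Ega43.LimitDescendClosed

/-!
# Spreading out an exact sequence together with a closed immersion to an affine group (helper827)
-/

set_option autoImplicit false
set_option backward.isDefEq.respectTransparency false
set_option backward.defeqAttrib.useBackward true
universe u
open CategoryTheory CategoryTheory.Limits MonoidalCategory CartesianMonoidalCategory MonObj GrpObj
  AlgebraicGeometry

namespace K827.AsmGen

open K620.GMod K210.LimHom Groth.Agent.Ega43.LimitDescend Groth.Agent.Sga3.H515 GrpModel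

theorem isMonHom_conj {S S₁ S₂ : Scheme.{u}} (g : S₂ ⟶ S₁) (f : S₁ ⟶ S) {d : S₂ ⟶ S} (h : g ≫ f = d) {X Y : Over S}
    [GrpObj X] [GrpObj Y] (v : Red.bc d X ⟶ Red.bc d Y) [IsMonHom v] :
    IsMonHom ((ActBC.bcCompIso g f X h).hom ≫ v ≫ (ActBC.bcCompIso g f Y h).inv) := inferInstance

theorem isAffineHom_bc {S S' : Scheme.{u}} (f : S' ⟶ S) {X : Over S} (h : IsAffineHom X.hom) :
    IsAffineHom (Red.bc f X).hom :=
  MorphismProperty.pullback_snd (P := @IsAffineHom) _ _ h

variable {I : Type u} [SmallCategory I] {D : I ⥤ Scheme.{u}} {c : Cone D}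

/-- A commutative affine finitely presented group at a stage. -/
structure AGrp (D : I ⥤ Scheme.{u}) (i : I) where
  /-- the group -/
  X : Over (D.obj i)
  [grp : GrpObj X]
  [comm : IsCommMonObj X]
  [aff : IsAffineHom X.hom]
  [lfp : LocallyOfFinitePresentation X.hom]

attribute [instance] AGrp.grp AGrp.comm AGrp.aff AGrp.lfp

/-- Base change. -/
noncomputable def AGrp.mv {i j : I} (H : AGrp D i) (f : j ⟶ i) : AGrp D j where
  X := Red.bc (D.map f) H.X
  aff := isAffineHom_bc _ H.aff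
  lfp := lfp_bc _ _

variable [IsCofiltered I] (hc : IsLimit c) [∀ (i i' : I) (f : i ⟶ i'), IsAffineHom (D.map f)]
    [∀ i, CompactSpace (D.obj i)] [∀ i, QuasiSeparatedSpace (D.obj i)]
    [∀ i, IsSchemeTheoreticallyDominant (c.π.app i)] [∀ i, QuasiCompact (c.π.app i)]

include hc

/-- A closed immersion of the generic fibre spreads out. -/
theorem exists_closed {i : I} (H : AGrp D i) {Q : Over c.pt} [GrpObj Q]
    (M : Mdl (c.π.app i) Q) (w : Q ⟶ Red.bc (c.π.app i) H.X) [IsMonHom w]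
    (hw : IsClosedImmersion w.left) (P : ∀ i, AGrp D i → Prop)
    (hP : ∀ {i j : I} (f : j ⟶ i) (H : AGrp D i), P i H → P j (H.mv f)) (hPH : P i H) :
    ∃ (j : I) (_ : j ⟶ i) (M' : Mdl (c.π.app j) Q) (H' : AGrp D j) (w' : M'.X ⟶ H'.X),
      P j H' ∧ IsMonHom w' ∧ IsClosedImmersion w'.left := by
  obtain ⟨b, fb, v, hv⟩ := exists_map_eq_of hc M.X H.X (M.e.hom ≫ w)
  have hsv : IsSeparated (Red.bc (D.map fb) H.X).hom := inferInstance
  have hfv : Flat (Red.bc (D.map fb) M.X).hom := flat_bc _ _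
  have hvm : IsMonHom v := by
    refine isMonHom_of_map (c.π.app b) v ?_
    rw [hv]
    exact isMonHom_conj _ _ _ _
  have hcl : IsClosedImmersion ((Over.pullback (c.π.app b)).map v).left := by
    rw [hv]
    have h1 : IsIso ((Over.forget _).map (ActBC.bcCompIso (c.π.app b) (D.map fb) M.X (c.w fb)).hom) := inferInstance
    have h2 : IsIso ((Over.forget _).map (ActBC.bcCompIso (c.π.app b) (D.map fb) H.X (c.w fb)).inv) := inferInstance
    have h3 : IsIso ((Over.forget _).map M.e.hom) := inferInstance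
    rw [Over.comp_left, Over.comp_left, Over.comp_left]
    have h1' : IsIso (ActBC.bcCompIso (c.π.app b) (D.map fb) M.X (c.w fb)).hom.left := h1
    have h2' : IsIso (ActBC.bcCompIso (c.π.app b) (D.map fb) H.X (c.w fb)).inv.left := h2
    have h3' : IsIso M.e.hom.left := h3
    infer_instance
  have ha : LocallyOfFinitePresentation (Red.bc (D.map fb) M.X).hom := lfp_bc _ _
  have hb : QuasiCompact (Red.bc (D.map fb) M.X).hom := qc_bc _ _
  have hd : IsSeparated (Red.bc (D.map fb) M.X).hom := inferInstance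
  have he : LocallyOfFinitePresentation (Red.bc (D.map fb) H.X).hom := lfp_bc _ _
  have hf : IsAffineHom (Red.bc (D.map fb) H.X).hom := isAffineHom_bc _ H.aff
  obtain ⟨d, fd, hd⟩ := exists_prop_map hc Groth.Agent.Ega43.LimitDescendClosed.descendsLim_isClosedImmersion v hcl
  exact ⟨d, fd ≫ fb, (M.mv fb).mv fd, (H.mv fb).mv fd, (Over.pullback (D.map fd)).map v,
    hP _ _ (hP _ _ hPH), inferInstance, hd⟩

/-- Spreading out `0 → N → G → Q → 0` and `Q ⟶ H`. -/
theorem exists_stage {G N Q : Over c.pt} [GrpObj G] [IsCommMonObj G] [GrpObj N] [IsCommMonObj N] [GrpObj Q]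
    [IsCommMonObj Q] [Flat N.hom] [IsSeparated N.hom] [LocallyOfFinitePresentation N.hom] [QuasiCompact N.hom]
    [Flat Q.hom] [IsSeparated Q.hom] [LocallyOfFinitePresentation Q.hom] [QuasiCompact Q.hom]
    {i : I} (M : Mdl (c.π.app i) G) (H : AGrp D i)
    (j : N ⟶ G) (p : G ⟶ Q) (w : Q ⟶ Red.bc (c.π.app i) H.X) [IsMonHom j] [IsMonHom p] [IsMonHom w]
    (hk : AlgGrp.IsKernel j p) (hf : Flat p.left) (hs : Surjective p.left)
    (hw : IsClosedImmersion w.left) (P : ∀ i, AGrp D i → Prop)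
    (hP : ∀ {i j : I} (f : j ⟶ i) (H : AGrp D i), P i H → P j (H.mv f)) (hPH : P i H) :
    ∃ (e : I) (_ : e ⟶ i) (M₁ : Mdl (c.π.app e) N) (M₂ : Mdl (c.π.app e) G) (M₃ : Mdl (c.π.app e) Q)
      (H' : AGrp D e) (u' : M₁.X ⟶ M₂.X) (v' : M₂.X ⟶ M₃.X) (w' : M₃.X ⟶ H'.X), P e H' ∧ IsMonHom u' ∧
      IsMonHom v' ∧ IsMonHom w' ∧ AlgGrp.IsKernel u' v' ∧ Flat v'.left ∧ Surjective v'.left ∧
      IsClosedImmersion w'.left := by
  obtain ⟨a, fa, ⟨MQ⟩⟩ := exists_mdl hc Q i
  have hw2 : IsClosedImmersion (w ≫ (ActBC.bcCompIso (c.π.app a) (D.map fa) H.X (c.w fa)).inv).left := by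
    have h2 : IsIso ((Over.forget _).map (ActBC.bcCompIso (c.π.app a) (D.map fa) H.X (c.w fa)).inv) := inferInstance
    have h2' : IsIso (ActBC.bcCompIso (c.π.app a) (D.map fa) H.X (c.w fa)).inv.left := h2
    rw [Over.comp_left]
    infer_instance
  obtain ⟨b, fb, MQ', H', w', hPH', hwm, hwc⟩ := exists_closed hc (H.mv fa) MQ
    (w ≫ (ActBC.bcCompIso (c.π.app a) (D.map fa) H.X (c.w fa)).inv) hw2 P hP (hP _ _ hPH)
  obtain ⟨d, fd, ⟨MN⟩⟩ := exists_mdl hc N b
  obtain ⟨e, fe, u, v, hu, hv, hk', hf', hs'⟩ := exists_exact hc MN (M.mv (fd ≫ fb ≫ fa)) (MQ'.mv fd) j p hk hf hs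
  refine ⟨e, fe ≫ fd ≫ fb ≫ fa, MN.mv fe, (M.mv (fd ≫ fb ≫ fa)).mv fe, (MQ'.mv fd).mv fe, (H'.mv fd).mv fe, u, v,
    (Over.pullback (D.map fe)).map ((Over.pullback (D.map fd)).map w'), hP _ _ (hP _ _ hPH'), hu.isMonHom,
    hv.isMonHom, inferInstance, hk', hf', hs', ?_⟩
  have h1 : IsClosedImmersion ((Over.pullback (D.map fd)).map w').left :=
    MorphismProperty.of_isPullback (P := @IsClosedImmersion) (isPullback_map_left _ w') hwc
  exact MorphismProperty.of_isPullback (P := @IsClosedImmersion) (isPullback_map_left _ _) h1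

end K827.AsmGen
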