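import Groth.Agent.SGA3x.K11.QuotOrbit
import Groth.Agent.S3036
import Groth.Agent.Grpsch.KerMul
import Groth.Agent.Sga3.H830.CommAux

/-!
# Factorisation of a homomorphism over a field (helper827)
-/

set_option autoImplicit false

universe u

open CategoryTheory CategoryTheory.Limits AlgebraicGeometry MonoidalCategory CartesianMonoidalCategory MonObj GrpObj

namespace K827.KStep

variable {K : Type u} [Field K]

theorem isKernel_of_comp_mono {S : Scheme.{u}} {N G Q H : Over S} [GrpObj Q] [GrpObj H] (j : N ⟶ G) (p : G ⟶ Q)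
    (i : Q ⟶ H) [IsMonHom i] [Mono i] (h : IsPullback j (toUnit N) (p ≫ i) η[H]) : AlgGrp.IsKernel j p := by
  have hw : j ≫ p = toUnit N ≫ η[Q] := by
    rw [← cancel_mono i, Category.assoc, h.w, Category.assoc, IsMonHom.one_hom]
  refine ⟨⟨hw⟩, ⟨PullbackCone.IsLimit.mk hw (fun s => h.lift s.fst s.snd ?_) (fun s => ?_) (fun s => ?_)
    (fun s m h1 h2 => ?_)⟩⟩
  · rw [← Category.assoc, s.condition, Category.assoc, IsMonHom.one_hom]
  · exact h.lift_fst _ _ _
  · exact h.lift_snd _ _ _
  · apply h.hom_ext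
    · rw [h1, h.lift_fst]
    · rw [h2, h.lift_snd]

/-- A nontrivial homomorphism factors into a faithfully flat homomorphism with a proper closed kernel and a closed
immersion. -/
theorem exists_factor {G H : Over (Spec (CommRingCat.of K))} [GrpObj G] [IsCommMonObj G] [GrpObj H] [IsCommMonObj H]
    [LocallyOfFiniteType G.hom] [QuasiCompact G.hom] [LocallyOfFiniteType H.hom] [IsSeparated H.hom] (u : G ⟶ H)
    [IsMonHom u] (hu : u ≠ 1) :
    ∃ (N Q : Over (Spec (CommRingCat.of K))) (_ : GrpObj N) (_ : IsCommMonObj N) (_ : GrpObj Q) (_ : IsCommMonObj Q)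
      (j : N ⟶ G) (p : G ⟶ Q) (i : Q ⟶ H) (_ : IsMonHom j) (_ : IsMonHom p) (_ : IsMonHom i),
      IsClosedImmersion j.left ∧ ¬ IsIso j ∧ AlgGrp.IsKernel j p ∧ Flat p.left ∧ Surjective p.left ∧
      LocallyOfFinitePresentation p.left ∧ IsClosedImmersion i.left ∧ LocallyOfFiniteType Q.hom ∧
      QuasiCompact Q.hom ∧ IsSeparated Q.hom := by
  obtain ⟨N, gN, j, hj, hpb⟩ := Groth.Agent.Grpsch.KerMul.exists_kernel u
  have hη : IsClosedImmersion (η[H] : 𝟙_ _ ⟶ H).left := by
    have : IsClosedImmersion ((η[H] : 𝟙_ _ ⟶ H).left ≫ H.hom) := by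
      rw [Over.w η[H]]; exact inferInstanceAs (IsClosedImmersion (𝟙 _))
    exact IsClosedImmersion.of_comp _ H.hom
  have hjc : IsClosedImmersion j.left := MorphismProperty.of_isPullback (hpb.map (Over.forget _)).flip hη
  have hjm : Mono j := Over.mono_of_mono_left j
  have hNc : IsCommMonObj N := Groth.Agent.Sga3.H830.CommAux.isCommMonObj_of_mono j
  have : LocallyOfFinitePresentation G.hom := LocallyOfFinitePresentation.iff_locallyOfFiniteType.mpr inferInstance
  have hNf : Flat N.hom := inferInstance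
  obtain ⟨Q, gQ, p, hp, i, hi, hpi, hs, hf, hlfp, hm, hQ, -⟩ :=
    K11.QuotOrbit.exists_quotient_ker (Or.inl inferInstance) u N j hpb
  have hQc : IsCommMonObj Q := Groth.Agent.Sga3.H830.CommAux.isCommMonObj_of_mono i
  have hQf : LocallyOfFiniteType Q.hom := inferInstance
  have hQq : QuasiCompact Q.hom := by
    have h1 : CompactSpace G.left := HasAffineProperty.iff_of_isAffine (P := @QuasiCompact).1 ‹QuasiCompact G.hom›
    have h2 : CompactSpace Q.left := by
      refine ⟨?_⟩
      have := isCompact_range p.left.continuous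
      rwa [Set.range_eq_univ.2 hs.surj] at this
    exact HasAffineProperty.iff_of_isAffine (P := @QuasiCompact).2 h2
  have hiq : QuasiCompact i.left := by
    have : QuasiCompact (i.left ≫ H.hom) := by rw [Over.w i]; infer_instance
    exact QuasiCompact.of_comp _ H.hom
  have hic : IsClosedImmersion i.left := Groth.Agent.S3036.result K Q H i
  have hQs : IsSeparated Q.hom := by
    rw [← Over.w i]; infer_instance
  refine ⟨N, Q, gN, hNc, gQ, hQc, j, p, i, hj, hp, hi, hjc, fun hiso => hu ?_, ?_, hf, hs, hlfp, hic, hQf, hQq, hQs⟩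
  · rw [← cancel_epi j, hpb.w, comp_one]
    rfl
  · subst hpi
    exact isKernel_of_comp_mono j p i hpb

end K827.KStep
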