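import Groth.Agent.TateGlob.K827.AsmDef
import Groth.Agent.TateGlob.K827.KStep
import Groth.Agent.TateGlob.K827.AsmGen

/-!
# The inductive step, for a homomorphism to a good group (helper827)
-/

set_option autoImplicit false

universe u

open CategoryTheory CategoryTheory.Limits AlgebraicGeometry MonoidalCategory CartesianMonoidalCategory MonObj

namespace K827.Asm

open FunFld K620.GMod K620.Sys K827.GoodWeil K827.BaseCh K827.Chase K828.BigCoh K210.LimHom

variable {k L : Type u} [Field k] [Field L] [Algebra k L]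

theorem dom_intRes {S : Set (Place k L)} {v : Place k L} (hv : v ∉ S) :
    IsSchemeTheoreticallyDominant (AdFn.intResHom S hv).left := by
  have : Fact (Function.Injective (AdFn.Ov v).subtype) := ⟨Subtype.val_injective⟩
  exact inferInstanceAs (IsSchemeTheoreticallyDominant (Spec.map (CommRingCat.ofHom (AdFn.Ov v).subtype)))

theorem qc_intRes {S : Set (Place k L)} {v : Place k L} (hv : v ∉ S) :
    QuasiCompact (AdFn.intResHom S hv).left :=
  inferInstanceAs (QuasiCompact (Spec.map (CommRingCat.ofHom (AdFn.Ov v).subtype)))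

/-- All places outside `S` are good. -/
def AllGood (i : (Idx k L)ᵒᵖ) (H : Over ((D k L).obj i)) [GrpObj H] [IsCommMonObj H] : Prop :=
  ∀ (v : Place k L) (hv : v ∉ i.unop.1), GoodAt i.unop.1
    (show BigSite.Ab Scheme.fppfPrecoverage ((D k L).obj i) from CGrpSh.pts Scheme.fppfPrecoverage H) hv

theorem AllGood.bc {i j : (Idx k L)ᵒᵖ} (f : j ⟶ i) {H : Over ((D k L).obj i)} [gH : GrpObj H]
    [cH : IsCommMonObj H] (hH : AllGood i H) : AllGood j (Red.bc ((D k L).map f) H) := fun _ hv =>
  (@goodAt_bc_iff _ _ _ _ _ _ _ (leOfHom f.unop) _ hv H gH cH).2 (hH _ fun hS => hv (leOfHom f.unop hS))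

/-- The chase at one stage. -/
theorem mgood_of_chase (i : (Idx k L)ᵒᵖ) {G : Over (cone k L).pt} [GrpObj G] (M : Mdl ((cone k L).π.app i) G)
    {N Q H : Over ((D k L).obj i)} [gN : GrpObj N] [cN : IsCommMonObj N] [GrpObj Q] [IsCommMonObj Q]
    [GrpObj H] [IsCommMonObj H] [LocallyOfFinitePresentation Q.hom] (j : N ⟶ M.X) (p : M.X ⟶ Q) (w : Q ⟶ H)
    [IsMonHom j] [IsMonHom p] [IsMonHom w]
    (hi : IsClosedImmersion w.left) (hf : Flat p.left) (hs : Surjective p.left) (hk : AlgGrp.IsKernel j p)
    (hH : AllGood i H) {v : Place k L} (hv : v ∉ i.unop.1)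
    (hN : Inj1 (bigCoh Scheme.fppfPrecoverage ((D k L).obj i))
      (CGrpSh.pts Scheme.fppfPrecoverage N) (AdFn.intResHom i.unop.1 hv)) : MGood (S := i.unop.1) M hv := by
  have hlfp : LocallyOfFinitePresentation p.left := by
    have : LocallyOfFinitePresentation (p.left ≫ Q.hom) := by rw [Over.w p]; infer_instance
    exact Groth.Agent.Flat2E.Thick.locallyOfFinitePresentation_of_comp _ Q.hom
  let T : Over ((D k L).obj i) := AdFn.specOf (AdFn.SInt.toOv i.unop.1 hv)
  let T' : Over ((D k L).obj i) := AdFn.specOf (AdFn.SInt.toKv i.unop.1 v)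
  let g : T' ⟶ T := AdFn.intResHom i.unop.1 hv
  have : IsAffine T.left := inferInstanceAs (IsAffine (Spec (CommRingCat.of (AdFn.Ov v))))
  have : IsSchemeTheoreticallyDominant g.left := dom_intRes hv
  have : QuasiCompact g.left := qc_intRes hv
  exact LemU.main (bigCoh Scheme.fppfPrecoverage ((D k L).obj i)) j p w hk g (hH v hv).1 (hH v hv).2 hN

/-- The inductive step, given a nontrivial homomorphism of a model to a good affine group. -/
theorem step_of_hom [FinPoles k L] {G : Over (cone k L).pt} [GrpObj G] [IsCommMonObj G]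
    [LocallyOfFiniteType G.hom] [QuasiCompact G.hom] [IsSeparated G.hom] (i : (Idx k L)ᵒᵖ)
    (M : Mdl ((cone k L).π.app i) G) (H : AsmGen.AGrp (D k L) i) (hH : AllGood i H.X) (α : M.X ⟶ H.X) [IsMonHom α]
    (hα : α ≠ 1)
    (ih : ∀ (N : Over (cone k L).pt) (gN : GrpObj N) (j : N ⟶ G) [IsMonHom j] [IsClosedImmersion j.left],
      ¬ IsIso j → PP k L N) : PP k L G := by
  let u : G ⟶ Red.bc ((cone k L).π.app i) H.X := M.e.inv ≫ (Over.pullback ((cone k L).π.app i)).map α
  have hu : u ≠ 1 := by
    intro h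
    apply hα
    apply map_inj ((cone k L).π.app i)
    have h1 : (Over.pullback ((cone k L).π.app i)).map α = M.e.hom ≫ u := by simp [u]
    rw [h1, h, comp_one, Functor.map_one]
  obtain ⟨N, Q, gN, cN, gQ, cQ, j, p, w0, hj, hp, hw0, hjc, hjn, hk, hf, hs, hlfp, hic, hQf, hQq, hQs⟩ :=
    KStep.exists_factor (K := L) u hu
  have hNP : PP k L N := ih N gN j hjn
  have hNf : LocallyOfFiniteType N.hom := by rw [← Over.w j]; infer_instance
  have hNl : LocallyOfFinitePresentation N.hom := LocallyOfFinitePresentation.iff_locallyOfFiniteType.mpr hNf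
  have hNq : QuasiCompact N.hom := by rw [← Over.w j]; infer_instance
  have hNs : IsSeparated N.hom := by rw [← Over.w j]; infer_instance
  have hQl : LocallyOfFinitePresentation Q.hom := LocallyOfFinitePresentation.iff_locallyOfFiniteType.mpr hQf
  obtain ⟨e, -, M₁, M₂, M₃, H', u', v', w', hH', hu', hv', hw', hk', hf', hs', hc'⟩ :=
    AsmGen.exists_stage (isLimit k L) M H j p w0 hk hf hs hic (fun i H => AllGood i H.X)
      (fun f H hH => hH.bc f) hH
  refine PP_of_exists e M₂ ?_
  filter_upwards [hNP e.unop.1 e.unop.2.1 e.unop.2.2 M₁] with v hv hvS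
  exact mgood_of_chase e M₂ u' v' w' hc' hf' hs' hk' hH' hvS (hv hvS)

end K827.Asm
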