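import Groth.Agent.Sga3B.Hens.WeilRes
import Groth.Agent.WeilRes.K933.WRFinite
import Groth.Agent.Neron.K490.WeilGrp
import Groth.Agent.CGrpSh3.K983.UnitsRep
import Groth.Agent.AbVar.K509.HomPts
import Mathlib.RingTheory.FiniteStability

/-!
# Weil restriction of affine groups of finite type along a finite free extension of noetherian rings (helper827)

`exists_grp`: `A → A'` finite free, `A` noetherian, `G'` a commutative affine group of finite type over `A'`: the Weil
restriction exists, is affine of finite type over `A`, with its group structure.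
-/

set_option autoImplicit false

universe u

open TensorProduct CategoryTheory CategoryTheory.Limits AlgebraicGeometry MonObj

namespace K827.WeilRing

/-- For `A'/A` finite free, `A` noetherian and `C` a finitely generated `A'`-algebra, the functor
`R ↦ Hom_{A'}(C, R ⊗ A')` is represented by a finitely generated `A`-algebra. -/
theorem exists_weil (A A' C : Type u) [CommRing A] [IsNoetherianRing A] [CommRing A'] [Algebra A A']
    [Module.Finite A A'] [Module.Free A A'] [CommRing C] [Algebra A' C] [Algebra.FiniteType A' C] :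
    ∃ (W : Type u) (_ : CommRing W) (_ : Algebra A W) (_ : Algebra.FiniteType A W) (ev : C →+* W ⊗[A] A'),
      (∀ l, ev (algebraMap A' C l) = 1 ⊗ₜ[A] l) ∧
      ∀ (R : Type u) [CommRing R] [Algebra A R] (e : C →+* R ⊗[A] A'), (∀ l, e (algebraMap A' C l) = 1 ⊗ₜ[A] l) →
        ∃! φ : W →ₐ[A] R, ∀ x, Algebra.TensorProduct.map φ (AlgHom.id A A') (ev x) = e x := by
  let _ : Algebra A C := ((algebraMap A' C).comp (algebraMap A A')).toAlgebra
  have : IsScalarTower A A' C := IsScalarTower.of_algebraMap_eq fun _ => rfl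
  have h1 : Algebra.FiniteType A C := Algebra.FiniteType.trans (S := A') inferInstance inferInstance
  have h2 : Algebra.FinitePresentation A C := Algebra.FinitePresentation.of_finiteType.1 h1
  obtain ⟨P, _, _, hP, π, hπ⟩ := Groth.Agent.Sga3B.Hens.WeilRes.exists_weil A A' (fun _ : PUnit.{u+1} => C)
  have hPf : Algebra.FiniteType A P := Algebra.FinitePresentation.of_finiteType.2 hP
  have hfin : Algebra.FiniteType A (P ⊗[A] A') :=
    Algebra.FiniteType.trans (S := P) hPf (Algebra.FiniteType.baseChange P)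
  have : IsNoetherianRing (P ⊗[A] A') := Algebra.FiniteType.isNoetherianRing A _
  let a : Ideal (P ⊗[A] A') := Ideal.span (Set.range fun l : A' => π ⟨⟩ (algebraMap A' C l) - 1 ⊗ₜ l)
  obtain ⟨b, -, hb⟩ := Groth.Agent.Sga3B.Hens.WeilRes.exists_ideal A A' P a (IsNoetherian.noetherian a)
  have hb' : ∀ (B : Type u) [CommRing B] [Algebra A B] (φ : P →ₐ[A] B),
      (∀ l : A', Algebra.TensorProduct.map φ (AlgHom.id A A') (π ⟨⟩ (algebraMap A' C l)) = 1 ⊗ₜ l) ↔
        ∀ c ∈ b, φ c = 0 := by
    intro B _ _ φ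
    rw [← hb B φ]
    constructor
    · intro h z hz
      have h3 : a ≤ RingHom.ker (Algebra.TensorProduct.map φ (AlgHom.id A A')).toRingHom := by
        rw [Ideal.span_le]
        rintro _ ⟨l, rfl⟩
        change Algebra.TensorProduct.map φ (AlgHom.id A A') (π ⟨⟩ (algebraMap A' C l) - 1 ⊗ₜ l) = 0
        rw [map_sub, h l, Algebra.TensorProduct.map_tmul, map_one, AlgHom.id_apply, sub_self]
      exact h3 hz
    · intro h l
      have h4 := h _ (Ideal.subset_span ⟨l, rfl⟩)
      rwa [map_sub, Algebra.TensorProduct.map_tmul, map_one, AlgHom.id_apply, sub_eq_zero] at h4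
  let q : P →ₐ[A] P ⧸ b := Ideal.Quotient.mkₐ A b
  have hq : ∀ l : A', Algebra.TensorProduct.map q (AlgHom.id A A') (π ⟨⟩ (algebraMap A' C l)) = 1 ⊗ₜ l :=
    (hb' _ q).2 fun c hc => Ideal.Quotient.eq_zero_iff_mem.2 hc
  refine ⟨P ⧸ b, inferInstance, inferInstance, inferInstance,
    (Algebra.TensorProduct.map q (AlgHom.id A A')).toRingHom.comp (π ⟨⟩).toRingHom, hq, ?_⟩
  intro R _ _ e he
  let e' : C →ₐ[A] R ⊗[A] A' := { e with
    commutes' := fun r => by
      change e (algebraMap A' C (algebraMap A A' r)) = _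
      rw [he, Algebra.TensorProduct.algebraMap_apply, Algebra.algebraMap_eq_smul_one, Algebra.algebraMap_eq_smul_one,
        TensorProduct.smul_tmul] }
  obtain ⟨φ, hφ, hφu⟩ := hπ R (fun _ => e')
  have hφ1 : (Algebra.TensorProduct.map φ (AlgHom.id A A')).comp (π ⟨⟩) = e' := hφ ⟨⟩
  have hk : ∀ c ∈ b, φ c = 0 := by
    rw [← hb' R φ]
    intro l
    have := DFunLike.congr_fun hφ1 (algebraMap A' C l)
    exact this.trans (he l)
  let ψ : P ⧸ b →ₐ[A] R := Ideal.Quotient.liftₐ b φ hk
  have hψ : ψ.comp q = φ := AlgHom.ext fun x => rfl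
  refine ⟨ψ, ?_, ?_⟩
  · intro c
    have h5 : (Algebra.TensorProduct.map ψ (AlgHom.id A A')) ((Algebra.TensorProduct.map q (AlgHom.id A A')) (π ⟨⟩ c)) =
        (Algebra.TensorProduct.map φ (AlgHom.id A A')) (π ⟨⟩ c) := by
      rw [← hψ, ← AlgHom.comp_apply, ← Algebra.TensorProduct.map_comp]
      rfl
    exact h5.trans (DFunLike.congr_fun hφ1 c)
  · intro ψ' hψ'
    have h6 : ψ'.comp q = φ := by
      refine hφu _ fun _ => ?_
      ext c
      refine Eq.trans ?_ (hψ' c)
      change _ = (Algebra.TensorProduct.map ψ' (AlgHom.id A A')) ((Algebra.TensorProduct.map q (AlgHom.id A A')) (π ⟨⟩ c))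
      rw [← AlgHom.comp_apply _ (Algebra.TensorProduct.map q (AlgHom.id A A')), ← Algebra.TensorProduct.map_comp]
      rfl
    ext x
    obtain ⟨x, rfl⟩ := Ideal.Quotient.mk_surjective x
    exact (DFunLike.congr_fun h6 x).trans (DFunLike.congr_fun hψ x).symm

open K933.WRAffine

/-- The Weil restriction of an affine scheme of finite type is affine of finite type. -/
theorem exists_isWeilRes_spec (A A' : Type u) [CommRing A] [IsNoetherianRing A] [CommRing A'] [Algebra A A']
    [Module.Finite A A'] [Module.Free A A'] (E : Type u) [CommRing E] [Algebra A' E] [Algebra.FiniteType A' E] :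
    ∃ (P : Type u) (_ : CommRing P) (_ : Algebra A P) (_ : Algebra.FiniteType A P)
      (q : Red.bc (fA A A') (spO A P) ⟶ Over.mk (Spec.map (CommRingCat.ofHom (algebraMap A' E)))),
      WeilRes.IsWeilRes (fA A A') (Over.mk (Spec.map (CommRingCat.ofHom (algebraMap A' E)))) (spO A P) q := by
  obtain ⟨P, _, _, hPf, π, hπ, huniv⟩ := exists_weil A A' E
  let X' : Over (Spec (CommRingCat.of A')) :=
    Over.mk (Spec.map (CommRingCat.ofHom (algebraMap A' E)))
  let q : Red.bc (fA A A') (spO A P) ⟶ X' :=
    Over.homMk ((io A A' P).inv ≫ Spec.map (CommRingCat.ofHom π)) (by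
      change ((io A A' P).inv ≫ Spec.map (CommRingCat.ofHom π)) ≫
        Spec.map (CommRingCat.ofHom (algebraMap A' E)) = pullback.snd (spO A P).hom (fA A A')
      rw [Category.assoc, ← Spec.map_comp, Iso.inv_comp_eq]
      refine Eq.trans ?_ (pullbackSpecIso_inv_snd A P A').symm
      congr 1
      ext a
      exact hπ a)
  have hq : (io A A' P).hom ≫ q.left = Spec.map (CommRingCat.ofHom π) := by
    change (io A A' P).hom ≫ (io A A' P).inv ≫ Spec.map (CommRingCat.ofHom π) = _
    rw [Iso.hom_inv_id_assoc]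
  refine ⟨P, inferInstance, inferInstance, hPf, q, ?_⟩
  refine K983.UnitsRep.isWeilRes_of_affine (fA A A') q ?_
  intro B t
  obtain ⟨t', rfl⟩ := Spec.map_surjective (R := CommRingCat.of A) (S := B) t
  let : Algebra A B := t'.hom.toAlgebra
  have key : ∀ (φ : P →ₐ[A] B) (m : spO A B ⟶ spO A P),
      m.left = Spec.map (CommRingCat.ofHom φ.toRingHom) →
      (io A A' B).hom ≫ ((Over.pullback (fA A A')).map m ≫ q).left =
        Spec.map (CommRingCat.ofHom
          ((Algebra.TensorProduct.map φ (AlgHom.id A A')).toRingHom.comp π)) := by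
    intro φ m hm
    rw [Over.comp_left, ← Category.assoc, io_naturality A A' φ m hm, Category.assoc, hq,
      ← Spec.map_comp]
    rfl
  change Function.Bijective (fun m : spO A B ⟶ spO A P => (Over.pullback (fA A A')).map m ≫ q)
  constructor
  · intro m₁ m₂ h
    obtain ⟨φ₁, h₁⟩ := exists_algHom m₁
    obtain ⟨φ₂, h₂⟩ := exists_algHom m₂
    have e₁ := key φ₁ m₁ h₁
    have e₂ := key φ₂ m₂ h₂
    have h3 : (Over.pullback (fA A A')).map m₁ ≫ q = (Over.pullback (fA A A')).map m₂ ≫ q := h
    rw [h3, e₂] at e₁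
    have h4 := congrArg CommRingCat.Hom.hom (Spec.map_injective e₁)
    have h5 : ∀ x, Algebra.TensorProduct.map φ₂ (AlgHom.id A A') (π x) =
        Algebra.TensorProduct.map φ₁ (AlgHom.id A A') (π x) := fun x => DFunLike.congr_fun h4 x
    have h6 : φ₁ = φ₂ := by
      refine (huniv B ((Algebra.TensorProduct.map φ₁ (AlgHom.id A A')).toRingHom.comp π)
        (fun a => ?_)).unique (fun x => rfl) (fun x => h5 x)
      change Algebra.TensorProduct.map φ₁ (AlgHom.id A A') (π (algebraMap A' E a)) = _
      rw [hπ]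
      simp
    apply Over.OverMorphism.ext
    rw [h₁, h₂, h6]
  · intro y
    obtain ⟨e, he⟩ := Spec.map_surjective (R := CommRingCat.of E)
      (S := CommRingCat.of (B ⊗[A] A')) ((io A A' B).hom ≫ Over.Hom.left y)
    have hw : Over.Hom.left y ≫ Spec.map (CommRingCat.ofHom (algebraMap A' E)) =
      pullback.snd (spO A B).hom (fA A A') := Over.w y
    have hsnd : (io A A' B).hom ≫ pullback.snd (spO A B).hom (fA A A') =
      Spec.map (CommRingCat.ofHom
        (Algebra.TensorProduct.includeRight : A' →ₐ[A] B ⊗[A] A').toRingHom) :=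
      pullbackSpecIso_inv_snd A B A'
    have h1 : CommRingCat.ofHom (algebraMap A' E) ≫ e = CommRingCat.ofHom
        (Algebra.TensorProduct.includeRight : A' →ₐ[A] B ⊗[A] A').toRingHom := by
      apply Spec.map_injective
      rw [Spec.map_comp, he, Category.assoc, hw, hsnd]
    obtain ⟨φ, hφ, -⟩ := huniv B e.hom
      (fun a => DFunLike.congr_fun (congrArg CommRingCat.Hom.hom h1) a)
    let m : spO A B ⟶ spO A P := Over.homMk (Spec.map (CommRingCat.ofHom φ.toRingHom)) (by
      change Spec.map (CommRingCat.ofHom φ.toRingHom) ≫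
        Spec.map (CommRingCat.ofHom (algebraMap A P)) =
          Spec.map (CommRingCat.ofHom (algebraMap A B))
      rw [← Spec.map_comp]
      congr 1
      ext a
      exact φ.commutes a)
    refine ⟨m, ?_⟩
    apply Over.OverMorphism.ext
    rw [← cancel_epi (io A A' B).hom]
    refine (key φ m rfl).trans (Eq.trans ?_ he)
    congr 1
    ext x
    exact hφ x

theorem isWeilRes_of_iso {S S' : Scheme.{u}} (f : S' ⟶ S) {X' X'' : Over S'} {R : Over S} (q : Red.bc f R ⟶ X'')
    (h : WeilRes.IsWeilRes f X'' R q) (e : X'' ≅ X') : WeilRes.IsWeilRes f X' R (q ≫ e.hom) := by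
  intro T
  have h1 : WeilRes.restr f (q ≫ e.hom) T = (fun x => x ≫ e.hom) ∘ WeilRes.restr f q T := by
    funext g
    change (Over.pullback f).map g ≫ q ≫ e.hom = ((Over.pullback f).map g ≫ q) ≫ e.hom
    rw [Category.assoc]
  rw [h1]
  exact (Iso.homToEquiv e).bijective.comp (h T)

/-- The Weil restriction of a commutative affine group of finite type along a finite free extension of a noetherian
ring is a commutative affine group of finite type. -/
theorem exists_grp (A A' : Type u) [CommRing A] [IsNoetherianRing A] [CommRing A'] [Algebra A A']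
    [Module.Finite A A'] [Module.Free A A'] (G' : Over (Spec (CommRingCat.of A'))) [GrpObj G'] [IsCommMonObj G']
    [IsAffine G'.left] [LocallyOfFiniteType G'.hom] :
    ∃ (R : Over (Spec (CommRingCat.of A))) (_ : GrpObj R) (_ : IsCommMonObj R) (q : Red.bc (fA A A') R ⟶ G')
      (_ : IsMonHom q), WeilRes.IsWeilRes (fA A A') G' R q ∧ IsAffine R.left ∧ LocallyOfFiniteType R.hom := by
  obtain ⟨φ, hφ⟩ := Spec.map_surjective (R := CommRingCat.of A') (S := Γ(G'.left, ⊤))
    (G'.left.isoSpec.inv ≫ G'.hom)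
  let _ : Algebra A' Γ(G'.left, ⊤) := φ.hom.toAlgebra
  have hft : Algebra.FiniteType A' Γ(G'.left, ⊤) := by
    have h1 : LocallyOfFiniteType (Spec.map φ) := by rw [hφ]; infer_instance
    exact (HasRingHomProperty.Spec_iff (P := @LocallyOfFiniteType)).1 h1
  obtain ⟨P, _, _, hP, q, hq⟩ := exists_isWeilRes_spec A A' Γ(G'.left, ⊤)
  let e : Over.mk (Spec.map (CommRingCat.ofHom (algebraMap A' Γ(G'.left, ⊤)))) ≅ G' :=
    Over.isoMk G'.left.isoSpec.symm (by
      change G'.left.isoSpec.inv ≫ G'.hom = Spec.map φ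
      rw [hφ])
  have hq' := isWeilRes_of_iso (fA A A') q hq e
  obtain ⟨hR, hm⟩ := K490.WeilGrp.exists_grp (fA A A') hq'
  refine ⟨spO A P, hR, ?_, q ≫ e.hom, hm, hq', inferInstanceAs (IsAffine (Spec _)), ?_⟩
  · apply Groth.Agent.AbVar.K509.HomPts.isCommMonObj_of_mul
    apply (hq' _).1
    rw [WeilRes.restr_mul, WeilRes.restr_mul, mul_comm]
  · exact (HasRingHomProperty.Spec_iff (P := @LocallyOfFiniteType)).2 (RingHom.finiteType_algebraMap.2 hP)

end K827.WeilRing
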