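import Groth.Agent.TateGlob.K827.FrobBase
import Groth.Agent.TateGlob.K827.WeilRing
import Groth.Agent.TateGlob.K828.BigCoh
import Groth.Agent.TateGlob.K829.SIntBase

/-!
# Weil restrictions of finite groups along the Frobenius of `O_S` (helper827)
-/

set_option autoImplicit false

universe u

open TensorProduct CategoryTheory CategoryTheory.Limits AlgebraicGeometry FunFld

namespace K827.GoodWeil

open K827.IntBC K827.FinInj K827.FrobBase K827.Chase K828.BigCoh

/-- Weil restriction of groups along a finite free ring homomorphism. -/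
theorem exists_grp {A A' : Type u} [CommRing A] [IsNoetherianRing A] [CommRing A'] (φ : A →+* A')
    {κ : Type} [Fintype κ] (b : κ → A') (hb : IsBas φ b)
    (G' : Over (Spec (CommRingCat.of A'))) [GrpObj G'] [IsCommMonObj G']
    [IsAffine G'.left] [LocallyOfFiniteType G'.hom] :
    ∃ (R : Over (Spec (CommRingCat.of A))) (_ : GrpObj R) (_ : IsCommMonObj R)
      (q : Red.bc (Spec.map (CommRingCat.ofHom φ)) R ⟶ G') (_ : IsMonHom q),
      WeilRes.IsWeilRes (Spec.map (CommRingCat.ofHom φ)) G' R q ∧ IsAffine R.left ∧ LocallyOfFiniteType R.hom := by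
  let _ : Algebra A A' := φ.toAlgebra
  obtain ⟨B, hB⟩ := hb.exists_basis
  have hfr : Module.Free A A' := Module.Free.of_basis B
  have hfin : Module.Finite A A' := Module.Finite.of_basis B
  exact WeilRing.exists_grp A A' G'

/-- `ℋ` is good at the places outside `S`: sections over `K_v` come from `O_v`, and `H¹(O_v,ℋ) → H¹(K_v,ℋ)` is
injective. -/
def GoodAt {k K : Type u} [Field k] [Field K] [Algebra k K] (S : Set (Place k K))
    (F : BigSite.Ab Scheme.fppfPrecoverage (Spec (CommRingCat.of (AdFn.SInt S)))) {v : Place k K} (hv : v ∉ S) : Prop :=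
  Inj1 (bigCoh Scheme.fppfPrecoverage (Spec (CommRingCat.of (AdFn.SInt S)))) F (AdFn.intResHom S hv) ∧
    Surj0 F (AdFn.intResHom S hv)

/-- The Weil restriction of a finite commutative group along a power of the Frobenius of `O_S` is good, for large `S`. -/
theorem exists_weil (p : ℕ) [Fact p.Prime] (n : ℕ) {k K : Type u} [Field k] [Field K] [Algebra (RatFunc k) K]
    [FunctionField k K] [Algebra k K] [IsScalarTower k (RatFunc k) K] [CharP K p] (hfr : (frobenius K p).Finite) :
    ∃ S₁ : Set (Place k K), S₁.Finite ∧ ∀ S : Set (Place k K), S₁ ⊆ S → S.Finite → S.Nonempty →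
      ∀ (J : Over (Spec (CommRingCat.of (AdFn.SInt S)))) [GrpObj J] [IsCommMonObj J] [IsFinite J.hom],
      ∃ (H : Over (Spec (CommRingCat.of (AdFn.SInt S)))) (_ : GrpObj H) (_ : IsCommMonObj H)
        (q : Red.bc (Spec.map (CommRingCat.ofHom (frS p n S))) H ⟶ J) (_ : IsMonHom q),
        WeilRes.IsWeilRes (Spec.map (CommRingCat.ofHom (frS p n S))) J H q ∧ IsAffine H.left ∧
        LocallyOfFiniteType H.hom ∧ ∀ (v : Place k K) (hv : v ∉ S),
          GoodAt S (CGrpSh.pts Scheme.fppfPrecoverage H) hv := by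
  obtain ⟨S₁, hS₁, h⟩ := exists_good p n k hfr
  refine ⟨S₁, hS₁, fun S hS hSf hSn J _ _ _ => ?_⟩
  obtain ⟨⟨m, b, hb⟩, hext⟩ := h S hS
  obtain ⟨hD, -⟩ := K829.SIntBase.isDedekind (K829.FunBase.isGen k K) hSf hSn
  have hJ : IsAffine J.left := isAffine_of_isAffineHom J.hom
  obtain ⟨H, gH, cH, q, hq, hW, hA, hF⟩ := exists_grp (frS p n S) b hb J
  refine ⟨H, gH, cH, q, hq, hW, hA, hF, fun v hv => ⟨?_, ?_⟩⟩
  · refine inj1_weil _ (bigCoh Scheme.fppfPrecoverage _)
      (bigCoh Scheme.fppfPrecoverage (Spec (CommRingCat.of (AdFn.SInt S)))) q hW (AdFn.intResHom S hv) ?_ (hext v hv)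
    exact inferInstanceAs (IsAffine (pullback (Spec.map (CommRingCat.ofHom (AdFn.SInt.toOv S hv)))
      (Spec.map (CommRingCat.ofHom (frS p n S)))))
  · exact surj0_weil _ q hW (AdFn.intResHom S hv) (hext v hv)

end K827.GoodWeil
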