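import Groth.Agent.TateGlob.K827.Chase
import Groth.Agent.TateGlob.K827.GoodWeil
import Groth.Agent.TateGlob.K828.Inj
import Groth.Agent.TateGlob.K828.Kit
import Groth.Agent.TateLoc.K809.PtsPull
import Groth.Agent.TateGlob.K620.MdlPts
import Groth.Agent.TateGlob.K620.Sys

/-!
# Restriction maps and base change (helper827)

* `inj1_pull`: `Inj1` for `h^* F` and `t` is `Inj1` for `F` and `t` over the larger base;
* `Inj1.arrow`, `Surj0.arrow`: invariance under isomorphic arrows;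
* `goodAt_bc_iff`, `inj1_bc_iff`: for `S ⊆ S'` and `v ∉ S'`, the conditions at `v` over `O_S` and over `O_S'` agree.
-/

set_option autoImplicit false

universe u

open CategoryTheory CategoryTheory.Limits AlgebraicGeometry Opposite

namespace K827.BaseCh

open K828 K827.Chase K828.BigCoh

variable {K : Precoverage Scheme.{u}}

section Abs

variable {S : Scheme.{u}} (𝓗 : CohT K S)

theorem res_del_eq_zero_iff {A : ShortComplex (BigSite.Ab K S)} (hA : A.ShortExact) {T T₁ : Over S} (t : T₁ ⟶ T)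
    (z : A.X₃.obj.obj (op T)) : 𝓗.res t (𝓗.del hA (𝓗.sec.symm z)) = 0 ↔
      ∃ i : A.X₂.obj.obj (op T₁), A.g.hom.app (op T₁) i = A.X₃.obj.map t.op z := by
  rw [← 𝓗.del_res]
  constructor
  · intro h
    obtain ⟨y, hy⟩ := 𝓗.exact₃ hA _ h
    refine ⟨𝓗.sec y, ?_⟩
    rw [← 𝓗.sec_map, hy, 𝓗.sec_res, AddEquiv.apply_symm_apply]
  · rintro ⟨i, hi⟩
    rw [show 𝓗.res t (𝓗.sec.symm z) = 𝓗.map A.g (𝓗.sec.symm i) from ?_, 𝓗.del_map]
    apply 𝓗.sec.injective
    rw [𝓗.sec_res, 𝓗.sec_map, AddEquiv.apply_symm_apply, AddEquiv.apply_symm_apply, hi]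

/-- `Inj1` in terms of sections of an acyclic resolution. -/
theorem inj1_iff {A : ShortComplex (BigSite.Ab K S)} (hA : A.ShortExact) [Injective A.X₂] {T T₁ : Over S}
    (t : T₁ ⟶ T) : Inj1 𝓗 A.X₁ t ↔ ∀ z : A.X₃.obj.obj (op T),
      (∃ i : A.X₂.obj.obj (op T₁), A.g.hom.app (op T₁) i = A.X₃.obj.map t.op z) →
        ∃ i : A.X₂.obj.obj (op T), A.g.hom.app (op T) i = z := by
  have hid : ∀ z : A.X₃.obj.obj (op T), A.X₃.obj.map (𝟙 T).op z = z := fun z => congr($(A.X₃.obj.map_id _) z)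
  constructor
  · intro H z hz
    have h1 := H _ ((res_del_eq_zero_iff 𝓗 hA t z).2 hz)
    have h2 : 𝓗.res (𝟙 T) (𝓗.del hA (𝓗.sec.symm z)) = 0 := by rw [h1, map_zero]
    rw [res_del_eq_zero_iff 𝓗 hA (𝟙 T) z, hid] at h2
    exact h2
  · intro H x hx
    obtain ⟨z', rfl⟩ := 𝓗.exists_del hA x
    obtain ⟨z, rfl⟩ : ∃ z, z' = 𝓗.sec.symm z := ⟨𝓗.sec z', (AddEquiv.symm_apply_apply _ _).symm⟩
    have h1 := H z ((res_del_eq_zero_iff 𝓗 hA t z).1 hx)
    rw [← hid z] at h1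
    have h2 := (res_del_eq_zero_iff 𝓗 hA (𝟙 T) z).2 h1
    rwa [𝓗.res_id] at h2

theorem _root_.K827.Chase.Inj1.arrow {F : BigSite.Ab K S} {T T' T₀ T₀' : Over S} {g : T' ⟶ T} {g₀ : T₀' ⟶ T₀}
    (e : T ≅ T₀) (e' : T' ≅ T₀') (hc : g ≫ e.hom = e'.hom ≫ g₀) (h : Inj1 𝓗 F g) : Inj1 𝓗 F g₀ := by
  intro x hx
  have h1 : 𝓗.res e.hom x = 0 := by
    apply h
    rw [← 𝓗.res_comp, hc, 𝓗.res_comp, hx, map_zero]
  have h2 : 𝓗.res e.inv (𝓗.res e.hom x) = x := by
    rw [← 𝓗.res_comp, e.inv_hom_id, 𝓗.res_id]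
  rw [← h2, h1, map_zero]

theorem _root_.K827.Chase.Surj0.arrow {F : BigSite.Ab K S} {T T' T₀ T₀' : Over S} {g : T' ⟶ T} {g₀ : T₀' ⟶ T₀}
    (e : T ≅ T₀) (e' : T' ≅ T₀') (hc : g ≫ e.hom = e'.hom ≫ g₀) (h : Surj0 F g) : Surj0 F g₀ := by
  intro s
  obtain ⟨t, ht⟩ := h (F.obj.map e'.hom.op s)
  refine ⟨F.obj.map e.inv.op t, ?_⟩
  have h2 : g₀ ≫ e.inv = e'.inv ≫ g := by
    rw [Iso.comp_inv_eq, Category.assoc, hc, e'.inv_hom_id_assoc]
  rw [← ConcreteCategory.comp_apply, ← F.obj.map_comp, ← op_comp, h2, op_comp, F.obj.map_comp,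
    ConcreteCategory.comp_apply, ht, ← ConcreteCategory.comp_apply, ← F.obj.map_comp, ← op_comp, e'.inv_hom_id]
  exact congr($(F.obj.map_id _) s)

end Abs

section Pull

variable {B B' : Scheme.{u}} (h : B' ⟶ B) (𝓗 : CohT K B) (𝓗' : CohT K B')

/-- `Inj1` for the inverse image. -/
theorem inj1_pull {F : BigSite.Ab K B} {T T' : Over B'} (t : T' ⟶ T) :
    Inj1 𝓗' ((BigSite.pullBig K h AddCommGrpCat.{u + 1}).obj F) t ↔ Inj1 𝓗 F ((Over.map h).map t) := by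
  obtain ⟨A, hA, rfl, hI⟩ := CohT.exists_injective_embedding F
  have hA' : (A.map (BigSite.pullBig K h AddCommGrpCat.{u + 1})).ShortExact := K828.Kit.pull_shortExact h hA
  have hI' : Injective (A.map (BigSite.pullBig K h AddCommGrpCat.{u + 1})).X₂ :=
    K828.Inj.injective_pullBig h K A.X₂
  exact (inj1_iff 𝓗' hA' t).trans (inj1_iff 𝓗 hA ((Over.map h).map t)).symm

theorem surj0_pull {F : BigSite.Ab K B} {T T' : Over B'} (t : T' ⟶ T) :
    Surj0 ((BigSite.pullBig K h AddCommGrpCat.{u + 1}).obj F) t ↔ Surj0 F ((Over.map h).map t) := Iff.rfl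

end Pull

section SInt

open FunFld K620.GMod K827.GoodWeil

variable {k L : Type u} [Field k] [Field L] [Algebra k L] {S S' : Set (Place k L)}

/-- The transition morphism `Spec O_{S'} ⟶ Spec O_S`. -/
noncomputable abbrev rho (h : S ⊆ S') : Spec (CommRingCat.of (AdFn.SInt S')) ⟶ Spec (CommRingCat.of (AdFn.SInt S)) :=
  Spec.map (CommRingCat.ofHom (K620.Sys.incl h).toRingHom)

variable (h : S ⊆ S') {v : Place k L} (hv : v ∉ S')

/-- `Spec O_v` over `O_{S'}` and over `O_S`. -/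
noncomputable def ovIso : (Over.map (rho h)).obj (AdFn.specOf (AdFn.SInt.toOv S' hv)) ≅
    AdFn.specOf (AdFn.SInt.toOv S (fun hS => hv (h hS))) :=
  Over.isoMk (Iso.refl _) (by
    change 𝟙 _ ≫ Spec.map (CommRingCat.ofHom (AdFn.SInt.toOv S (fun hS => hv (h hS)))) =
      Spec.map (CommRingCat.ofHom (AdFn.SInt.toOv S' hv)) ≫ Spec.map (CommRingCat.ofHom (K620.Sys.incl h).toRingHom)
    rw [Category.id_comp, ← Spec.map_comp, ← CommRingCat.ofHom_comp]
    rfl)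

/-- `Spec K_v` over `O_{S'}` and over `O_S`. -/
noncomputable def kvIso (v : Place k L) : (Over.map (rho h)).obj (AdFn.specOf (AdFn.SInt.toKv S' v)) ≅
    AdFn.specOf (AdFn.SInt.toKv S v) :=
  Over.isoMk (Iso.refl _) (by
    change 𝟙 _ ≫ Spec.map (CommRingCat.ofHom (AdFn.SInt.toKv S v)) =
      Spec.map (CommRingCat.ofHom (AdFn.SInt.toKv S' v)) ≫ Spec.map (CommRingCat.ofHom (K620.Sys.incl h).toRingHom)
    rw [Category.id_comp, ← Spec.map_comp, ← CommRingCat.ofHom_comp]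
    rfl)

theorem iso_comm : (Over.map (rho h)).map (AdFn.intResHom S' hv) ≫ (ovIso h hv).hom =
    (kvIso h v).hom ≫ AdFn.intResHom S (fun hS => hv (h hS)) := by
  apply Over.OverMorphism.ext
  change Spec.map (CommRingCat.ofHom (AdFn.Ov v).subtype) ≫ 𝟙 _ = 𝟙 _ ≫ Spec.map (CommRingCat.ofHom (AdFn.Ov v).subtype)
  rw [Category.comp_id, Category.id_comp]

theorem iso_comm' : AdFn.intResHom S (fun hS => hv (h hS)) ≫ (ovIso h hv).symm.hom =
    (kvIso h v).symm.hom ≫ (Over.map (rho h)).map (AdFn.intResHom S' hv) := by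
  rw [Iso.symm_hom, Iso.symm_hom, Iso.comp_inv_eq, Category.assoc, iso_comm, Iso.inv_hom_id_assoc]

theorem inj1_rho_iff (F : BigSite.Ab K (Spec (CommRingCat.of (AdFn.SInt S)))) :
    Inj1 (bigCoh K (Spec (CommRingCat.of (AdFn.SInt S'))))
      ((BigSite.pullBig K (rho h) AddCommGrpCat.{u + 1}).obj F) (AdFn.intResHom S' hv) ↔
    Inj1 (bigCoh K (Spec (CommRingCat.of (AdFn.SInt S)))) F (AdFn.intResHom S (fun hS => hv (h hS))) := by
  rw [inj1_pull (rho h) (bigCoh K (Spec (CommRingCat.of (AdFn.SInt S)))) _]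
  exact ⟨fun H => H.arrow _ (ovIso h hv) (kvIso h v) (iso_comm h hv),
    fun H => H.arrow _ (ovIso h hv).symm (kvIso h v).symm (iso_comm' h hv)⟩

theorem surj0_rho_iff (F : BigSite.Ab K (Spec (CommRingCat.of (AdFn.SInt S)))) :
    Surj0 ((BigSite.pullBig K (rho h) AddCommGrpCat.{u + 1}).obj F) (AdFn.intResHom S' hv) ↔
    Surj0 F (AdFn.intResHom S (fun hS => hv (h hS))) := by
  rw [surj0_pull (rho h)]
  exact ⟨fun H => H.arrow (ovIso h hv) (kvIso h v) (iso_comm h hv),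
    fun H => H.arrow (ovIso h hv).symm (kvIso h v).symm (iso_comm' h hv)⟩

variable (𝒢 : Over (Spec (CommRingCat.of (AdFn.SInt S)))) [GrpObj 𝒢] [IsCommMonObj 𝒢]

theorem inj1_bc_iff : Inj1 (bigCoh Scheme.fppfPrecoverage (Spec (CommRingCat.of (AdFn.SInt S'))))
      (CGrpSh.pts Scheme.fppfPrecoverage (Red.bc (rho h) 𝒢)) (AdFn.intResHom S' hv) ↔
    Inj1 (bigCoh Scheme.fppfPrecoverage (Spec (CommRingCat.of (AdFn.SInt S))))
      (CGrpSh.pts Scheme.fppfPrecoverage 𝒢) (AdFn.intResHom S (fun hS => hv (h hS))) := by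
  rw [← inj1_rho_iff h hv]
  exact ⟨fun H => H.of_iso _ (K809.PtsPull.ptsPull Scheme.fppfPrecoverage (rho h) 𝒢).symm,
    fun H => H.of_iso _ (K809.PtsPull.ptsPull Scheme.fppfPrecoverage (rho h) 𝒢)⟩

theorem surj0_bc_iff : Surj0 (CGrpSh.pts Scheme.fppfPrecoverage (Red.bc (rho h) 𝒢)) (AdFn.intResHom S' hv) ↔
    Surj0 (CGrpSh.pts Scheme.fppfPrecoverage 𝒢) (AdFn.intResHom S (fun hS => hv (h hS))) := by
  rw [← surj0_rho_iff h hv]
  exact ⟨fun H => H.of_iso (K809.PtsPull.ptsPull Scheme.fppfPrecoverage (rho h) 𝒢).symm,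
    fun H => H.of_iso (K809.PtsPull.ptsPull Scheme.fppfPrecoverage (rho h) 𝒢)⟩

theorem goodAt_bc_iff : GoodAt S' (CGrpSh.pts Scheme.fppfPrecoverage (Red.bc (rho h) 𝒢)) hv ↔
    GoodAt S (CGrpSh.pts Scheme.fppfPrecoverage 𝒢) (fun hS => hv (h hS)) :=
  and_congr (inj1_bc_iff h hv 𝒢) (surj0_bc_iff h hv 𝒢)

end SInt

section Mdl

open FunFld K620.GMod K620.Sys K827.GoodWeil

variable {k L : Type u} [Field k] [Field L] [Algebra k L]

/-- The generic point of `Spec O_S`. -/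
noncomputable abbrev gen (S : Set (Place k L)) : Spec (CommRingCat.of L) ⟶ Spec (CommRingCat.of (AdFn.SInt S)) :=
  Spec.map (CommRingCat.ofHom (AdFn.SInt.toK S))

/-- The `H¹`-condition for a model at a place. -/
def MGood {S : Set (Place k L)} {G : Over (Spec (CommRingCat.of L))} [GrpObj G] (M : Mdl (gen S) G) {v : Place k L}
    (hv : v ∉ S) : Prop :=
  Inj1 (bigCoh Scheme.fppfPrecoverage (Spec (CommRingCat.of (AdFn.SInt S))))
    (CGrpSh.pts Scheme.fppfPrecoverage M.X) (AdFn.intResHom S hv)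

theorem gen_comp {S S' : Set (Place k L)} (h : S ⊆ S') : gen S' ≫ rho h = gen S := by
  rw [← Spec.map_comp, ← CommRingCat.ofHom_comp]
  rfl

theorem mgood_bc_iff {S S' : Set (Place k L)} (h : S ⊆ S') {G : Over (Spec (CommRingCat.of L))} [GrpObj G]
    (M : Mdl (gen S) G) {v : Place k L} (hv : v ∉ S') :
    MGood (M.bc (rho h) (gen_comp h)) hv ↔ MGood M (fun hS => hv (h hS)) :=
  inj1_bc_iff h hv M.X

theorem mgood_mv_iff {i j : (Idx k L)ᵒᵖ} {G : Over (cone k L).pt} [GrpObj G] {M : Mdl ((cone k L).π.app i) G}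
    (f : j ⟶ i) {v : Place k L} (hv : v ∉ j.unop.1) :
    MGood (S := j.unop.1) (M.mv f) hv ↔ MGood (S := i.unop.1) M (fun hS => hv (leOfHom f.unop hS)) :=
  mgood_bc_iff (leOfHom f.unop) M hv

theorem MGood.of_eqv {S : Set (Place k L)} {G : Over (Spec (CommRingCat.of L))} [GrpObj G] {M M' : Mdl (gen S) G}
    (hS : IsSchemeTheoreticallyDominant (gen S)) (h : Eqv M M') {v : Place k L} {hv : v ∉ S} (hg : MGood M hv) :
    MGood M' hv := by
  obtain ⟨θ, hθ⟩ := h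
  have : QuasiCompact (gen S) := inferInstance
  have : IsMonHom θ.hom := hθ.isMonHom
  exact Inj1.of_iso _ (ptsIso Scheme.fppfPrecoverage θ) hg

end Mdl

end K827.BaseCh
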