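import Groth.Agent.TateGlob.K828.Coh

/-!
# Diagram chases for restriction maps in degrees zero and one (helper827)

For a cohomology theory `𝓗 : CohT K S`, a sheaf `F` and a morphism `g : T' ⟶ T` of `S`-schemes:
`Inj1 𝓗 F g` (the restriction `H¹(T,F) → H¹(T',F)` is injective), `Surj0 F g`, `Inj0 F g` (sections).
-/

set_option autoImplicit false

universe u

open CategoryTheory CategoryTheory.Limits AlgebraicGeometry Opposite

namespace K827.Chase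

open K828

variable {K : Precoverage Scheme.{u}} {S : Scheme.{u}}

/-- Injectivity of the restriction map on `H¹`. -/
def Inj1 (𝓗 : CohT K S) (F : BigSite.Ab K S) {T T' : Over S} (g : T' ⟶ T) : Prop :=
  ∀ x : 𝓗.H F 1 T, 𝓗.res g x = 0 → x = 0

/-- Surjectivity of the restriction map on sections. -/
def Surj0 (F : BigSite.Ab K S) {T T' : Over S} (g : T' ⟶ T) : Prop :=
  Function.Surjective (F.obj.map g.op)

/-- Injectivity of the restriction map on sections. -/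
def Inj0 (F : BigSite.Ab K S) {T T' : Over S} (g : T' ⟶ T) : Prop :=
  Function.Injective (F.obj.map g.op)

variable (𝓗 : CohT K S)

theorem Inj1.injective {F : BigSite.Ab K S} {T T' : Over S} {g : T' ⟶ T} (h : Inj1 𝓗 F g) :
    Function.Injective (𝓗.res g : 𝓗.H F 1 T →+ 𝓗.H F 1 T') :=
  (injective_iff_map_eq_zero _).2 h

theorem Surj0.exists_res {F : BigSite.Ab K S} {T T' : Over S} {g : T' ⟶ T} (h : Surj0 F g) (y : 𝓗.H F 0 T') :
    ∃ x : 𝓗.H F 0 T, 𝓗.res g x = y := by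
  obtain ⟨s, hs⟩ := h (𝓗.sec y)
  refine ⟨𝓗.sec.symm s, 𝓗.sec.injective ?_⟩
  rw [𝓗.sec_res, AddEquiv.apply_symm_apply, hs]

theorem Inj0.eq_of_res {F : BigSite.Ab K S} {T T' : Over S} {g : T' ⟶ T} (h : Inj0 F g) (x y : 𝓗.H F 0 T)
    (hxy : 𝓗.res g x = 𝓗.res g y) : x = y := by
  apply 𝓗.sec.injective
  apply h
  rw [← 𝓗.sec_res, ← 𝓗.sec_res, hxy]

section

variable {A : ShortComplex (BigSite.Ab K S)} (hA : A.ShortExact) {T T' : Over S} (g : T' ⟶ T)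

include hA

/-- Injectivity on `H¹` of the middle term from the outer terms. -/
theorem inj1_middle (h1 : Inj1 𝓗 A.X₁ g) (h3 : Inj1 𝓗 A.X₃ g) (h0 : Surj0 A.X₃ g) : Inj1 𝓗 A.X₂ g := by
  intro x hx
  have hx3 : 𝓗.map A.g x = 0 := by
    apply h3
    rw [← 𝓗.map_res, hx, map_zero]
  obtain ⟨y, rfl⟩ := 𝓗.exact₂ hA x hx3
  have hy : 𝓗.map A.f (𝓗.res g y) = 0 := by rw [𝓗.map_res, hx]
  obtain ⟨q, hq⟩ := 𝓗.exact₁ hA _ hy
  obtain ⟨q', rfl⟩ := h0.exists_res 𝓗 q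
  have h4 : y - 𝓗.del hA q' = 0 := by
    apply h1
    rw [map_sub, ← hq, 𝓗.del_res, sub_self]
  rw [sub_eq_zero.1 h4, 𝓗.map_del]

/-- Injectivity on `H¹` of the first term. -/
theorem inj1_first (h2 : Inj1 𝓗 A.X₂ g) (h0 : Surj0 A.X₂ g) (hi : Inj0 A.X₃ g) : Inj1 𝓗 A.X₁ g := by
  intro x hx
  have h3 : 𝓗.map A.f x = 0 := by
    apply h2
    rw [← 𝓗.map_res, hx, map_zero]
  obtain ⟨c, rfl⟩ := 𝓗.exact₁ hA x h3
  have h4 : 𝓗.del hA (𝓗.res g c) = 0 := by rw [𝓗.del_res, hx]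
  obtain ⟨h, hh⟩ := 𝓗.exact₃ hA _ h4
  obtain ⟨h', rfl⟩ := h0.exists_res 𝓗 h
  have h5 : 𝓗.map A.g h' = c := by
    apply hi.eq_of_res 𝓗
    rw [← 𝓗.map_res, hh]
  rw [← h5, 𝓗.del_map]

include 𝓗 in
/-- Surjectivity on sections of the first term. -/
theorem surj0_first (h0 : Surj0 A.X₂ g) (hi : Inj0 A.X₃ g) : Surj0 A.X₁ g := by
  intro s
  obtain ⟨y, hy⟩ : ∃ y : 𝓗.H A.X₁ 0 T', 𝓗.sec y = s := ⟨𝓗.sec.symm s, AddEquiv.apply_symm_apply _ _⟩
  obtain ⟨h, hh⟩ := h0.exists_res 𝓗 (𝓗.map A.f y)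
  have h1 : 𝓗.map A.g h = 0 := by
    apply hi.eq_of_res 𝓗
    rw [← 𝓗.map_res, hh, 𝓗.map_map, map_zero]
  obtain ⟨z, rfl⟩ := 𝓗.exact₂ hA h h1
  refine ⟨𝓗.sec z, ?_⟩
  rw [← 𝓗.sec_res, ← hy]
  have := hA.mono_f
  have hinj : Function.Injective (A.f.hom.app (op T')) := by
    have h3 : Mono A.f.hom := inferInstanceAs (Mono ((sheafToPresheaf _ _).map A.f))
    have h4 : Mono (A.f.hom.app (op T')) := inferInstance
    exact (AddCommGrpCat.mono_iff_injective _).1 h4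
  apply hinj
  rw [← 𝓗.sec_map, ← 𝓗.sec_map, 𝓗.map_res, hh]

end

/-- Transport of `Inj1` along an isomorphism of sheaves. -/
theorem Inj1.of_iso {F G : BigSite.Ab K S} (e : F ≅ G) {T T' : Over S} {g : T' ⟶ T} (h : Inj1 𝓗 F g) :
    Inj1 𝓗 G g := by
  intro x hx
  have h1 : 𝓗.map e.inv x = 0 := by
    apply h
    rw [← 𝓗.map_res, hx, map_zero]
  have h2 : 𝓗.map e.hom (𝓗.map e.inv x) = x := by
    rw [← 𝓗.map_comp, e.inv_hom_id, 𝓗.map_id]
  rw [← h2, h1, map_zero]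

theorem Surj0.of_iso {F G : BigSite.Ab K S} (e : F ≅ G) {T T' : Over S} {g : T' ⟶ T} (h : Surj0 F g) :
    Surj0 G g := by
  intro s
  obtain ⟨t, ht⟩ := h (e.inv.hom.app _ s)
  refine ⟨e.hom.hom.app _ t, ?_⟩
  have h1 := congr($(e.hom.hom.naturality g.op) t)
  rw [ConcreteCategory.comp_apply, ConcreteCategory.comp_apply] at h1
  rw [← h1, ht, ← ConcreteCategory.comp_apply]
  have h2 : e.inv.hom ≫ e.hom.hom = 𝟙 _ := congr($(e.inv_hom_id).hom)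
  have h3 := congr(($h2).app (op T') s)
  exact h3

end K827.Chase
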