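import Groth.Agent.TateGlob.K827.Chase
import Groth.Agent.TateGlob.K827.Tor
import Mathlib.AlgebraicGeometry.Morphisms.SchemeTheoreticallyDominant

/-!
# Sections of the quotient by a closed subgroup (helper827)

If `i : Q ⟶ H` is a closed immersion of commutative group schemes over `S` and `g : T' ⟶ T` is scheme-theoretically
dominant and quasi-compact, then `(H/Q)(T) → (H/Q)(T')` is injective.
-/

set_option autoImplicit false

universe u

open CategoryTheory CategoryTheory.Limits AlgebraicGeometry Opposite MonObj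

namespace K827.ClosedQuot

open K828 K827.H1 K827.Tor K594.Elem K594.Cover K827.Chase

theorem isIso_of_factor {X Y Z : Scheme.{u}} (f : X ⟶ Y) [IsSchemeTheoreticallyDominant f] (k : X ⟶ Z) (j : Z ⟶ Y)
    [IsClosedImmersion j] (w : k ≫ j = f) : IsIso j := by
  rw [IsClosedImmersion.isIso_iff_ker_eq_bot, ← le_bot_iff, ← Scheme.Hom.ker_eq_bot f, ← w]
  exact Scheme.Hom.le_ker_comp k j

/-- A morphism which factors through a closed subscheme on a scheme-theoretically dense subobject factors. -/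
theorem exists_factor {X Y Z W : Scheme.{u}} (f : X ⟶ Y) [IsSchemeTheoreticallyDominant f] (a : Y ⟶ W) (j : Z ⟶ W)
    [IsClosedImmersion j] (b : X ⟶ Z) (w : b ≫ j = f ≫ a) : ∃ c : Y ⟶ Z, c ≫ j = a := by
  have hj : IsIso (pullback.fst a j) := isIso_of_factor f (pullback.lift f b w.symm) (pullback.fst a j)
    (pullback.lift_fst _ _ _)
  refine ⟨inv (pullback.fst a j) ≫ pullback.snd a j, ?_⟩
  rw [Category.assoc, IsIso.inv_comp_eq, pullback.condition]

variable {S : Scheme.{u}}

theorem inj0 (𝓗 : CohT Scheme.fppfPrecoverage S) {A : ShortComplex (BigSite.Ab Scheme.fppfPrecoverage S)}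
    (hA : A.ShortExact) {Q H : Over S} [GrpObj Q]
    [IsCommMonObj Q] [GrpObj H] [IsCommMonObj H] (i : Q ⟶ H) [IsMonHom i] [IsClosedImmersion i.left]
    (e₁ : CGrpSh.pts Scheme.fppfPrecoverage Q ≅ A.X₁) (e₂ : CGrpSh.pts Scheme.fppfPrecoverage H ≅ A.X₂)
    (w : CGrpSh.ptsMap Scheme.fppfPrecoverage i ≫ e₂.hom = e₁.hom ≫ A.f)
    {T T' : Over S} [IsAffine T.left] (g : T' ⟶ T) [IsSchemeTheoreticallyDominant g.left] [QuasiCompact g.left] :
    Inj0 A.X₃ g := by
  refine (injective_iff_map_eq_zero (A.X₃.obj.map g.op).hom).2 fun c hc => ?_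
  obtain ⟨U, t, b, ht, hU, hb⟩ := exists_cov_lift hA c
  have ht1 := ht.flat
  have sq := IsPullback.of_hasPullback t g
  let V := pullback t g
  let a : V ⟶ U := pullback.fst t g
  have h1 : A.g.hom.app (op V) (rs A.X₂ a b) = 0 := by
    rw [rs_nat, hb, rs_comp, sq.w, ← rs_comp]
    have : rs A.X₃ g c = 0 := hc
    rw [this, rs_zero]
  obtain ⟨s, hs⟩ : ∃ s : A.X₁.obj.obj (op V), A.f.hom.app (op V) s = rs A.X₂ a b := by
    obtain ⟨y, hy⟩ := 𝓗.exact₂ hA (𝓗.sec.symm (rs A.X₂ a b)) (by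
      apply 𝓗.sec.injective
      rw [𝓗.sec_map, AddEquiv.apply_symm_apply, h1, map_zero])
    refine ⟨𝓗.sec y, ?_⟩
    rw [← 𝓗.sec_map, hy, AddEquiv.apply_symm_apply]
  let h : U ⟶ H := (e₂.inv.hom.app (op U) b).down.toMul
  let k : V ⟶ Q := (e₁.inv.hom.app (op V) s).down.toMul
  have hinv₂ : ∀ (W : Over S) (z : A.X₂.obj.obj (op W)), e₂.hom.hom.app (op W) (e₂.inv.hom.app (op W) z) = z := by
    intro W z
    rw [← ConcreteCategory.comp_apply]
    have h2 : e₂.inv.hom ≫ e₂.hom.hom = 𝟙 _ := congr($(e₂.inv_hom_id).hom)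
    exact congr(($h2).app (op W) z)
  have hinv₂' : ∀ (W : Over S) (z : (CGrpSh.pts Scheme.fppfPrecoverage H).obj.obj (op W)),
      e₂.inv.hom.app (op W) (e₂.hom.hom.app (op W) z) = z := by
    intro W z
    rw [← ConcreteCategory.comp_apply]
    have h2 : e₂.hom.hom ≫ e₂.inv.hom = 𝟙 _ := congr($(e₂.hom_inv_id).hom)
    exact congr(($h2).app (op W) z)
  have hinv₁ : ∀ (W : Over S) (z : A.X₁.obj.obj (op W)), e₁.hom.hom.app (op W) (e₁.inv.hom.app (op W) z) = z := by
    intro W z
    rw [← ConcreteCategory.comp_apply]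
    have h2 : e₁.inv.hom ≫ e₁.hom.hom = 𝟙 _ := congr($(e₁.inv_hom_id).hom)
    exact congr(($h2).app (op W) z)
  have hf : ∀ (W : Over S) (x : W ⟶ Q), A.f.hom.app (op W) (e₁.hom.hom.app (op W) (ULift.up (Additive.ofMul x))) =
      e₂.hom.hom.app (op W) (ULift.up (Additive.ofMul (x ≫ i))) := by
    intro W x
    have h3 := congr(($w).hom.app (op W) (ULift.up (Additive.ofMul x)))
    exact h3.symm
  have hk : k ≫ i = a ≫ h := by
    have h4 : e₂.hom.hom.app (op V) (ULift.up (Additive.ofMul (k ≫ i))) =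
        e₂.hom.hom.app (op V) (ULift.up (Additive.ofMul (a ≫ h))) := by
      rw [← hf]
      have h5 : A.f.hom.app (op V) (e₁.hom.hom.app (op V) (ULift.up (Additive.ofMul k))) = rs A.X₂ a b := by
        rw [← hs]
        exact congrArg _ (hinv₁ V s)
      rw [h5]
      have h6 : e₂.hom.hom.app (op V) (rs (CGrpSh.pts Scheme.fppfPrecoverage H) a (e₂.inv.hom.app (op U) b)) =
          rs A.X₂ a b := by
        rw [rs_nat, hinv₂]
      exact h6.symm
    have h7 := congrArg (e₂.inv.hom.app (op V)) h4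
    rw [hinv₂', hinv₂'] at h7
    exact congrArg (fun z : (CGrpSh.pts Scheme.fppfPrecoverage H).obj.obj (op V) => z.down.toMul) h7
  have hdom : IsSchemeTheoreticallyDominant a.left := by
    have sq' := sq.map (Over.forget S)
    exact @IsSchemeTheoreticallyDominant.of_isPullback _ _ _ _ _ _ _ _ sq'.flip
      ‹IsSchemeTheoreticallyDominant g.left› ‹QuasiCompact g.left› ht1
  obtain ⟨c', hc'⟩ := exists_factor a.left h.left i.left k.left (by
    rw [← Over.comp_left, hk, Over.comp_left])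
  have hc2 : c' ≫ Q.hom = U.hom := by
    rw [← Over.w i, ← Category.assoc, hc', Over.w h]
  have hc3 : (Over.homMk c' hc2 : U ⟶ Q) ≫ i = h := by
    apply Over.OverMorphism.ext
    exact hc'
  have hb0 : b = A.f.hom.app (op U) (e₁.hom.hom.app (op U) (ULift.up (Additive.ofMul (Over.homMk c' hc2 : U ⟶ Q)))) := by
    rw [hf, hc3]
    exact (hinv₂ U b).symm
  have hb1 : A.g.hom.app (op U) b = 0 := by
    rw [hb0, ← ConcreteCategory.comp_apply]
    have h2 : A.f.hom ≫ A.g.hom = 0 := congr($(A.zero).hom)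
    exact congr(($h2).app (op U) _)
  refine ht.ext (ty A.X₃) ?_
  change rs A.X₃ t c = rs A.X₃ t 0
  rw [← hb, hb1, rs_zero]

end K827.ClosedQuot
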