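import Groth.Agent.TateGlob.K827.Leray
import Groth.Agent.TateGlob.K827.Tor
import Groth.Agent.Desc.MorDescent
import Groth.Prelude.Def_WeilRes
import Mathlib.AlgebraicGeometry.Morphisms.SchemeTheoreticallyDominant

/-!
# Restriction maps for finite groups and for Weil restrictions of finite groups (helper827)

`SecExt h` (for `h : Y' ⟶ Y`): sections over `Y'` of finite `Y`-schemes extend over `Y`. It holds for `Spec B' ⟶ Spec B`
with `B` integrally closed in `B'` (`secExt_of_integral`). Then for `J` finite, sections extend and `H¹(Y,J) → H¹(Y',J)`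
is injective (`surj0_finite`, `inj1_finite`); the same for a Weil restriction of `J` (`surj0_weil`, `inj1_weil`).
-/

set_option autoImplicit false

universe u

open CategoryTheory CategoryTheory.Limits AlgebraicGeometry Opposite MonObj

namespace K827.FinInj

open K828 K827.Chase K827.H1 K827.Tor K594.Cover

/-- Sections over `Y'` of finite schemes over `Y` extend over `Y`. -/
def SecExt {Y Y' : Scheme.{u}} (h : Y' ⟶ Y) : Prop :=
  ∀ (P : Scheme.{u}) (π : P ⟶ Y) [IsFinite π] (s : Y' ⟶ P), s ≫ π = h → ∃ s' : Y ⟶ P, s' ≫ π = 𝟙 Y ∧ h ≫ s' = s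

theorem SecExt.iso_comp {Y Y' Y'' : Scheme.{u}} {h : Y' ⟶ Y} (hs : SecExt h) (e : Y'' ≅ Y') : SecExt (e.hom ≫ h) := by
  intro P π _ s hsπ
  obtain ⟨s', h1, h2⟩ := hs P π (e.inv ≫ s) (by rw [Category.assoc, hsπ, e.inv_hom_id_assoc])
  exact ⟨s', h1, by rw [Category.assoc, h2, e.hom_inv_id_assoc]⟩

theorem SecExt.comp_iso {Y Y' Y₁ : Scheme.{u}} {h : Y' ⟶ Y} (hs : SecExt h) (e : Y ≅ Y₁) : SecExt (h ≫ e.hom) := by
  intro P π _ s hsπ
  obtain ⟨s', h1, h2⟩ := hs P (π ≫ e.inv) s (by rw [← Category.assoc, hsπ, Category.assoc, e.hom_inv_id,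
    Category.comp_id])
  refine ⟨e.inv ≫ s', ?_, by rw [Category.assoc, e.hom_inv_id_assoc, h2]⟩
  rw [Category.assoc, Iso.inv_comp_eq, Category.comp_id, ← cancel_mono e.inv, Category.assoc, h1, e.hom_inv_id]

theorem secExt_of_integral {B B' : CommRingCat.{u}} (φ : B ⟶ B') (hinj : Function.Injective φ.hom)
    (hint : ∀ z : B', φ.hom.IsIntegralElem z → ∃ b : B, φ.hom b = z) : SecExt (Spec.map φ) := by
  intro P π hπ s hs
  have : IsAffine P := isAffine_of_isAffineHom π
  obtain ⟨σ, hσ⟩ := Spec.map_surjective (P.isoSpec.inv ≫ π)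
  obtain ⟨τ, hτ⟩ := Spec.map_surjective (s ≫ P.isoSpec.hom)
  have hfin : σ.hom.Finite := by
    have h1 : IsFinite (Spec.map σ) := by rw [hσ]; infer_instance
    exact (IsFinite.SpecMap_iff _).1 h1
  have hcomp : σ ≫ τ = φ := by
    apply Spec.map_injective
    rw [Spec.map_comp, hσ, hτ, Category.assoc, Iso.hom_inv_id_assoc, hs]
  have hr : ∀ c, ∃ b : B, φ.hom b = τ.hom c := fun c => by
    apply hint
    have h2 : σ.hom.IsIntegralElem c := hfin.to_isIntegral c
    obtain ⟨p, hp, hp0⟩ := h2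
    refine ⟨p, hp, ?_⟩
    have h3 := congrArg τ.hom hp0
    rw [map_zero, Polynomial.hom_eval₂] at h3
    rwa [← hcomp]
  choose b hb using hr
  let ρ : Γ(P, ⊤) →+* B :=
    { toFun := b
      map_one' := hinj (by rw [hb, map_one, map_one])
      map_zero' := hinj (by rw [hb, map_zero, map_zero])
      map_add' := fun x y => hinj (by rw [hb, map_add, map_add, hb, hb])
      map_mul' := fun x y => hinj (by rw [hb, map_mul, map_mul, hb, hb]) }
  have h4 : σ ≫ CommRingCat.ofHom ρ = 𝟙 B := by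
    ext x
    apply hinj
    change φ.hom (b (σ.hom x)) = φ.hom x
    rw [hb, ← hcomp]
    rfl
  have h5 : CommRingCat.ofHom ρ ≫ φ = τ := by
    ext x
    exact hb x
  refine ⟨Spec.map (CommRingCat.ofHom ρ) ≫ P.isoSpec.inv, ?_, ?_⟩
  · rw [Category.assoc, ← hσ, ← Spec.map_comp, h4, Spec.map_id]
  · rw [← Category.assoc, ← Spec.map_comp, h5, hτ, Category.assoc, Iso.hom_inv_id, Category.comp_id]

variable {S S' : Scheme.{u}}

theorem surj0_finite (J : Over S') [GrpObj J] [IsCommMonObj J] [IsFinite J.hom] {Y Y' : Over S'} (h : Y' ⟶ Y)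
    (hs : SecExt h.left) : Surj0 (CGrpSh.pts Scheme.fppfPrecoverage J) h := by
  intro x
  let y : Y' ⟶ J := x.down.toMul
  obtain ⟨s', h1, h2⟩ := hs (pullback J.hom Y.hom) (pullback.snd J.hom Y.hom)
    (pullback.lift y.left h.left (by rw [Over.w y, Over.w h])) (pullback.lift_snd _ _ _)
  let y' : Y ⟶ J := Over.homMk (s' ≫ pullback.fst J.hom Y.hom) (by
    rw [Category.assoc, pullback.condition, reassoc_of% h1])
  refine ⟨ULift.up (Additive.ofMul y'), ?_⟩
  apply ULift.ext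
  change Additive.ofMul (h ≫ y') = Additive.ofMul y
  congr 1
  apply Over.OverMorphism.ext
  change h.left ≫ s' ≫ pullback.fst J.hom Y.hom = y.left
  rw [reassoc_of% h2, pullback.lift_fst]

theorem inj1_finite (𝓗 : CohT Scheme.fppfPrecoverage S') (J : Over S') [GrpObj J] [IsCommMonObj J] [IsFinite J.hom]
    {Y Y' : Over S'} [IsAffine Y.left] (h : Y' ⟶ Y) (hs : SecExt h.left) :
    Inj1 𝓗 (CGrpSh.pts Scheme.fppfPrecoverage J) h := by
  intro x hx
  obtain ⟨P, π, c, hT, hprop, -⟩ := exists_isTors 𝓗 (Iso.refl (CGrpSh.pts Scheme.fppfPrecoverage J)) (T := Y) x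
  have hfin : IsFinite π.left := by
    have := Groth.Agent.Desc.MorDescent.descendsAlong_isFinite.{u}
    exact hprop @IsFinite ‹IsFinite J.hom›
  obtain ⟨a, ha⟩ := hT.ex h hx
  obtain ⟨s', h1, -⟩ := hs P.left π.left a.left (by rw [← Over.comp_left, ha])
  have hw : s' ≫ P.hom = Y.hom := by rw [← Over.w π, reassoc_of% h1]
  have h2 := (hT.res_eq_zero_iff (𝟙 Y)).2 ⟨Over.homMk s' hw, by
    apply Over.OverMorphism.ext
    exact h1⟩
  rwa [𝓗.res_id] at h2

variable (f : S' ⟶ S)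

theorem surj0_weil {J : Over S'} [GrpObj J] [IsCommMonObj J] [IsFinite J.hom] {R : Over S} [GrpObj R]
    [IsCommMonObj R] (q : Red.bc f R ⟶ J) [IsMonHom q] (hR : WeilRes.IsWeilRes f J R q) {T T' : Over S} (g : T' ⟶ T)
    (hs : SecExt ((Over.pullback f).map g).left) : Surj0 (CGrpSh.pts Scheme.fppfPrecoverage R) g := by
  have h1 : Surj0 ((BigSite.pushBig Scheme.fppfPrecoverage f AddCommGrpCat.{u + 1}).obj
      (CGrpSh.pts Scheme.fppfPrecoverage J)) g :=
    surj0_finite J ((Over.pullback f).map g) hs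
  exact h1.of_iso (WeilRes.ptsIso f Scheme.fppfPrecoverage hR).symm

theorem inj1_weil (𝓗 : CohT Scheme.fppfPrecoverage S) (𝓗' : CohT Scheme.fppfPrecoverage S') {J : Over S'} [GrpObj J]
    [IsCommMonObj J] [IsFinite J.hom] {R : Over S} [GrpObj R]
    [IsCommMonObj R] (q : Red.bc f R ⟶ J) [IsMonHom q] (hR : WeilRes.IsWeilRes f J R q) {T T' : Over S} (g : T' ⟶ T)
    (hT : IsAffine ((Over.pullback f).obj T).left)
    (hs : SecExt ((Over.pullback f).map g).left) : Inj1 𝓗 (CGrpSh.pts Scheme.fppfPrecoverage R) g := by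
  have h1 : Inj1 𝓗 ((BigSite.pushBig Scheme.fppfPrecoverage f AddCommGrpCat.{u + 1}).obj
      (CGrpSh.pts Scheme.fppfPrecoverage J)) g := by
    intro x hx
    obtain ⟨y, hy⟩ := Leray.exists_class f 𝓗 𝓗' (CGrpSh.pts Scheme.fppfPrecoverage J) x
    have h2 := inj1_finite 𝓗' J ((Over.pullback f).map g) hs y ((hy g).1 hx)
    have h3 := (hy (𝟙 T)).2 (by rw [h2, map_zero])
    rwa [𝓗.res_id] at h3
  exact h1.of_iso 𝓗 (WeilRes.ptsIso f Scheme.fppfPrecoverage hR).symm

end K827.FinInj
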