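import Groth.Prelude.Def_Frob
import Groth.Agent.Sga3C.FlatGeneric
import Groth.Agent.EtHull.K991.FrobUnr
import Groth.Agent.S2535
import Mathlib.AlgebraicGeometry.Group.Smooth

/-!
# Flat relative Frobenius implies geometrically reduced (helper827)
-/

set_option autoImplicit false

universe u

open CategoryTheory CategoryTheory.Limits AlgebraicGeometry

namespace K827.FrobRed

open FrobSch

/-- A scheme whose absolute Frobenius is flat is reduced. -/
theorem isReduced_of_flat_frob (X : Scheme.{u}) (p : ℕ) [Fact p.Prime] [IsCharP X p] (hf : Flat (frob X p)) :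
    AlgebraicGeometry.IsReduced X := by
  have hs : Surjective (frob X p) := ⟨fun x => ⟨x, rfl⟩⟩
  refine ⟨fun U => ?_⟩
  rw [isReduced_iff_pow_one_lt p (Fact.out : p.Prime).one_lt]
  intro x hx
  have hi : Function.Injective ((frob X p).app U) :=
    Groth.Agent.Sga3C.FlatGeneric.app_injective_of_flat_surjective (frob X p) U
  apply hi
  rw [map_zero]
  exact hx

theorem isIso_frob_spec (p : ℕ) [Fact p.Prime] (Ω : Type u) [Field Ω] [CharP Ω p] [PerfectRing Ω p] :
    IsIso (frob (Spec (CommRingCat.of Ω)) p) := by
  rw [K991.FrobUnr.frob_spec (CommRingCat.of Ω) p (CharP.cast_eq_zero Ω p)]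
  have : IsIso (CommRingCat.ofHom (powHom p Ω (CharP.cast_eq_zero Ω p))) := by
    have hb : Function.Bijective (powHom p Ω (CharP.cast_eq_zero Ω p)) := PerfectRing.bijective_frobenius (R := Ω) (p := p)
    exact (RingEquiv.ofBijective _ hb).toCommRingCatIso.isIso_hom
  infer_instance

theorem flat_frob_bc (p : ℕ) [Fact p.Prime] {B T X : Scheme.{u}} [IsCharP B p] [IsCharP T p] (f : X ⟶ B) (g : T ⟶ B)
    [IsCharP (pullback f g) p] [IsIso (frob T p)] (h : Flat (relFrob f p)) : Flat (frob (pullback f g) p) := by
  have : IsCharP X p := IsCharP.of_hom f p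
  let F := frob B p
  let π : pullback (pullback.snd f F) g ⟶ pullback f g :=
    pullback.lift (pullback.fst (pullback.snd f F) g ≫ pullback.fst f F) (pullback.snd (pullback.snd f F) g ≫ frob T p) (by
      rw [Category.assoc, pullback.condition, pullback.condition_assoc, Category.assoc, frob_comp p g])
  have hπ : IsPullback π (pullback.snd _ g) (pullback.snd f g) (frob T p) := by
    refine IsPullback.of_right (h₁₂ := pullback.fst f g) (h₂₂ := g) (v₁₃ := f) ?_ (pullback.lift_snd _ _ _)
      (IsPullback.of_hasPullback f g)
    have h1 := (IsPullback.of_hasPullback (pullback.snd f F) g).paste_horiz (IsPullback.of_hasPullback f F)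
    rw [← frob_comp p g] at h1
    rw [pullback.lift_fst]
    exact h1
  have hπi : IsIso π :=
    MorphismProperty.of_isPullback (P := MorphismProperty.isomorphisms Scheme.{u}) hπ.flip ‹_›
  let w : pullback f g ⟶ pullback (pullback.snd f F) g :=
    pullback.lift (pullback.fst f g ≫ relFrob f p) (pullback.snd f g) (by
      rw [Category.assoc, relFrob_snd, pullback.condition])
  have hw : IsPullback w (pullback.fst f g) (pullback.fst (pullback.snd f F) g) (relFrob f p) := by
    refine IsPullback.of_right (h₁₂ := pullback.snd _ g) (h₂₂ := pullback.snd f F) (v₁₃ := g) ?_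
      (pullback.lift_fst _ _ _) (IsPullback.of_hasPullback _ _).flip
    rw [pullback.lift_snd, relFrob_snd]
    exact (IsPullback.of_hasPullback f g).flip
  have hwf : Flat w := MorphismProperty.of_isPullback (P := @Flat) hw.flip h
  have : frob (pullback f g) p = w ≫ π := by
    apply pullback.hom_ext
    · rw [Category.assoc, pullback.lift_fst, ← Category.assoc, pullback.lift_fst, Category.assoc, relFrob_fst,
        frob_comp]
    · rw [Category.assoc, pullback.lift_snd, ← Category.assoc, pullback.lift_snd, frob_comp]
  rw [this]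
  infer_instance

/-- Flat relative Frobenius implies geometrically reduced. -/
theorem geometricallyReduced_of_flat_relFrob (p : ℕ) [Fact p.Prime] {K : Type u} [Field K] [CharP K p] {X : Scheme.{u}}
    (f : X ⟶ Spec (CommRingCat.of K)) (h : Flat (relFrob f p)) : GeometricallyReduced f := by
  let Ω : Type u := AlgebraicClosure K
  have hc : CharP Ω p := charP_of_injective_algebraMap (algebraMap K Ω).injective p
  let g : Spec (CommRingCat.of Ω) ⟶ Spec (CommRingCat.of K) := Spec.map (CommRingCat.ofHom (algebraMap K Ω))
  have : IsCharP (pullback f g) p := IsCharP.of_hom (pullback.snd f g) p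
  have hp : PerfectRing Ω p := inferInstance
  have : IsIso (frob (Spec (CommRingCat.of Ω)) p) := isIso_frob_spec p Ω
  have h1 := isReduced_of_flat_frob (pullback f g) p (flat_frob_bc p f g h)
  have : AlgebraicGeometry.IsReduced (FBase.bc f Ω) := h1
  exact Groth.Agent.S2535.result (Ω := Ω) f

/-- A group scheme with flat relative Frobenius is smooth. -/
theorem smooth_of_flat_relFrob (p : ℕ) [Fact p.Prime] {K : Type u} [Field K] [CharP K p]
    (G : Over (Spec (CommRingCat.of K))) [GrpObj G] [LocallyOfFiniteType G.hom] (h : Flat (relFrob G.hom p)) :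
    Smooth G.hom := by
  have := geometricallyReduced_of_flat_relFrob p G.hom h
  let _ : GrpObj (Over.mk G.hom) := inferInstanceAs (GrpObj G)
  exact smooth_of_grpObj G.hom

end K827.FrobRed
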