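import Groth.Agent.TateGlob.K827.GenPull

/-!
# Restriction of classes of torsors along a continuous functor

`Φ` = precomposition with a continuous functor `G : C ⥤ D` (exact on abelian sheaves).
* `gpull_clsOf`: the restriction of the class of a torsor datum is the class of the restricted datum.
-/

set_option autoImplicit false
universe w w₁ w₂ v₁ v₂ u₁ u₂

open CategoryTheory CategoryTheory.Limits Opposite Abelian
open Groth.Agent.CurvesA.Torsor Groth.Agent.CurvesA.TorsorCls Groth.Agent.CurvesA.TorsorOps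

namespace K827.GenCls

open K827.GenPull

variable {C : Type u₁} [Category.{v₁} C] {D : Type u₂} [Category.{v₂} D]
  {J : GrothendieckTopology C} {L : GrothendieckTopology D}
  [HasSheafify J AddCommGrpCat.{w}] [HasSheafify L AddCommGrpCat.{w}]
  [HasExt.{w₁} (Sheaf J AddCommGrpCat.{w})] [HasExt.{w₂} (Sheaf L AddCommGrpCat.{w})]
  (G : C ⥤ D) [G.IsContinuous J L]
  [(G.sheafPushforwardContinuous AddCommGrpCat.{w} J L).Additive]
  [PreservesFiniteLimits (G.sheafPushforwardContinuous AddCommGrpCat.{w} J L)]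
  [PreservesFiniteColimits (G.sheafPushforwardContinuous AddCommGrpCat.{w} J L)]
  (e : (G.sheafPushforwardContinuous AddCommGrpCat.{w} J L).obj
      ((constantSheaf L AddCommGrpCat.{w}).obj (AddCommGrpCat.of (ULift.{w} ℤ))) ≅
    (constantSheaf J AddCommGrpCat.{w}).obj (AddCommGrpCat.of (ULift.{w} ℤ)))
  {TC : C} (hTC : IsTerminal TC) {TD : D} (hTD : IsTerminal TD)

/-- The restricted torsor datum. -/
def restrD {F : Sheaf L AddCommGrpCat.{w}} {P : Dᵒᵖ ⥤ Type w} (δ : DiffMap F.obj P) :
    DiffMap ((G.sheafPushforwardContinuous AddCommGrpCat.{w} J L).obj F).obj (G.op ⋙ P) where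
  d U p q := δ.d (G.op.obj U) p q
  d_add U p q r := δ.d_add (G.op.obj U) p q r
  d_map f p q := δ.d_map (G.op.map f) p q

variable (hr : ∀ (F : Sheaf L AddCommGrpCat.{w}) (x : Sheaf.H F 0),
    Sheaf.H.equiv₀ ((G.sheafPushforwardContinuous AddCommGrpCat.{w} J L).obj F) hTC
      (gpull (G.sheafPushforwardContinuous AddCommGrpCat.{w} J L) e F 0 x) =
    F.obj.map (hTD.from (G.obj TC)).op (Sheaf.H.equiv₀ F hTD x))

variable [EnoughInjectives (Sheaf L AddCommGrpCat.{w})] [EnoughInjectives (Sheaf J AddCommGrpCat.{w})]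

include hr in
theorem gpull_clsOf (F : Sheaf L AddCommGrpCat.{w}) {P : Dᵒᵖ ⥤ Type w} (δ : DiffMap F.obj P)
    (hP : supp P TD ∈ L TD) (hP' : supp (G.op ⋙ P) TC ∈ J TC) :
    gpull (G.sheafPushforwardContinuous AddCommGrpCat.{w} J L) e F 1 (clsOf hTD F δ hP) =
      clsOf hTC ((G.sheafPushforwardContinuous AddCommGrpCat.{w} J L).obj F) (restrD G δ) hP' := by
  have hS := can_shortExact F
  let c := (exists_chart (S := can F) δ).some
  obtain ⟨q, hq⟩ := exists_isSec hTD c hP
  rw [← dl_eq_clsOf hTD (S := can F) hS c hq hP]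
  rw [gpull_dl (G.sheafPushforwardContinuous AddCommGrpCat.{w} J L) e hTC hTD
    (fun F => F.obj.map (hTD.from (G.obj TC)).op) hr hS q]
  let c' : Chart ((can F).map (G.sheafPushforwardContinuous AddCommGrpCat.{w} J L)) (restrD G δ) :=
    { φ := fun U p => c.φ (G.op.obj U) p
      nat := fun {U V} f p => c.nat (G.op.map f) p
      diff := fun U p q => c.diff (G.op.obj U) p q }
  refine dl_eq_clsOf hTC (hS.map_of_exact (G.sheafPushforwardContinuous AddCommGrpCat.{w} J L)) c'
    (fun U p => ?_) hP'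
  have h1 := hq (G.obj U) p
  refine h1.trans ?_
  have h2 : hTD.from (G.obj U) = G.map (hTC.from U) ≫ hTD.from (G.obj TC) := hTD.hom_ext _ _
  rw [h2, op_comp, Functor.map_comp]
  rfl

end K827.GenCls
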