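import Groth.Agent.CurvesA.TorsorCls
import Mathlib.Algebra.Homology.DerivedCategory.Ext.Map

/-!
# Restriction maps on cohomology along an exact functor between categories of sheaves, and classes of torsors

Generic version of `HRes.pull`: `gpull Φ e F n` for an exact functor `Φ` between categories of abelian sheaves
with `e : Φ ℤ ≅ ℤ`.  `gpull_dl`: compatibility with connecting maps; `gpull_eq_zero_iff`.
-/

set_option autoImplicit false
universe w w₁ w₂ v₁ v₂ u₁ u₂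

open CategoryTheory CategoryTheory.Limits Opposite Abelian
open Groth.Agent.CurvesA.Torsor Groth.Agent.CurvesA.TorsorCls Groth.Agent.CurvesA.TorsorOps

namespace K827.GenPull

variable {C : Type u₁} [Category.{v₁} C] {D : Type u₂} [Category.{v₂} D]
  {J : GrothendieckTopology C} {L : GrothendieckTopology D}
  [HasSheafify J AddCommGrpCat.{w}] [HasSheafify L AddCommGrpCat.{w}]
  [HasExt.{w₁} (Sheaf J AddCommGrpCat.{w})] [HasExt.{w₂} (Sheaf L AddCommGrpCat.{w})]
  (Φ : Sheaf L AddCommGrpCat.{w} ⥤ Sheaf J AddCommGrpCat.{w}) [Φ.Additive]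
  [PreservesFiniteLimits Φ] [PreservesFiniteColimits Φ]
  (e : Φ.obj ((constantSheaf L AddCommGrpCat.{w}).obj (AddCommGrpCat.of (ULift.{w} ℤ))) ≅
    (constantSheaf J AddCommGrpCat.{w}).obj (AddCommGrpCat.of (ULift.{w} ℤ)))

/-- The restriction map attached to an exact functor. -/
noncomputable def gpull (F : Sheaf L AddCommGrpCat.{w}) (n : ℕ) : Sheaf.H F n →+ Sheaf.H (Φ.obj F) n :=
  ((Ext.mk₀ e.inv).precomp _ (zero_add n)).comp (Φ.mapExtAddHom _ F n)

theorem gpull_apply (F : Sheaf L AddCommGrpCat.{w}) (n : ℕ) (x : Sheaf.H F n) :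
    gpull Φ e F n x = (Ext.mk₀ e.inv).comp (x.mapExactFunctor Φ) (zero_add n) := rfl

theorem gpull_comp {F G : Sheaf L AddCommGrpCat.{w}} {a b c : ℕ} (x : Sheaf.H F a) (y : Ext F G b)
    (h : a + b = c) :
    gpull Φ e G c (Ext.comp x y h) = Ext.comp (gpull Φ e F a x) (y.mapExactFunctor Φ) h := by
  rw [gpull_apply, gpull_apply, Ext.mapExactFunctor_comp, Ext.comp_assoc (h₁₂ := zero_add a) (h₂₃ := h)
    (h := by omega)]

variable {TC : C} (hTC : IsTerminal TC) {TD : D} (hTD : IsTerminal TD)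
  (r : ∀ F : Sheaf L AddCommGrpCat.{w}, F.obj.obj (op TD) → (Φ.obj F).obj.obj (op TC))
  (hr : ∀ (F : Sheaf L AddCommGrpCat.{w}) (x : Sheaf.H F 0),
    Sheaf.H.equiv₀ (Φ.obj F) hTC (gpull Φ e F 0 x) = r F (Sheaf.H.equiv₀ F hTD x))

include hr in
theorem gpull_dl {S : ShortComplex (Sheaf L AddCommGrpCat.{w})} (hS : S.ShortExact)
    (q : S.X₃.obj.obj (op TD)) :
    gpull Φ e S.X₁ 1 (dl hS hTD q) = dl (hS.map_of_exact Φ) hTC (r S.X₃ q) := by
  rw [dl_apply, dl_apply, gpull_comp, Ext.mapExactFunctor_extClass]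
  have h := hr S.X₃ ((Sheaf.H.equiv₀ S.X₃ hTD).symm q)
  rw [AddEquiv.apply_symm_apply] at h
  have h2 := (Sheaf.H.equiv₀ (Φ.obj S.X₃) hTC).injective
    (h.trans ((Sheaf.H.equiv₀ (Φ.obj S.X₃) hTC).apply_symm_apply _).symm)
  exact congrArg (fun t => Ext.comp t (hS.map_of_exact Φ).extClass (zero_add 1)) h2

include hr in
theorem gpull_dl_eq_zero_iff {S : ShortComplex (Sheaf L AddCommGrpCat.{w})} (hS : S.ShortExact)
    (q : S.X₃.obj.obj (op TD)) :
    gpull Φ e S.X₁ 1 (dl hS hTD q) = 0 ↔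
      ∃ s : (Φ.obj S.X₂).obj.obj (op TC), (Φ.map S.g).hom.app (op TC) s = r S.X₃ q := by
  rw [gpull_dl Φ e hTC hTD r hr hS q]
  exact dl_eq_zero_iff (hS.map_of_exact Φ) hTC (r S.X₃ q)

end K827.GenPull
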