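import Groth.Agent.TateGlob.K828.Cartan

/-!
# Čech classes of degree one on a big site

For an abstract cohomology theory `𝓗 : CohT K S` and an abelian sheaf `F`: `IsCls 𝓗 p c x` says that the class
`x ∈ H^1(T, F)` is represented by the Čech cocycle `c` for `p : T' ⟶ T`.

* `IsCls.eq_zero_iff`: `x = 0` iff `c` is a coboundary.
* `exists_isCls`: every cocycle represents a class; `exists_coc`: every class dying on `T'` is represented by a cocycle.
* `IsCls.sub`, `IsCls.neg`, `IsCls.unique`, `IsCls.res` (base change), `IsCls.map` (functoriality in `F`).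
* `isCls_of_seq`: the cocycle of a connecting image.
-/

set_option autoImplicit false

universe u

open CategoryTheory CategoryTheory.Limits AlgebraicGeometry Opposite
open Groth.Agent.Etrest.FppfCoch K828 K828.Cech K828.Cartan

namespace K827.H1

variable {K : Precoverage Scheme.{u}} {S : Scheme.{u}}

/-- The embedding of `F` into an injective sheaf, with its cokernel. -/
noncomputable abbrev emb (F : BigSite.Ab K S) : ShortComplex (BigSite.Ab K S) :=
  ShortComplex.mk (Injective.ι F) (cokernel.π (Injective.ι F)) (cokernel.condition _)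

theorem emb_exact (F : BigSite.Ab K S) : (emb F).ShortExact :=
  { exact := ShortComplex.exact_cokernel _
    mono_f := inferInstanceAs (Mono (Injective.ι F))
    epi_g := inferInstanceAs (Epi (cokernel.π (Injective.ι F))) }

/-- Families of elements indexed by pairs of points of `T'`. -/
abbrev Pr (F : BigSite.Ab K S) (T' : Over S) : Type _ :=
  ∀ (W : Over S) (_ _ : W ⟶ T'), F.obj.obj (op W)

/-- Čech 1-cocycles for `p`. -/
structure IsCoc {F : BigSite.Ab K S} {T' T : Over S} (p : T' ⟶ T) (c : Pr F T') : Prop where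
  nat : ∀ {W W' : Over S} (f : W' ⟶ W) (a b : W ⟶ T'), a ≫ p = b ≫ p →
    c W' (f ≫ a) (f ≫ b) = F.obj.map f.op (c W a b)
  add : ∀ {W : Over S} (a b d : W ⟶ T'), a ≫ p = b ≫ p → b ≫ p = d ≫ p → c W a b + c W b d = c W a d

/-- the element `res g s` -/
abbrev rs (F : BigSite.Ab K S) {T T' : Over S} (g : T' ⟶ T) (s : F.obj.obj (op T)) : F.obj.obj (op T') :=
  F.obj.map g.op s

theorem rs_comp (F : BigSite.Ab K S) {X Y Z : Over S} (f : X ⟶ Y) (g : Y ⟶ Z) (s : F.obj.obj (op Z)) :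
    rs F f (rs F g s) = rs F (f ≫ g) s := res_comp F.obj f g s

theorem rs_nat {F G : BigSite.Ab K S} (φ : F ⟶ G) {X Y : Over S} (f : X ⟶ Y) (s : F.obj.obj (op Y)) :
    φ.hom.app (op X) (rs F f s) = rs G f (φ.hom.app (op Y) s) := nat_apply φ.hom f s

theorem rs_sub (F : BigSite.Ab K S) {X Y : Over S} (f : X ⟶ Y) (s t : F.obj.obj (op Y)) :
    rs F f (s - t) = rs F f s - rs F f t := map_sub _ _ _

theorem rs_add (F : BigSite.Ab K S) {X Y : Over S} (f : X ⟶ Y) (s t : F.obj.obj (op Y)) :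
    rs F f (s + t) = rs F f s + rs F f t := map_add _ _ _

theorem rs_neg (F : BigSite.Ab K S) {X Y : Over S} (f : X ⟶ Y) (s : F.obj.obj (op Y)) :
    rs F f (-s) = - rs F f s := map_neg _ _

theorem rs_zero (F : BigSite.Ab K S) {X Y : Over S} (f : X ⟶ Y) :
    rs F f 0 = 0 := map_zero _

theorem rs_id (F : BigSite.Ab K S) {X : Over S} (s : F.obj.obj (op X)) : rs F (𝟙 X) s = s := res_id F.obj s

/-- `s` and `q` are lift data with cocycle `c` (for any short exact sequence `A` starting with `F`) -/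
structure LD (A : ShortComplex (BigSite.Ab K S)) {T' T : Over S} (p : T' ⟶ T) (c : Pr A.X₁ T')
    (q : A.X₃.obj.obj (op T)) (b : A.X₂.obj.obj (op T')) : Prop where
  lift : A.g.hom.app (op T') b = rs A.X₃ p q
  coc : ∀ {W : Over S} (a a' : W ⟶ T'), a ≫ p = a' ≫ p →
    A.f.hom.app (op W) (c W a a') = rs A.X₂ a' b - rs A.X₂ a b

variable (𝓗 : CohT K S)

/-- The class `x` is represented by the Čech cocycle `c`. -/
def IsCls {F : BigSite.Ab K S} {T' T : Over S} (p : T' ⟶ T) (c : Pr F T') (x : 𝓗.H F 1 T) : Prop :=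
  ∃ (q : (emb F).X₃.obj.obj (op T)) (b : (emb F).X₂.obj.obj (op T')),
    LD (emb F) p c q b ∧ 𝓗.del (emb_exact F) (𝓗.sec.symm q) = x

theorem LD.isCoc {A : ShortComplex (BigSite.Ab K S)} (hA : A.ShortExact) {T' T : Over S} {p : T' ⟶ T} {c : Pr A.X₁ T'}
    {q : A.X₃.obj.obj (op T)} {b : A.X₂.obj.obj (op T')} (h : LD A p c q b) : IsCoc p c where
  nat {W W'} f a a' haa := by
    apply (le_of_shortExact hA).inj'
    have e : (f ≫ a) ≫ p = (f ≫ a') ≫ p := by rw [Category.assoc, haa, Category.assoc]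
    refine (h.coc (f ≫ a) (f ≫ a') e).trans ?_
    refine Eq.trans ?_ (rs_nat A.f f (c W a a')).symm
    rw [h.coc a a' haa, rs_sub, ← rs_comp, ← rs_comp]
  add {W} a b' d h1 h2 := by
    apply (le_of_shortExact hA).inj'
    refine (map_add _ _ _).trans ?_
    refine (congrArg₂ (· + ·) (h.coc a b' h1) (h.coc b' d h2)).trans ?_
    refine Eq.trans ?_ (h.coc a d (h1.trans h2)).symm
    abel

variable {𝓗}

theorem IsCls.isCoc {F : BigSite.Ab K S} {T' T : Over S} {p : T' ⟶ T} {c : Pr F T'} {x : 𝓗.H F 1 T}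
    (h : IsCls 𝓗 p c x) : IsCoc p c := by
  obtain ⟨q, b, hb, -⟩ := h
  exact hb.isCoc (emb_exact F)

theorem IsCls.congr {F : BigSite.Ab K S} {T' T : Over S} {p : T' ⟶ T} {c c' : Pr F T'} {x : 𝓗.H F 1 T}
    (h : IsCls 𝓗 p c x) (hc : ∀ {W : Over S} (a b : W ⟶ T'), a ≫ p = b ≫ p → c' W a b = c W a b) :
    IsCls 𝓗 p c' x := by
  obtain ⟨q, b, hb, hq⟩ := h
  exact ⟨q, b, ⟨hb.lift, fun a a' haa => by rw [hc a a' haa]; exact hb.coc a a' haa⟩, hq⟩

variable (𝓗) in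
/-- Connecting images vanish iff the section lifts. -/
theorem del_sec_eq_zero_iff {A : ShortComplex (BigSite.Ab K S)} (hA : A.ShortExact) {T : Over S}
    (q : A.X₃.obj.obj (op T)) :
    𝓗.del hA (𝓗.sec.symm q) = 0 ↔ ∃ s : A.X₂.obj.obj (op T), A.g.hom.app (op T) s = q := by
  constructor
  · intro h
    obtain ⟨y, hy⟩ := 𝓗.exact₃ hA _ h
    refine ⟨𝓗.sec y, ?_⟩
    rw [← 𝓗.sec_map, hy, AddEquiv.apply_symm_apply]
  · rintro ⟨s, rfl⟩
    have : 𝓗.sec.symm (A.g.hom.app (op T) s) = 𝓗.map A.g (𝓗.sec.symm s) := by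
      apply 𝓗.sec.injective
      rw [AddEquiv.apply_symm_apply, 𝓗.sec_map, AddEquiv.apply_symm_apply]
    rw [this, 𝓗.del_map]

/-- A class which is zero has a coboundary as cocycle. -/
theorem IsCls.exists_cob {F : BigSite.Ab K S} {T' T : Over S} {p : T' ⟶ T} {c : Pr F T'} (h : IsCls 𝓗 p c 0) :
    ∃ g : F.obj.obj (op T'), ∀ {W : Over S} (a b : W ⟶ T'), a ≫ p = b ≫ p → c W a b = rs F b g - rs F a g := by
  obtain ⟨q, b, hb, hq⟩ := h
  obtain ⟨i, rfl⟩ := (del_sec_eq_zero_iff 𝓗 (emb_exact F) q).1 hq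
  obtain ⟨g, hg⟩ := (le_of_shortExact (emb_exact F)).ex _ (b - rs (emb F).X₂ p i) (by
    refine (map_sub _ _ _).trans ?_
    rw [sub_eq_zero]
    exact hb.lift.trans (rs_nat (emb F).g p i).symm)
  refine ⟨g, fun {W} a a' haa => ?_⟩
  apply (le_of_shortExact (emb_exact F)).inj'
  refine (hb.coc a a' haa).trans ?_
  refine Eq.trans ?_ (map_sub _ _ _).symm
  refine Eq.trans ?_ (congrArg₂ (· - ·) (rs_nat (emb F).f a' g) (rs_nat (emb F).f a g)).symm
  have e1 : rs (emb F).X₂ a' ((emb F).f.hom.app (op T') g) = rs (emb F).X₂ a' b - rs (emb F).X₂ (a' ≫ p) i := by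
    rw [← rs_comp, ← rs_sub]
    exact congrArg _ hg
  have e2 : rs (emb F).X₂ a ((emb F).f.hom.app (op T') g) = rs (emb F).X₂ a b - rs (emb F).X₂ (a ≫ p) i := by
    rw [← rs_comp, ← rs_sub]
    exact congrArg _ hg
  rw [e1, e2, haa]
  abel

/-- A class represented by a coboundary for a covering is zero. -/
theorem IsCls.eq_zero {F : BigSite.Ab K S} {T' T : Over S} {p : T' ⟶ T}
    (hp : Sieve.generate (Presieve.singleton p) ∈ QuotSh.J K S T) {c : Pr F T'} {x : 𝓗.H F 1 T}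
    (h : IsCls 𝓗 p c x) (g : F.obj.obj (op T'))
    (hg : ∀ {W : Over S} (a b : W ⟶ T'), a ≫ p = b ≫ p → c W a b = rs F b g - rs F a g) : x = 0 := by
  obtain ⟨q, b, hb, rfl⟩ := h
  rw [del_sec_eq_zero_iff]
  let b' : (emb F).X₂.obj.obj (op T') := b - (emb F).f.hom.app (op T') g
  have hb' : ∀ {W : Over S} (a a' : W ⟶ T'), a ≫ p = a' ≫ p → rs (emb F).X₂ a b' = rs (emb F).X₂ a' b' := by
    intro W a a' haa
    have h1 := hb.coc a a' haa
    rw [hg a a' haa] at h1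
    have h2 : (emb F).f.hom.app (op W) (rs F a' g - rs F a g) =
        rs (emb F).X₂ a' ((emb F).f.hom.app (op T') g) - rs (emb F).X₂ a ((emb F).f.hom.app (op T') g) :=
      (map_sub _ _ _).trans (congrArg₂ (· - ·) (rs_nat (emb F).f a' g) (rs_nat (emb F).f a g))
    have h3 := h2.symm.trans h1
    change rs (emb F).X₂ a (b - _) = rs (emb F).X₂ a' (b - _)
    rw [rs_sub, rs_sub]
    rw [sub_eq_sub_iff_add_eq_add] at h3 ⊢
    rw [add_comm, h3, add_comm]
  let y : Fam (emb F).X₂.obj T T' 0 := fun W _ x => (emb F).X₂.obj.map (x 0).op b'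
  have hy : IsCoch p (𝟙 T) y := fun W W' f a x _ => res_comp (emb F).X₂.obj f (x 0) b'
  have hz : IsCocycle p (𝟙 T) y := by
    intro W a x hx
    rw [dS_zero_eq, sub_eq_zero]
    exact hb' _ _ ((hx 1).trans (hx 0).symm)
  obtain ⟨s, hs⟩ := descend (emb F).X₂.property hp hy hz
  refine ⟨s, eq_of_res_eq (emb F).X₃.property hp _ _ ?_⟩
  refine (nat_apply (emb F).g.hom p s).symm.trans ?_
  rw [hs T' p (𝟙 T') (Category.id_comp _)]
  change (emb F).g.hom.app (op T') (rs (emb F).X₂ (𝟙 T') b') = _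
  have e3 : rs (emb F).X₂ (𝟙 T') b' = b' := res_id (emb F).X₂.obj b'
  rw [e3]
  refine (map_sub _ _ _).trans ?_
  rw [(le_of_shortExact (emb_exact F)).comp]
  refine (sub_zero _).trans ?_
  exact hb.lift

/-- Every cocycle represents a class. -/
theorem exists_isCls (𝓗 : CohT K S) {F : BigSite.Ab K S} {T' T : Over S} {p : T' ⟶ T}
    (hp : Sieve.generate (Presieve.singleton p) ∈ QuotSh.J K S T) {c : Pr F T'} (hc : IsCoc p c) :
    ∃ x : 𝓗.H F 1 T, IsCls 𝓗 p c x := by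
  let A := emb F
  let c' : Fam A.X₂.obj T T' 1 := fun W _ x => A.f.hom.app (op W) (c W (x 0) (x 1))
  have h01 : ∀ {W : Over S} {a : W ⟶ T} {x : Fin 2 → (W ⟶ T')}, Compat p (𝟙 T) a x → x 0 ≫ p = x 1 ≫ p :=
    fun hx => (hx 0).trans (hx 1).symm
  have h1 : IsCoch p (𝟙 T) c' := by
    intro W W' f a x hx
    refine (rs_nat A.f f _).symm.trans ?_
    exact congrArg (A.f.hom.app (op W')) (hc.nat f _ _ (h01 hx)).symm
  have h2 : IsCocycle p (𝟙 T) c' := by
    intro W a x hx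
    have e : ∀ i j : Fin 3, x i ≫ p = x j ≫ p := fun i j => (hx i).trans (hx j).symm
    have e1 : dS (c' W a) x = c' W a (fun k => x ((0 : Fin 3).succAbove k)) -
        c' W a (fun k => x ((1 : Fin 3).succAbove k)) + c' W a (fun k => x ((2 : Fin 3).succAbove k)) := by
      rw [dS, Fin.sum_univ_three]
      simp [sub_eq_add_neg]
    rw [e1]
    change A.f.hom.app (op W) (c W (x 1) (x 2)) - A.f.hom.app (op W) (c W (x 0) (x 2)) +
      A.f.hom.app (op W) (c W (x 0) (x 1)) = 0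
    rw [← hc.add (x 0) (x 1) (x 2) (e 0 1) (e 1 2), map_add]
    abel
  obtain ⟨b, hb, hbc⟩ := acy_of_injective A.X₂ p 0 c' h1 h2
  let b₀ : A.X₂.obj.obj (op T') := b T' p (fun _ => 𝟙 T')
  have hb₀ : ∀ {W : Over S} (a : W ⟶ T'), rs A.X₂ a b₀ = b W (a ≫ p) (fun _ => a) := by
    intro W a
    have := hb a p (fun _ => 𝟙 T') (fun _ => by rw [Category.id_comp, Category.comp_id])
    refine this.trans ?_
    have : (fun _ : Fin 1 => a ≫ 𝟙 T') = fun _ => a := by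
      funext _
      exact Category.comp_id a
    exact congrArg (b W (a ≫ p)) this
  have key : ∀ {W : Over S} (a a' : W ⟶ T'), a ≫ p = a' ≫ p →
      A.f.hom.app (op W) (c W a a') = rs A.X₂ a' b₀ - rs A.X₂ a b₀ := by
    intro W a a' haa
    have := hbc (a ≫ p) (Fin.cons a (fun _ => a') : Fin 2 → (W ⟶ T')) (by
      intro i
      refine Fin.cases ?_ (fun _ => ?_) i
      · rw [Fin.cons_zero, Category.comp_id]
      · rw [Fin.cons_succ, Category.comp_id, haa])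
    rw [dS_zero_eq] at this
    refine this.symm.trans ?_
    refine congrArg₂ (· - ·) ?_ (hb₀ a).symm
    rw [hb₀ a', ← haa]
    rfl
  let y : Fam A.X₃.obj T T' 0 := fun W _ x => rs A.X₃ (x 0) (A.g.hom.app (op T') b₀)
  have hy : IsCoch p (𝟙 T) y := fun W W' f a x _ => res_comp A.X₃.obj f (x 0) _
  have hz : IsCocycle p (𝟙 T) y := by
    intro W a x hx
    rw [dS_zero_eq]
    change rs A.X₃ (x 1) (A.g.hom.app (op T') b₀) - rs A.X₃ (x 0) (A.g.hom.app (op T') b₀) = 0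
    rw [← rs_nat, ← rs_nat, ← map_sub, ← key (x 0) (x 1) (h01 hx)]
    exact (le_of_shortExact (emb_exact F)).comp _ _
  obtain ⟨q, hq⟩ := descend A.X₃.property hp hy hz
  refine ⟨_, q, b₀, ⟨?_, key⟩, rfl⟩
  have := hq T' p (𝟙 T') (Category.id_comp _)
  refine Eq.symm (this.trans ?_)
  exact res_id A.X₃.obj _

/-- Every class which dies on `T'` is represented by a cocycle. -/
theorem exists_coc {F : BigSite.Ab K S} {T' T : Over S} (p : T' ⟶ T) (x : 𝓗.H F 1 T) (hx : 𝓗.res p x = 0) :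
    ∃ c : Pr F T', IsCls 𝓗 p c x := by
  classical
  have hI : Injective (emb F).X₂ := inferInstanceAs (Injective (Injective.under F))
  obtain ⟨y, rfl⟩ := 𝓗.exists_del (emb_exact F) x
  obtain ⟨q, rfl⟩ : ∃ q, y = 𝓗.sec.symm q := ⟨𝓗.sec y, (AddEquiv.symm_apply_apply _ _).symm⟩
  have h1 : 𝓗.res p (𝓗.sec.symm q) = 𝓗.sec.symm (rs (emb F).X₃ p q) := by
    apply 𝓗.sec.injective
    rw [𝓗.sec_res, AddEquiv.apply_symm_apply, AddEquiv.apply_symm_apply]
  have hx' := (𝓗.del_res (emb_exact F) p (𝓗.sec.symm q)).trans hx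
  rw [h1, del_sec_eq_zero_iff] at hx'
  obtain ⟨b, hb⟩ := hx'
  have hex : ∀ {W : Over S} (a a' : W ⟶ T'), a ≫ p = a' ≫ p → ∃ t : F.obj.obj (op W),
      (emb F).f.hom.app (op W) t = rs (emb F).X₂ a' b - rs (emb F).X₂ a b := by
    intro W a a' haa
    apply (le_of_shortExact (emb_exact F)).ex
    refine (map_sub _ _ _).trans ?_
    rw [sub_eq_zero]
    refine (rs_nat (emb F).g a' b).trans (Eq.trans ?_ (rs_nat (emb F).g a b).symm)
    rw [hb, rs_comp, rs_comp, haa]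
  refine ⟨fun W a a' => if h : a ≫ p = a' ≫ p then (hex a a' h).choose else 0, q, b, ⟨hb, ?_⟩, rfl⟩
  intro W a a' haa
  rw [dif_pos haa]
  exact (hex a a' haa).choose_spec

theorem IsCls.sub {F : BigSite.Ab K S} {T' T : Over S} {p : T' ⟶ T} {c c' : Pr F T'} {x x' : 𝓗.H F 1 T}
    (h : IsCls 𝓗 p c x) (h' : IsCls 𝓗 p c' x') : IsCls 𝓗 p (fun W a b => c W a b - c' W a b) (x - x') := by
  obtain ⟨q, b, hb, rfl⟩ := h
  obtain ⟨q', b', hb', rfl⟩ := h'
  refine ⟨q - q', b - b', ⟨?_, fun {W} a a' haa => ?_⟩, ?_⟩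
  · refine (map_sub _ _ _).trans ?_
    rw [hb.lift, hb'.lift]
    exact (map_sub _ _ _).symm
  · refine (map_sub _ _ _).trans ?_
    refine (congrArg₂ (· - ·) (hb.coc a a' haa) (hb'.coc a a' haa)).trans ?_
    rw [rs_sub, rs_sub]
    abel
  · rw [map_sub, map_sub]

theorem IsCls.add {F : BigSite.Ab K S} {T' T : Over S} {p : T' ⟶ T} {c c' : Pr F T'} {x x' : 𝓗.H F 1 T}
    (h : IsCls 𝓗 p c x) (h' : IsCls 𝓗 p c' x') : IsCls 𝓗 p (fun W a b => c W a b + c' W a b) (x + x') := by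
  obtain ⟨q, b, hb, rfl⟩ := h
  obtain ⟨q', b', hb', rfl⟩ := h'
  refine ⟨q + q', b + b', ⟨?_, fun {W} a a' haa => ?_⟩, ?_⟩
  · refine (map_add _ _ _).trans ?_
    rw [hb.lift, hb'.lift]
    exact (map_add _ _ _).symm
  · refine (map_add _ _ _).trans ?_
    refine (congrArg₂ (· + ·) (hb.coc a a' haa) (hb'.coc a a' haa)).trans ?_
    rw [rs_add, rs_add]
    abel
  · rw [map_add, map_add]

/-- The class of a cocycle for a covering is unique. -/
theorem IsCls.unique {F : BigSite.Ab K S} {T' T : Over S} {p : T' ⟶ T}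
    (hp : Sieve.generate (Presieve.singleton p) ∈ QuotSh.J K S T) {c : Pr F T'} {x x' : 𝓗.H F 1 T}
    (h : IsCls 𝓗 p c x) (h' : IsCls 𝓗 p c x') : x = x' := by
  rw [← sub_eq_zero]
  refine (h.sub h').eq_zero hp 0 fun {W} a b _ => ?_
  rw [rs_zero, rs_zero, sub_self, sub_self]

/-- Base change of cocycles. -/
theorem IsCls.res {F : BigSite.Ab K S} {T' T : Over S} {p : T' ⟶ T} {c : Pr F T'} {x : 𝓗.H F 1 T}
    (h : IsCls 𝓗 p c x) {U' U : Over S} {p' : U' ⟶ U} (g : U ⟶ T) (g' : U' ⟶ T') (w : g' ≫ p = p' ≫ g) :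
    IsCls 𝓗 p' (fun W a b => c W (a ≫ g') (b ≫ g')) (𝓗.res g x) := by
  obtain ⟨q, b, hb, rfl⟩ := h
  refine ⟨rs (emb F).X₃ g q, rs (emb F).X₂ g' b, ⟨?_, fun {W} a a' haa => ?_⟩, ?_⟩
  · rw [rs_nat, hb.lift, rs_comp, rs_comp, w]
  · refine (hb.coc (a ≫ g') (a' ≫ g') ?_).trans ?_
    · rw [Category.assoc, Category.assoc, w, ← Category.assoc, ← Category.assoc, haa]
    · rw [rs_comp, rs_comp]
  · refine Eq.trans ?_ (𝓗.del_res (emb_exact F) g (𝓗.sec.symm q))
    congr 1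
    apply 𝓗.sec.injective
    rw [𝓗.sec_res, AddEquiv.apply_symm_apply, AddEquiv.apply_symm_apply]

/-- The cocycle of a connecting image. -/
theorem isCls_of_seq (𝓗 : CohT K S) {A : ShortComplex (BigSite.Ab K S)} (hA : A.ShortExact) {T' T : Over S}
    {p : T' ⟶ T} {c : Pr A.X₁ T'} {q : A.X₃.obj.obj (op T)} {b : A.X₂.obj.obj (op T')} (h : LD A p c q b) :
    IsCls 𝓗 p c (𝓗.del hA (𝓗.sec.symm q)) := by
  have := hA.mono_f
  have hI : Injective (emb A.X₁).X₂ := inferInstanceAs (Injective (Injective.under A.X₁))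
  let φ₂ : A.X₂ ⟶ (emb A.X₁).X₂ := Injective.factorThru (Injective.ι A.X₁) A.f
  have hφ₂ : A.f ≫ φ₂ = (emb A.X₁).f := Injective.comp_factorThru _ _
  have hz : A.f ≫ φ₂ ≫ (emb A.X₁).g = 0 := by
    rw [← Category.assoc, hφ₂]
    exact (emb A.X₁).zero
  have := hA.epi_g
  let φ₃ : A.X₃ ⟶ (emb A.X₁).X₃ := hA.exact.desc (φ₂ ≫ (emb A.X₁).g) hz
  have hφ₃ : A.g ≫ φ₃ = φ₂ ≫ (emb A.X₁).g := hA.exact.g_desc _ _
  let φ : A ⟶ emb A.X₁ :=
    { τ₁ := 𝟙 A.X₁
      τ₂ := φ₂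
      τ₃ := φ₃
      comm₁₂ := by rw [Category.id_comp, hφ₂]
      comm₂₃ := hφ₃.symm }
  refine ⟨φ₃.hom.app (op T) q, φ₂.hom.app (op T') b, ⟨?_, fun {W} a a' haa => ?_⟩, ?_⟩
  · have e1 : (emb A.X₁).g.hom.app (op T') (φ₂.hom.app (op T') b) = φ₃.hom.app (op T') (A.g.hom.app (op T') b) :=
      congrArg (fun ψ : A.X₂ ⟶ (emb A.X₁).X₃ => ψ.hom.app (op T') b) hφ₃.symm
    rw [e1, h.lift]
    exact rs_nat φ₃ p q
  · have e1 : (emb A.X₁).f.hom.app (op W) (c W a a') = φ₂.hom.app (op W) (A.f.hom.app (op W) (c W a a')) :=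
      congrArg (fun ψ : A.X₁ ⟶ (emb A.X₁).X₂ => ψ.hom.app (op W) (c W a a')) hφ₂.symm
    rw [e1, h.coc a a' haa]
    refine (map_sub _ _ _).trans ?_
    exact congrArg₂ (· - ·) (rs_nat φ₂ a' b) (rs_nat φ₂ a b)
  · have e2 := 𝓗.del_nat hA (emb_exact A.X₁) φ (𝓗.sec.symm q)
    have e3 : 𝓗.map φ.τ₃ (𝓗.sec.symm q) = 𝓗.sec.symm (φ₃.hom.app (op T) q) := by
      apply 𝓗.sec.injective
      rw [𝓗.sec_map, AddEquiv.apply_symm_apply, AddEquiv.apply_symm_apply]
    rw [e3] at e2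
    refine e2.trans ?_
    exact 𝓗.map_id _

/-- Functoriality in the sheaf. -/
theorem IsCls.map {F G : BigSite.Ab K S} (φ : F ⟶ G) {T' T : Over S} {p : T' ⟶ T} {c : Pr F T'} {x : 𝓗.H F 1 T}
    (h : IsCls 𝓗 p c x) : IsCls 𝓗 p (fun W a b => φ.hom.app (op W) (c W a b)) (𝓗.map φ x) := by
  obtain ⟨q, b, hb, rfl⟩ := h
  have hI : Injective (emb G).X₂ := inferInstanceAs (Injective (Injective.under G))
  have := (emb_exact F).mono_f
  have := (emb_exact F).epi_g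
  let φ₂ : (emb F).X₂ ⟶ (emb G).X₂ := Injective.factorThru (φ ≫ (emb G).f) (emb F).f
  have hφ₂ : (emb F).f ≫ φ₂ = φ ≫ (emb G).f := Injective.comp_factorThru _ _
  have hz : (emb F).f ≫ φ₂ ≫ (emb G).g = 0 := by
    rw [← Category.assoc, hφ₂, Category.assoc, (emb G).zero, comp_zero]
  let φ₃ : (emb F).X₃ ⟶ (emb G).X₃ := (emb_exact F).exact.desc (φ₂ ≫ (emb G).g) hz
  have hφ₃ : (emb F).g ≫ φ₃ = φ₂ ≫ (emb G).g := (emb_exact F).exact.g_desc _ _
  let Φ : emb F ⟶ emb G :=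
    { τ₁ := φ
      τ₂ := φ₂
      τ₃ := φ₃
      comm₁₂ := hφ₂.symm
      comm₂₃ := hφ₃.symm }
  refine ⟨φ₃.hom.app (op T) q, φ₂.hom.app (op T') b, ⟨?_, fun {W} a a' haa => ?_⟩, ?_⟩
  · have e1 : (emb G).g.hom.app (op T') (φ₂.hom.app (op T') b) = φ₃.hom.app (op T') ((emb F).g.hom.app (op T') b) :=
      congrArg (fun ψ : (emb F).X₂ ⟶ (emb G).X₃ => ψ.hom.app (op T') b) hφ₃.symm
    rw [e1, hb.lift]
    exact rs_nat φ₃ p q
  · have e1 : (emb G).f.hom.app (op W) (φ.hom.app (op W) (c W a a')) =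
        φ₂.hom.app (op W) ((emb F).f.hom.app (op W) (c W a a')) :=
      congrArg (fun ψ : F ⟶ (emb G).X₂ => ψ.hom.app (op W) (c W a a')) hφ₂.symm
    refine e1.trans ?_
    rw [hb.coc a a' haa]
    refine (map_sub _ _ _).trans ?_
    exact congrArg₂ (· - ·) (rs_nat φ₂ a' b) (rs_nat φ₂ a b)
  · have e2 := 𝓗.del_nat (emb_exact F) (emb_exact G) Φ (𝓗.sec.symm q)
    have e3 : 𝓗.map Φ.τ₃ (𝓗.sec.symm q) = 𝓗.sec.symm (φ₃.hom.app (op T) q) := by
      apply 𝓗.sec.injective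
      rw [𝓗.sec_map, AddEquiv.apply_symm_apply, AddEquiv.apply_symm_apply]
    rw [e3] at e2
    exact e2

end K827.H1
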