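import Groth.Agent.TateGlob.K827.FinInj
import Groth.Agent.WeilRes.K933.WRFinite
import Groth.Prelude.Def_AdFn
import Mathlib.RingTheory.IntegralClosure.IsIntegralClosure.Basic

/-!
# Integral closedness after a finite free base change (helper827)

`secExt_bc`: `φ : A → A'` finite free with basis `b`, `ρ : A → R`, `ι : R → L` injective, and elements `∑ zᵢ ⊗ bᵢ` integral
over `R` have integral coordinates (tested in some target ring `C`). Then `Spec L ×_A A' ⟶ Spec R ×_A A'` has the
extension property `SecExt`.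
-/

set_option autoImplicit false

universe u

open TensorProduct CategoryTheory CategoryTheory.Limits AlgebraicGeometry

namespace K827.IntBC

open K933.WRAffine K827.FinInj

/-- `b` is a basis of `A'` over `A` through `φ`. -/
def IsBas {A A' : Type*} [CommRing A] [CommRing A'] (φ : A →+* A') {κ : Type*} [Fintype κ] (b : κ → A') : Prop :=
  ∀ x : A', ∃! c : κ → A, x = ∑ i, φ (c i) * b i

section basis

variable {A A' : Type u} [CommRing A] [CommRing A'] {φ : A →+* A'} {κ : Type} [Fintype κ] {b : κ → A'}

/-- The basis attached to `IsBas`. -/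
theorem IsBas.exists_basis (hb : IsBas φ b) :
    letI := φ.toAlgebra
    ∃ B : Module.Basis κ A A', ∀ i, B i = b i := by
  classical
  letI := φ.toAlgebra
  have hsm : ∀ (c : A) (x : A'), c • x = φ c * x := fun c x => rfl
  have hli : LinearIndependent A b := by
    rw [Fintype.linearIndependent_iff]
    intro g hg
    obtain ⟨c, hc, hu⟩ := hb 0
    have h1 : g = c := hu g (by
      simp only [hsm] at hg
      exact hg.symm)
    have h2 : (0 : κ → A) = c := hu 0 (by simp)
    intro i
    rw [h1, ← h2]
    rfl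
  have hsp : ⊤ ≤ Submodule.span A (Set.range b) := by
    intro x _
    obtain ⟨c, hc, -⟩ := hb x
    rw [hc]
    refine Submodule.sum_mem _ fun i _ => ?_
    rw [← hsm]
    exact Submodule.smul_mem _ _ (Submodule.subset_span ⟨i, rfl⟩)
  exact ⟨Module.Basis.mk hli hsp, fun i => Module.Basis.mk_apply hli hsp i⟩

end basis

theorem secExt_bc {A A' R L C : Type u} [CommRing A] [CommRing A'] [CommRing R] [CommRing L] [CommRing C]
    (φ : A →+* A') {κ : Type} [Fintype κ] (b : κ → A') (hb : IsBas φ b) (ρ : A →+* R) (ι : R →+* L)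
    (ρ' : A →+* L) (hρ : ι.comp ρ = ρ') (hι : Function.Injective ι) (α : L →+* C) (β : A' →+* C)
    (hαβ : α.comp ρ' = β.comp φ)
    (hIC : ∀ z : κ → L, (α.comp ι).IsIntegralElem (∑ i, α (z i) * β (b i)) → ∀ i, ∃ r : R, ι r = z i) :
    SecExt ((Over.pullback (Spec.map (CommRingCat.ofHom φ))).map (AdFn.specOfHom ρ ρ' ι hρ)).left := by
  let _ : Algebra A A' := φ.toAlgebra
  let _ : Algebra A R := ρ.toAlgebra
  let _ : Algebra A L := ρ'.toAlgebra
  let _ : Algebra A C := (α.comp ρ').toAlgebra
  obtain ⟨B, hB⟩ := hb.exists_basis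
  have hfr : Module.Free A A' := Module.Free.of_basis B
  have hfin : Module.Finite A A' := Module.Finite.of_basis B
  let ιa : R →ₐ[A] L := { ι with commutes' := fun a => RingHom.congr_fun hρ a }
  let αa : L →ₐ[A] C := { α with commutes' := fun a => rfl }
  let βa : A' →ₐ[A] C := { β with commutes' := fun a => (RingHom.congr_fun hαβ a).symm }
  let χ : R ⊗[A] A' →ₐ[A] L ⊗[A] A' := Algebra.TensorProduct.map ιa (AlgHom.id A A')
  have hχinj : Function.Injective χ :=
    Module.Flat.rTensor_preserves_injective_linearMap (M := A') ιa.toLinearMap hι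
  let γ : L ⊗[A] A' →ₐ[A] C := Algebra.TensorProduct.lift αa βa (fun _ _ => mul_comm _ _)
  have hs : SecExt (Spec.map (CommRingCat.ofHom χ.toRingHom)) := by
    refine secExt_of_integral _ hχinj fun z hz => ?_
    -- coordinates
    let BL := Algebra.TensorProduct.basis L B
    have hz1 : z = ∑ i, (BL.repr z i) ⊗ₜ[A] (b i) := by
      conv_lhs => rw [← BL.sum_repr z]
      refine Finset.sum_congr rfl fun i _ => ?_
      rw [Algebra.TensorProduct.basis_apply, hB, TensorProduct.smul_tmul', smul_eq_mul, mul_one]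
    -- `z` is integral over `R`
    have hz2 : (χ.toRingHom.comp (algebraMap R (R ⊗[A] A'))).IsIntegralElem z := by
      let _ : Algebra (R ⊗[A] A') (L ⊗[A] A') := χ.toRingHom.toAlgebra
      let _ : Algebra R (L ⊗[A] A') := (χ.toRingHom.comp (algebraMap R (R ⊗[A] A'))).toAlgebra
      have : IsScalarTower R (R ⊗[A] A') (L ⊗[A] A') := IsScalarTower.of_algebraMap_eq fun _ => rfl
      have h1 : IsIntegral (R ⊗[A] A') z := hz
      have h2 : Algebra.IsIntegral R (R ⊗[A] A') := inferInstance
      exact isIntegral_trans z h1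
    have hz3 : (α.comp ι).IsIntegralElem (γ z) := by
      obtain ⟨p, hp, hp0⟩ := hz2
      refine ⟨p, hp, ?_⟩
      have h3 := congrArg γ.toRingHom hp0
      rw [map_zero, Polynomial.hom_eval₂] at h3
      have h4 : γ.toRingHom.comp (χ.toRingHom.comp (algebraMap R (R ⊗[A] A'))) = α.comp ι := by
        ext r
        change γ (χ (r ⊗ₜ 1)) = α (ι r)
        rw [Algebra.TensorProduct.map_tmul, map_one, Algebra.TensorProduct.lift_tmul, map_one, mul_one]
        rfl
      rw [h4] at h3
      exact h3
    have hz4 : γ z = ∑ i, α (BL.repr z i) * β (b i) := by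
      conv_lhs => rw [hz1]
      rw [map_sum]
      exact Finset.sum_congr rfl fun i _ => Algebra.TensorProduct.lift_tmul _ _ _ _ _
    rw [hz4] at hz3
    choose r hr using hIC _ hz3
    refine ⟨∑ i, r i ⊗ₜ[A] b i, ?_⟩
    change χ (∑ i, r i ⊗ₜ[A] b i) = z
    rw [map_sum]
    conv_rhs => rw [hz1]
    refine Finset.sum_congr rfl fun i _ => ?_
    rw [Algebra.TensorProduct.map_tmul, ← hr i]
    rfl
  let g : spO A L ⟶ spO A R := AdFn.specOfHom ρ ρ' ι hρ
  have hg : g.left = Spec.map (CommRingCat.ofHom ιa.toRingHom) := rfl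
  have h5 := io_naturality A A' ιa g hg
  have h6 : ((Over.pullback (fA A A')).map g).left =
      (io A A' L).inv ≫ Spec.map (CommRingCat.ofHom χ.toRingHom) ≫ (io A A' R).hom := by
    rw [Iso.eq_inv_comp]
    exact h5
  change SecExt ((Over.pullback (fA A A')).map g).left
  rw [h6]
  exact (hs.comp_iso (io A A' R)).iso_comp (io A A' L).symm

end K827.IntBC
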