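import Mathlib.AlgebraicGeometry.PointsPi
import Mathlib.AlgebraicGeometry.Morphisms.FlatRank
import Mathlib.RingTheory.Finiteness.ModuleFinitePresentation
import Mathlib.RingTheory.Flat.EquationalCriterion

/-!
# Finite locally free schemes over `Spec ∏ R_i`

`PF h` for `h i : Xi i ⟶ X`: maps from `X` to affine schemes are families of maps from the `Xi i`.
`pf_of_isPullback`: if `q : X ⟶ Spec ∏ R_i` is finite, flat and locally of finite presentation then the base changes
`Xi i` of `X` to `Spec (R i)` form such a family.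
-/

set_option autoImplicit false

universe u v

open CategoryTheory CategoryTheory.Limits AlgebraicGeometry TensorProduct

namespace K827.ProdFam

variable {I : Type u}

/-- Maps from `X` to affine schemes are families of maps from the `Xi i`. -/
structure PF {X : Scheme.{u}} {Xi : I → Scheme.{u}} (h : ∀ i, Xi i ⟶ X) : Prop where
  inj : ∀ {Z : Scheme.{u}} [IsAffine Z] (g g' : X ⟶ Z), (∀ i, h i ≫ g = h i ≫ g') → g = g'
  surj : ∀ {Z : Scheme.{u}} [IsAffine Z] (g : ∀ i, Xi i ⟶ Z), ∃ g' : X ⟶ Z, ∀ i, h i ≫ g' = g i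

theorem pf_spec (M : Type u) [CommRing M] (N : I → Type u) [∀ i, CommRing (N i)] (χ : ∀ i, M →+* N i)
    (hχ : Function.Bijective (fun (m : M) (i : I) => χ i m)) :
    PF (fun i => Spec.map (CommRingCat.ofHom (χ i))) := by
  constructor
  · intro Z _ g g' h
    obtain ⟨φ, hφ⟩ := Spec.map_surjective (g ≫ Z.isoSpec.hom)
    obtain ⟨φ', hφ'⟩ := Spec.map_surjective (g' ≫ Z.isoSpec.hom)
    rw [← cancel_mono Z.isoSpec.hom, ← hφ, ← hφ']
    congr 1
    ext z
    apply hχ.1
    funext i
    have h1 : Spec.map (CommRingCat.ofHom (χ i)) ≫ Spec.map φ = Spec.map (CommRingCat.ofHom (χ i)) ≫ Spec.map φ' := by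
      rw [hφ, hφ', reassoc_of% h i]
    rw [← Spec.map_comp, ← Spec.map_comp] at h1
    have h2 := Spec.map_injective h1
    exact ConcreteCategory.congr_hom h2 z
  · intro Z _ g
    have h0 : ∀ i, ∃ φ, Spec.map φ = g i ≫ Z.isoSpec.hom := fun i => Spec.map_surjective _
    choose φ hφ using h0
    let e : M ≃+* (∀ i, N i) := RingEquiv.ofBijective (RingHom.pi χ) hχ
    let ψ : Γ(Z, ⊤) →+* M := (e.symm : (∀ i, N i) →+* M).comp (RingHom.pi fun i => (φ i).hom)
    refine ⟨Spec.map (CommRingCat.ofHom ψ) ≫ Z.isoSpec.inv, fun i => ?_⟩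
    rw [← cancel_mono Z.isoSpec.hom, Category.assoc, Category.assoc, Z.isoSpec.inv_hom_id]
    refine (congrArg (Spec.map (CommRingCat.ofHom (χ i)) ≫ ·) (Category.comp_id _)).trans ?_
    rw [← hφ i, ← Spec.map_comp]
    congr 1
    ext z
    change χ i (e.symm (fun i => (φ i).hom z)) = (φ i).hom z
    exact congrFun (e.apply_symm_apply (fun i => (φ i).hom z)) i

theorem PF.of_iso {X X' : Scheme.{u}} {Xi Xi' : I → Scheme.{u}} {h : ∀ i, Xi i ⟶ X} {h' : ∀ i, Xi' i ⟶ X'}
    (e : X' ≅ X) (ei : ∀ i, Xi' i ≅ Xi i) (w : ∀ i, h' i ≫ e.hom = (ei i).hom ≫ h i) (H : PF h) : PF h' := by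
  constructor
  · intro Z _ g g' hg
    rw [← cancel_epi e.inv]
    apply H.inj
    intro i
    rw [← cancel_epi (ei i).hom, ← Category.assoc, ← w, Category.assoc, e.hom_inv_id_assoc, hg,
      ← Category.assoc (ei i).hom, ← w, Category.assoc, e.hom_inv_id_assoc]
  · intro Z _ g
    obtain ⟨g', hg'⟩ := H.surj (fun i => (ei i).inv ≫ g i)
    refine ⟨e.hom ≫ g', fun i => ?_⟩
    rw [← Category.assoc, w, Category.assoc, hg', Iso.hom_inv_id_assoc]

section algebra

variable (R : I → Type u) [∀ i, CommRing (R i)]

/-- `R i` as an algebra over the product. -/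
abbrev evalAlg (i : I) : Algebra (∀ i, R i) (R i) := (Pi.evalRingHom R i).toAlgebra

theorem tmul_eq_zero_of_eval (n : ℕ) (i : I) (w : Fin n → ∀ i, R i) (h : ∀ j, w j i = 0) :
    letI := evalAlg R
    (w ⊗ₜ[∀ i, R i] (1 : R i) : (Fin n → ∀ i, R i) ⊗[∀ i, R i] (R i)) = 0 := by
  classical
  letI := evalAlg R
  have h1 : w = (1 - Pi.single i (1 : R i) : ∀ i, R i) • w := by
    funext j k
    change w j k = (1 - (Pi.single i (1 : R i) : ∀ i, R i) k) * w j k
    by_cases hk : k = i
    · subst hk
      rw [h, mul_zero]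
    · rw [Pi.single_eq_of_ne hk, sub_zero, one_mul]
  rw [h1, TensorProduct.smul_tmul]
  have h2 : (1 - Pi.single i (1 : R i) : ∀ i, R i) • (1 : R i) = 0 := by
    change (1 - (Pi.single i (1 : R i) : ∀ i, R i) i) * 1 = 0
    rw [Pi.single_eq_same, sub_self, zero_mul]
  rw [h2, TensorProduct.tmul_zero]

/-- A finite projective module over a product of rings is the product of its base changes. -/
theorem bijective_of_projective (M : Type v) [AddCommGroup M] [Module (∀ i, R i) M] [Module.Finite (∀ i, R i) M]
    [Module.Projective (∀ i, R i) M] :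
    letI := evalAlg R
    Function.Bijective (fun (m : M) (i : I) => (m ⊗ₜ[∀ i, R i] (1 : R i) : M ⊗[∀ i, R i] (R i))) := by
  letI := evalAlg R
  obtain ⟨n, p, s, -, -, hs⟩ := Module.Finite.exists_comp_eq_id_of_projective (∀ i, R i) M
  have hps : ∀ m, p (s m) = m := fun m => LinearMap.congr_fun hs m
  -- the coordinates
  have key : ∀ (i : I) (x : Fin n → ∀ i, R i), (x ⊗ₜ[∀ i, R i] (1 : R i) : (Fin n → ∀ i, R i) ⊗[∀ i, R i] (R i)) = 0 →
      ∀ j, x j i = 0 := by
    intro i x hx j
    let l : (Fin n → ∀ i, R i) ⊗[∀ i, R i] (R i) →ₗ[∀ i, R i] R i :=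
      TensorProduct.lift ((LinearMap.lsmul (∀ i, R i) (R i)).comp (LinearMap.proj j))
    have h1 : l (x ⊗ₜ 1) = 0 := by rw [hx, map_zero]
    have h2 : l (x ⊗ₜ 1) = x j i * 1 := rfl
    rw [← mul_one (x j i), ← h2, h1]
  constructor
  · intro m m' h
    rw [← sub_eq_zero, ← hps (m - m')]
    have : s (m - m') = 0 := by
      funext j i
      apply key i
      have h1 : ((m - m') ⊗ₜ[∀ i, R i] (1 : R i) : M ⊗[∀ i, R i] (R i)) = 0 := by
        rw [TensorProduct.sub_tmul, sub_eq_zero]
        exact congrFun h i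
      have h2 := congrArg (LinearMap.rTensor (R i) s) h1
      rwa [LinearMap.rTensor_tmul, map_zero] at h2
    rw [this, map_zero]
  · intro y
    have hy : ∀ i, ∃ m : M, (m ⊗ₜ[∀ i, R i] (1 : R i) : M ⊗[∀ i, R i] (R i)) = y i := by
      classical
      intro i
      induction y i with
      | zero => exact ⟨0, TensorProduct.zero_tmul _ _⟩
      | add a b ha hb =>
        obtain ⟨m, hm⟩ := ha
        obtain ⟨m', hm'⟩ := hb
        exact ⟨m + m', by rw [TensorProduct.add_tmul, hm, hm']⟩
      | tmul m r =>
        refine ⟨(Pi.single i r : ∀ i, R i) • m, ?_⟩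
        rw [TensorProduct.smul_tmul]
        congr 1
        change (Pi.single i r : ∀ i, R i) i * 1 = r
        rw [Pi.single_eq_same, mul_one]
    choose m hm using hy
    let x : Fin n → ∀ i, R i := fun j i => s (m i) j i
    refine ⟨p x, ?_⟩
    funext i
    have h1 : (x ⊗ₜ[∀ i, R i] (1 : R i) : (Fin n → ∀ i, R i) ⊗[∀ i, R i] (R i)) = s (m i) ⊗ₜ 1 := by
      rw [← sub_eq_zero, ← TensorProduct.sub_tmul]
      apply tmul_eq_zero_of_eval
      intro j
      exact sub_self _
    have h2 := congrArg (LinearMap.rTensor (R i) p) h1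
    rw [LinearMap.rTensor_tmul, LinearMap.rTensor_tmul, hps, hm] at h2
    exact h2

end algebra

section geometry

variable (R : I → Type u) [∀ i, CommRing (R i)]

/-- The inclusion of a component of the spectrum of a product. -/
noncomputable abbrev ev (i : I) : Spec (CommRingCat.of (R i)) ⟶ Spec (CommRingCat.of (∀ i, R i)) :=
  Spec.map (CommRingCat.ofHom (Pi.evalRingHom R i))

/-- Finite locally free schemes over the spectrum of a product. -/
theorem pf_of_isPullback {X : Scheme.{u}} (q : X ⟶ Spec (CommRingCat.of (∀ i, R i))) [IsFinite q] [Flat q]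
    [LocallyOfFinitePresentation q] {Xi : I → Scheme.{u}} (h : ∀ i, Xi i ⟶ X)
    (qi : ∀ i, Xi i ⟶ Spec (CommRingCat.of (R i))) (sq : ∀ i, IsPullback (h i) (qi i) q (ev R i)) : PF h := by
  letI := evalAlg R
  have hX : IsAffine X := isAffine_of_isAffineHom q
  obtain ⟨φ, hφ⟩ := Spec.map_surjective (X.isoSpec.inv ≫ q)
  have h1 : IsFinite (Spec.map φ) := by rw [hφ]; infer_instance
  have h2 : Flat (Spec.map φ) := by rw [hφ]; infer_instance
  have h3 : LocallyOfFinitePresentation (Spec.map φ) := by rw [hφ]; infer_instance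
  rw [IsFinite.SpecMap_iff] at h1
  rw [Flat.SpecMap_iff] at h2
  rw [LocallyOfFinitePresentation.SpecMap_iff] at h3
  letI : Algebra (∀ i, R i) Γ(X, ⊤) := φ.hom.toAlgebra
  have f1 : Module.Finite (∀ i, R i) Γ(X, ⊤) := h1
  have f2 : Module.Flat (∀ i, R i) Γ(X, ⊤) := h2
  have f3 : Algebra.FinitePresentation (∀ i, R i) Γ(X, ⊤) := h3
  have f4 : Module.FinitePresentation (∀ i, R i) Γ(X, ⊤) := Module.FinitePresentation.of_finite_of_finitePresentation _ _
  have f5 : Module.Projective (∀ i, R i) Γ(X, ⊤) := Module.Flat.projective_of_finitePresentation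
  have hb := bijective_of_projective R Γ(X, ⊤)
  have H := pf_spec Γ(X, ⊤) (fun i => Γ(X, ⊤) ⊗[∀ i, R i] (R i))
    (fun i => Algebra.TensorProduct.includeLeftRingHom) hb
  have sq2 : ∀ i, IsPullback (Spec.map (CommRingCat.ofHom
      (Algebra.TensorProduct.includeLeftRingHom : Γ(X, ⊤) →+* Γ(X, ⊤) ⊗[∀ i, R i] (R i)))) 
      (Spec.map (CommRingCat.ofHom ((Algebra.TensorProduct.includeRight : 
        R i →ₐ[∀ i, R i] Γ(X, ⊤) ⊗[∀ i, R i] (R i)) : R i →+* _)))
      (Spec.map φ) (ev R i) := fun i =>
    isPullback_SpecMap_of_isPushout _ _ _ _ (CommRingCat.isPushout_tensorProduct (∀ i, R i) Γ(X, ⊤) (R i))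
  have sq3 : ∀ i, IsPullback (h i ≫ X.isoSpec.hom) (qi i) (Spec.map φ) (ev R i) := fun i =>
    (sq i).of_iso (Iso.refl _) X.isoSpec (Iso.refl _) (Iso.refl _) (by simp) (by simp) (by simp [hφ]) (by simp)
  refine H.of_iso X.isoSpec (fun i => (sq3 i).isoIsPullback _ _ (sq2 i)) fun i => ?_
  rw [IsPullback.isoIsPullback_hom_fst]

end geometry

section prodAlg

/-- The product of a family of rings (a type synonym, to avoid the pointwise action). -/
def PB (B : I → Type u) : Type u := ∀ i, B i

variable (R : I → Type u) [∀ i, CommRing (R i)] (B : I → Type u) [∀ i, CommRing (B i)] [∀ i, Algebra (R i) (B i)]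

noncomputable instance : CommRing (PB B) := inferInstanceAs (CommRing (∀ i, B i))

/-- The product of algebras over the product of rings. -/
noncomputable def prodMap : (∀ i, R i) →+* PB B :=
  RingHom.pi fun i => (algebraMap (R i) (B i)).comp (Pi.evalRingHom R i)

/-- The components of the product. -/
noncomputable def evB (i : I) : PB B →+* B i := Pi.evalRingHom B i

theorem evB_prodMap (i : I) (x : ∀ i, R i) : evB B i (prodMap R B x) = algebraMap (R i) (B i) (x i) := rfl

theorem PB.ext {x y : PB B} (h : ∀ i, evB B i x = evB B i y) : x = y := funext h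

theorem projective_prod (n : ℕ) (hproj : ∀ i, Module.Projective (R i) (B i))
    (hgen : ∀ i, ∃ p : (Fin n → R i) →ₗ[R i] B i, Function.Surjective p) :
    letI := (prodMap R B).toAlgebra
    Module.Finite (∀ i, R i) (PB B) ∧ Module.Projective (∀ i, R i) (PB B) := by
  letI := (prodMap R B).toAlgebra
  choose p hp using hgen
  have hs : ∀ i, ∃ s : B i →ₗ[R i] (Fin n → R i), (p i).comp s = LinearMap.id := fun i =>
    Module.projective_lifting_property (p i) LinearMap.id (hp i)
  choose s hs using hs
  let P : (Fin n → ∀ i, R i) →ₗ[∀ i, R i] PB B :=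
    { toFun := fun x i => p i (fun j => x j i)
      map_add' := fun x y => by
        apply PB.ext
        intro i
        exact map_add (p i) (fun j => x j i) (fun j => y j i)
      map_smul' := fun r x => by
        apply PB.ext
        intro i
        refine (map_smul (p i) (r i) (fun j => x j i)).trans ?_
        exact Algebra.smul_def _ _ }
  let Q : PB B →ₗ[∀ i, R i] (Fin n → ∀ i, R i) :=
    { toFun := fun b j i => s i (b i) j
      map_add' := fun x y => by
        funext j i
        exact congrFun (map_add (s i) (x i) (y i)) j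
      map_smul' := fun r x => by
        funext j i
        have h1 : (r • x) i = r i • x i := (Algebra.smul_def (r i) (x i)).symm
        change s i ((r • x) i) j = r i * s i (x i) j
        rw [h1, map_smul]
        rfl }
  have hPQ : P.comp Q = LinearMap.id := by
    apply LinearMap.ext
    intro b
    apply PB.ext
    intro i
    exact LinearMap.congr_fun (hs i) (b i)
  refine ⟨Module.Finite.of_surjective P fun b => ⟨Q b, LinearMap.congr_fun hPQ b⟩, ?_⟩
  exact Module.Projective.of_split Q P hPQ

theorem prodMap_injective (hinj : ∀ i, Function.Injective (algebraMap (R i) (B i))) :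
    Function.Injective (prodMap R B) := by
  intro x y h
  funext i
  exact hinj i (congrFun h i)

open Classical in
/-- Elements of the product supported in one component. -/
noncomputable def sg (i : I) (b : B i) : PB B := (Pi.single i b : ∀ i, B i)

theorem evB_sg (i : I) (b : B i) : evB B i (sg B i b) = b := by
  classical
  exact Pi.single_eq_same i b

theorem sg_mul (i : I) (b b' : B i) : sg B i (b * b') = sg B i b * sg B i b' := by
  classical
  exact Pi.single_mul i b b'

theorem sg_add (i : I) (b b' : B i) : sg B i (b + b') = sg B i b + sg B i b' := by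
  classical
  exact Pi.single_add i b b'

theorem mul_sg_one (i : I) (x : PB B) : x * sg B i 1 = sg B i (evB B i x) := by
  classical
  apply PB.ext
  intro k
  change x k * (Pi.single i (1 : B i) : ∀ i, B i) k = (Pi.single i (x i) : ∀ i, B i) k
  by_cases hk : k = i
  · subst hk
    rw [Pi.single_eq_same, Pi.single_eq_same, mul_one]
  · rw [Pi.single_eq_of_ne hk, Pi.single_eq_of_ne hk, mul_zero]

open Classical in
theorem prodMap_single (i : I) (r : R i) : prodMap R B (Pi.single i r) = sg B i (algebraMap (R i) (B i) r) := by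
  apply PB.ext
  intro k
  change algebraMap (R k) (B k) ((Pi.single i r : ∀ i, R i) k) = (Pi.single i (algebraMap (R i) (B i) r) : ∀ i, B i) k
  by_cases hk : k = i
  · subst hk
    rw [Pi.single_eq_same, Pi.single_eq_same]
  · rw [Pi.single_eq_of_ne hk, Pi.single_eq_of_ne hk, map_zero]

theorem isPullback_prod (i : I) :
    IsPullback (Spec.map (CommRingCat.ofHom (evB B i))) (Spec.map (CommRingCat.ofHom (algebraMap (R i) (B i))))
      (Spec.map (CommRingCat.ofHom (prodMap R B))) (ev R i) := by
  classical
  apply isPullback_SpecMap_of_isPushout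
  have key : ∀ s : PushoutCocone (CommRingCat.ofHom (prodMap R B)) (CommRingCat.ofHom (Pi.evalRingHom R i)),
      ∀ r : R i, s.inl.hom (sg B i (algebraMap (R i) (B i) r)) = s.inr.hom r := by
    intro s r
    rw [← prodMap_single]
    have h := ConcreteCategory.congr_hom s.condition (Pi.single i r : ∀ i, R i)
    refine h.trans ?_
    change s.inr.hom ((Pi.single i r : ∀ i, R i) i) = _
    rw [Pi.single_eq_same]
  have key1 : ∀ s : PushoutCocone (CommRingCat.ofHom (prodMap R B)) (CommRingCat.ofHom (Pi.evalRingHom R i)),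
      s.inl.hom (sg B i 1) = 1 := by
    intro s
    have h := key s 1
    rwa [map_one, map_one] at h
  refine ⟨⟨by ext x; rfl⟩, ⟨PushoutCocone.IsColimit.mk _ (fun s => ?_) ?_ ?_ ?_⟩⟩
  · exact CommRingCat.ofHom
      { toFun := fun b => s.inl.hom (sg B i b)
        map_one' := key1 s
        map_mul' := fun b b' => by rw [sg_mul, map_mul]
        map_zero' := by
          have : sg B i 0 = 0 := Pi.single_zero i
          rw [this, map_zero]
        map_add' := fun b b' => by rw [sg_add, map_add] }
  · intro s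
    ext x
    change s.inl.hom (sg B i (evB B i x)) = s.inl.hom x
    rw [← mul_sg_one, map_mul, key1, mul_one]
  · intro s
    ext r
    exact key s r
  · intro s m h1 h2
    ext b
    change m.hom b = s.inl.hom (sg B i b)
    rw [← h1]
    change m.hom b = m.hom (evB B i (sg B i b))
    rw [evB_sg]

theorem prod_props (n : ℕ) (hproj : ∀ i, Module.Projective (R i) (B i))
    (hgen : ∀ i, ∃ p : (Fin n → R i) →ₗ[R i] B i, Function.Surjective p)
    (hinj : ∀ i, Function.Injective (algebraMap (R i) (B i))) :
    IsFinite (Spec.map (CommRingCat.ofHom (prodMap R B))) ∧ Flat (Spec.map (CommRingCat.ofHom (prodMap R B))) ∧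
      LocallyOfFinitePresentation (Spec.map (CommRingCat.ofHom (prodMap R B))) ∧
      Surjective (Spec.map (CommRingCat.ofHom (prodMap R B))) := by
  letI := (prodMap R B).toAlgebra
  obtain ⟨h1, h2⟩ := projective_prod R B n hproj hgen
  have h3 : Module.Flat (∀ i, R i) (PB B) := inferInstance
  have h4 : Module.FinitePresentation (∀ i, R i) (PB B) := Module.finitePresentation_of_projective _ _
  have h5 : Algebra.FinitePresentation (∀ i, R i) (PB B) := inferInstance
  have h6 : Algebra.IsIntegral (∀ i, R i) (PB B) := inferInstance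
  refine ⟨?_, ?_, ?_, ?_⟩
  · rw [IsFinite.SpecMap_iff]
    exact h1
  · rw [Flat.SpecMap_iff]
    exact h3
  · rw [LocallyOfFinitePresentation.SpecMap_iff]
    exact h5
  · have : FaithfulSMul (∀ i, R i) (PB B) := by
      rw [faithfulSMul_iff_algebraMap_injective]
      exact prodMap_injective R B hinj
    exact ⟨Algebra.IsIntegral.comap_surjective (∀ i, R i) (PB B)⟩

end prodAlg

end K827.ProdFam
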