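import Groth.Prelude.Def_AdFn
import Mathlib.AlgebraicGeometry.PointsPi
import Mathlib.AlgebraicGeometry.Morphisms.FiniteType
import Mathlib.AlgebraicGeometry.Morphisms.Separated

set_option autoImplicit false
universe u

open CategoryTheory CategoryTheory.Limits AlgebraicGeometry Opposite

namespace K827.Pts

variable {O : Type u} [CommRing O]

/-- Two points of a separated scheme with values in a ring agree if they agree after a jointly injective
family of ring maps. -/
theorem ext_of_jointly_injective (X : Over (Spec (CommRingCat.of O))) [IsSeparated X.hom]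
    {A : Type u} [CommRing A] (φ : O →+* A) {I : Type*} (B : I → Type u) [∀ i, CommRing (B i)]
    (ψ : ∀ i, O →+* B i) (χ : ∀ i, A →+* B i) (hχ : ∀ i, (χ i).comp φ = ψ i)
    (hinj : ∀ a : A, (∀ i, χ i a = 0) → a = 0)
    (y y' : AdFn.specOf φ ⟶ X)
    (h : ∀ i, AdFn.specOfHom φ (ψ i) (χ i) (hχ i) ≫ y = AdFn.specOfHom φ (ψ i) (χ i) (hχ i) ≫ y') :
    y = y' := by
  have hcl : IsClosedImmersion (equalizer.ι y y').left := inferInstance
  obtain ⟨J, e, he⟩ := IsClosedImmersion.Spec_iff.mp hcl
  have hJ : J = ⊥ := by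
    refine le_bot_iff.mp fun a ha => ?_
    refine hinj a fun i => ?_
    let w : AdFn.specOf (ψ i) ⟶ equalizer y y' :=
      equalizer.lift (AdFn.specOfHom φ (ψ i) (χ i) (hχ i)) (h i)
    have hw : w.left ≫ (equalizer.ι y y').left = Spec.map (CommRingCat.ofHom (χ i)) := by
      have : w ≫ equalizer.ι y y' = AdFn.specOfHom φ (ψ i) (χ i) (hχ i) := equalizer.lift_ι _ _
      exact congrArg (fun f => f.left) this
    rw [he, ← Category.assoc] at hw
    obtain ⟨g, hg⟩ : ∃ g : CommRingCat.of (A ⧸ J) ⟶ CommRingCat.of (B i), Spec.map g = w.left ≫ e.hom :=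
      ⟨Spec.preimage _, Spec.map_preimage _⟩
    rw [← hg] at hw
    have hw' : Spec.map (CommRingCat.ofHom (Ideal.Quotient.mk J) ≫ g) =
        Spec.map (CommRingCat.ofHom (χ i)) := by rw [Spec.map_comp]; exact hw
    have hw2 := Spec.map_injective hw'
    have hw3 := congrArg (fun f => f.hom a) hw2
    have : g.hom (Ideal.Quotient.mk J a) = χ i a := hw3
    rw [← this, Ideal.Quotient.eq_zero_iff_mem.mpr ha, map_zero]
  subst hJ
  have : IsIso (equalizer.ι y y').left := by
    rw [he]
    have : IsIso (Spec.map (CommRingCat.ofHom (Ideal.Quotient.mk (⊥ : Ideal A)))) := by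
      have hb : Function.Bijective (Ideal.Quotient.mk (⊥ : Ideal A)) :=
        (RingEquiv.quotientBot A).symm.bijective
      have : IsIso (CommRingCat.ofHom (Ideal.Quotient.mk (⊥ : Ideal A))) :=
        (RingEquiv.ofBijective _ hb).toCommRingCatIso.isIso_hom
      infer_instance
    infer_instance
  have h2 := equalizer.condition y y'
  ext1
  have h3 : (equalizer.ι y y').left ≫ y.left = (equalizer.ι y y').left ≫ y'.left :=
    congrArg (fun f => f.left) h2
  rwa [cancel_epi] at h3

/-- Points with values in a product of local rings. -/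
theorem exists_point_pi (X : Over (Spec (CommRingCat.of O))) [QuasiCompact X.hom]
    {I : Type u} (R : I → Type u) [∀ i, CommRing (R i)] [∀ i, IsLocalRing (R i)] (ψ : ∀ i, O →+* R i)
    (x : ∀ i, AdFn.specOf (ψ i) ⟶ X) :
    ∃ y : AdFn.specOf (RingHom.pi ψ) ⟶ X,
      ∀ i, AdFn.specOfHom (RingHom.pi ψ) (ψ i) (Pi.evalRingHom R i) rfl ≫ y = x i := by
  have : CompactSpace X.left := by
    have : CompactSpace (Spec (CommRingCat.of O)) := inferInstance
    exact QuasiCompact.compactSpace_of_compactSpace X.hom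
  have : ∀ i, IsLocalRing (CommRingCat.of (R i)) := fun i => by
    change IsLocalRing (R i); infer_instance
  obtain ⟨y, hy⟩ := pointsPi_surjective (fun i => CommRingCat.of (R i)) X.left (fun i => (x i).left)
  have hw : y ≫ X.hom = Spec.map (CommRingCat.ofHom (RingHom.pi ψ)) := by
    apply pointsPi_injective (fun i => CommRingCat.of (R i))
    funext i
    have h1 := congrFun hy i
    simp only [pointsPi] at h1 ⊢
    rw [← Category.assoc, h1, ← Spec.map_comp, ← CommRingCat.ofHom_comp]
    exact Over.w (x i)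
  refine ⟨Over.homMk y hw, fun i => ?_⟩
  ext1
  exact congrFun hy i

theorem exists_isUnit_of_sum_eq_one {R : Type*} [CommRing R] [IsLocalRing R] {J : Type*} (t : Finset J)
    (a : J → R) (h : ∑ j ∈ t, a j = 1) : ∃ j ∈ t, IsUnit (a j) := by
  by_contra hcon
  push Not at hcon
  have h1 : (1 : R) ∈ IsLocalRing.maximalIdeal R := by
    rw [← h]
    exact Ideal.sum_mem _ fun j hj => (IsLocalRing.mem_maximalIdeal _).2 (hcon j hj)
  exact (IsLocalRing.mem_maximalIdeal _).1 h1 isUnit_one

/-- The chart data of a point of `X` near a point `p` of `Spec A`. -/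
theorem exists_chart (X : Over (Spec (CommRingCat.of O))) [LocallyOfFiniteType X.hom]
    {A : Type u} [CommRing A] (φ : O →+* A) (y : AdFn.specOf φ ⟶ X) (p : PrimeSpectrum A) :
    ∃ (f : A) (B : CommRingCat.{u}) (j : Spec B ⟶ X.left) (ρ : O →+* B)
      (θ : B →+* Localization.Away f), p ∈ PrimeSpectrum.basicOpen f ∧ ρ.FiniteType ∧
      j ≫ X.hom = Spec.map (CommRingCat.ofHom ρ) ∧
      Spec.map (CommRingCat.ofHom θ) ≫ j =
        Spec.map (CommRingCat.ofHom (algebraMap A (Localization.Away f))) ≫ y.left := by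
  obtain ⟨W, hW, hpW, -⟩ := exists_isAffineOpen_mem_and_subset (X := X.left) (x := y.left.base p)
    (U := ⊤) trivial
  obtain ⟨_, ⟨f, rfl⟩, hpf, hfW⟩ := PrimeSpectrum.isTopologicalBasis_basic_opens.exists_subset_of_mem_open
    (show p ∈ (y.left ⁻¹ᵁ W : (Spec (CommRingCat.of A)).Opens).1 from hpW) (y.left ⁻¹ᵁ W).2
  have hrange : Set.range (Spec.map (CommRingCat.ofHom (algebraMap A (Localization.Away f))) ≫ y.left) ⊆
      Set.range hW.fromSpec := by
    rw [hW.range_fromSpec]
    rintro _ ⟨q, rfl⟩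
    refine hfW ?_
    have := PrimeSpectrum.localization_away_comap_range (Localization.Away f) f
    exact this.le ⟨q, rfl⟩
  have hft : LocallyOfFiniteType (hW.fromSpec ≫ X.hom) := inferInstance
  have hρ : Spec.map (Spec.preimage (hW.fromSpec ≫ X.hom)) = hW.fromSpec ≫ X.hom := Spec.map_preimage _
  rw [← hρ] at hft
  refine ⟨f, Γ(X.left, W), hW.fromSpec, (Spec.preimage (hW.fromSpec ≫ X.hom)).hom,
    (Spec.preimage (IsOpenImmersion.lift hW.fromSpec _ hrange)).hom, hpf, ?_, ?_, ?_⟩
  · exact (HasRingHomProperty.Spec_iff (P := @LocallyOfFiniteType)).1 hft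
  · exact hρ.symm
  · change Spec.map (Spec.preimage _) ≫ _ = _
    rw [Spec.map_preimage, IsOpenImmersion.lift_fac]

/-- A point of `X` (locally of finite type) with values in a "restricted product" ring `A` is integral at almost all places. -/
theorem eventually_integral (X : Over (Spec (CommRingCat.of O))) [LocallyOfFiniteType X.hom]
    {A : Type u} [CommRing A] (φ : O →+* A) {I : Type*} (L : I → Type u) [∀ i, CommRing (L i)]
    (V : ∀ i, Subring (L i)) [∀ i, IsLocalRing (V i)] (χ : ∀ i, A →+* L i)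
    (hχ : ∀ a : A, ∀ᶠ i in Filter.cofinite, χ i a ∈ V i) (y : AdFn.specOf φ ⟶ X) :
    ∀ᶠ i in Filter.cofinite, ∀ (τ : O →+* V i) (hτ : (V i).subtype.comp τ = (χ i).comp φ),
      ∃ z : AdFn.specOf τ ⟶ X,
        AdFn.specOfHom τ ((χ i).comp φ) (V i).subtype hτ ≫ z =
          AdFn.specOfHom φ ((χ i).comp φ) (χ i) rfl ≫ y := by
  choose f B j ρ θ hpf hρ hj hθ using exists_chart X φ y
  have hspan : (1 : A) ∈ Ideal.span (Set.range f) := by
    by_contra hcon
    obtain ⟨m, hm, hle⟩ := Ideal.exists_le_maximal (Ideal.span (Set.range f))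
      (fun h => hcon (by rw [h]; trivial))
    have h0 := hpf ⟨m, hm.isPrime⟩
    exact h0 (hle (Ideal.subset_span ⟨⟨m, hm.isPrime⟩, rfl⟩))
  obtain ⟨c, hc⟩ := Finsupp.mem_ideal_span_range_iff_exists_finsupp.1 hspan
  rw [Finsupp.sum] at hc
  -- generators of `B p`
  have hgen : ∀ p, ∃ s : Finset (B p), @Algebra.adjoin O (B p) _ _ (ρ p).toAlgebra (s : Set (B p)) = ⊤ := by
    intro p
    exact (hρ p).out
  choose s hs using hgen
  have hsurj : ∀ p (b : B p), ∃ (n : ℕ) (a : A), θ p b * algebraMap A (Localization.Away (f p)) (f p ^ n) =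
      algebraMap A _ a := by
    intro p b
    obtain ⟨⟨a, ⟨_, n, rfl⟩⟩, h⟩ := IsLocalization.surj (Submonoid.powers (f p)) (θ p b)
    exact ⟨n, a, h⟩
  choose n a hna using hsurj
  have h1 : ∀ᶠ i in Filter.cofinite, ∀ p ∈ c.support, χ i (c p) ∈ V i ∧ χ i (f p) ∈ V i ∧
      ∀ b ∈ s p, χ i (a p b) ∈ V i := by
    rw [Filter.eventually_all_finset]
    intro p hp
    refine (hχ _).and ((hχ _).and ?_)
    rw [Filter.eventually_all_finset]
    intro b hb
    exact hχ _
  filter_upwards [h1] with i hi τ hτ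
  -- find a `p` such that `f p` is a unit at `i`
  classical
  let g : PrimeSpectrum A → V i := fun p =>
    if hp : p ∈ c.support then ⟨χ i (c p * f p), by
      rw [map_mul]; exact mul_mem (hi p hp).1 (hi p hp).2.1⟩ else 0
  have hg : ∑ p ∈ c.support, g p = 1 := by
    apply (V i).subtype_injective
    rw [map_sum, map_one, ← map_one (χ i), ← hc, map_sum]
    refine Finset.sum_congr rfl fun p hp => ?_
    simp only [g, dif_pos hp]
    rfl
  obtain ⟨p, hp, hu⟩ := exists_isUnit_of_sum_eq_one _ _ hg
  obtain ⟨hcp, hfp, hap⟩ := hi p hp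
  have hgp : g p = ⟨χ i (c p), hcp⟩ * ⟨χ i (f p), hfp⟩ := by
    simp only [g, dif_pos hp]
    apply (V i).subtype_injective
    simp
  rw [hgp] at hu
  have huf : IsUnit (⟨χ i (f p), hfp⟩ : V i) := isUnit_of_mul_isUnit_right hu
  obtain ⟨u, huu⟩ := huf
  have huL : IsUnit (χ i (f p)) := by
    have := (u.isUnit).map (V i).subtype
    rw [huu] at this
    exact this
  let lam : Localization.Away (f p) →+* L i := IsLocalization.Away.lift (f p) huL
  have hlam : ∀ x, lam (algebraMap A _ x) = χ i x := fun x => IsLocalization.Away.lift_eq _ _ x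
  let ψ : B p →+* L i := lam.comp (θ p)
  have hψρ : ψ.comp (ρ p) = (χ i).comp φ := by
    have h2 : Spec.map (CommRingCat.ofHom ((θ p).comp (ρ p))) =
        Spec.map (CommRingCat.ofHom ((algebraMap A (Localization.Away (f p))).comp φ)) := by
      rw [CommRingCat.ofHom_comp, Spec.map_comp, CommRingCat.ofHom_comp, Spec.map_comp, ← hj,
        ← Category.assoc]
      erw [hθ p]
      rw [Category.assoc, Over.w y]
      rfl
    have h3 := congrArg CommRingCat.Hom.hom (Spec.map_injective h2)
    have h4 : (θ p).comp (ρ p) = (algebraMap A (Localization.Away (f p))).comp φ := h3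
    change (lam.comp (θ p)).comp (ρ p) = _
    rw [RingHom.comp_assoc, h4]
    ext x
    exact hlam _
  have hψ : ∀ b, ψ b ∈ V i := by
    intro b
    let _ := (ρ p).toAlgebra
    have hb : b ∈ Algebra.adjoin O (s p : Set (B p)) := by rw [hs p]; trivial
    induction hb using Algebra.adjoin_induction with
    | mem x hx =>
      have h5 := congrArg lam (hna p x)
      rw [map_mul, hlam, hlam] at h5
      have h6 : ψ x = χ i (a p x) * (V i).subtype ((u⁻¹ : (V i)ˣ) : V i) ^ n p x := by
        rw [← h5, map_pow, mul_assoc, ← mul_pow]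
        have : χ i (f p) * (V i).subtype ((u⁻¹ : (V i)ˣ) : V i) = 1 := by
          have h7 : χ i (f p) = (V i).subtype (u : V i) := by rw [huu]; rfl
          rw [h7, ← map_mul, Units.mul_inv, map_one]
        rw [this, one_pow, mul_one]
        rfl
      rw [h6]
      exact mul_mem (hap x hx) (pow_mem (Subtype.property _) _)
    | algebraMap r =>
      have : ψ (ρ p r) = (V i).subtype (τ r) := by
        rw [← RingHom.comp_apply, hψρ, ← hτ]; rfl
      change ψ (ρ p r) ∈ V i
      rw [this]
      exact Subtype.property _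
    | add x y _ _ hx hy => rw [map_add]; exact add_mem hx hy
    | mul x y _ _ hx hy => rw [map_mul]; exact mul_mem hx hy
  let ζ : B p →+* V i := ψ.codRestrict (V i) hψ
  have hζ : (V i).subtype.comp ζ = ψ := rfl
  have hζρ : ζ.comp (ρ p) = τ := by
    ext x
    have h8 : (V i).subtype (ζ (ρ p x)) = (V i).subtype (τ x) := by
      change ψ (ρ p x) = _
      rw [← RingHom.comp_apply, hψρ, ← hτ]; rfl
    exact h8
  refine ⟨Over.homMk (Spec.map (CommRingCat.ofHom ζ) ≫ j p) ?_, ?_⟩
  · rw [Category.assoc, hj, ← Spec.map_comp, ← CommRingCat.ofHom_comp, hζρ]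
    rfl
  · ext1
    change Spec.map (CommRingCat.ofHom (V i).subtype) ≫ Spec.map (CommRingCat.ofHom ζ) ≫ j p =
      Spec.map (CommRingCat.ofHom (χ i)) ≫ y.left
    have h9 : (χ i) = lam.comp (algebraMap A (Localization.Away (f p))) := by
      ext x; exact (hlam x).symm
    rw [← Spec.map_comp_assoc, ← CommRingCat.ofHom_comp, hζ, h9]
    change Spec.map (CommRingCat.ofHom (lam.comp (θ p))) ≫ _ = _
    rw [CommRingCat.ofHom_comp, Spec.map_comp_assoc, CommRingCat.ofHom_comp (algebraMap A (Localization.Away (f p))) lam,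
      Spec.map_comp_assoc]
    exact congrArg (fun t => Spec.map (CommRingCat.ofHom lam) ≫ t) (hθ p)

end K827.Pts
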